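import Mathlib.GroupTheory.GroupAction.MultipleTransitivity
import Mathlib.GroupTheory.Solvable
import Mathlib.GroupTheory.Perm.Cycle.Type
import Mathlib.Algebra.Polynomial.Taylor
import Mathlib.LinearAlgebra.Lagrange
import Mathlib.LinearAlgebra.Vandermonde
import Mathlib.FieldTheory.Finite.Basic

/-!
# Burnside's theorem on transitive groups of prime degree

If a permutation of `ZMod p` preserves a proper nonempty set `S` of differences, then it is affine.
The proof uses the shift operator `φ ↦ ∑ s ∈ S, (φ (· + s) - φ)` on functions, viewed as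
polynomials of degree less than `p`.
-/

set_option autoImplicit false

open Polynomial

namespace Cfsg.Agent.FGS80.Burnside

variable {p : ℕ} [hp : Fact p.Prime]

/-- The polynomial form of the shift operator of `S`. -/
noncomputable def shiftPoly (S : Finset (ZMod p)) (P : (ZMod p)[X]) : (ZMod p)[X] :=
  ∑ s ∈ S, (taylor s P - P)

/-- The shift operator of `S` on functions. -/
def shiftOp (S : Finset (ZMod p)) (φ : ZMod p → ZMod p) : ZMod p → ZMod p :=
  fun x => ∑ s ∈ S, (φ (x + s) - φ x)

lemma eval_shiftPoly (S : Finset (ZMod p)) (P : (ZMod p)[X]) (x : ZMod p) :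
    (shiftPoly S P).eval x = shiftOp S (fun y => P.eval y) x := by
  simp [shiftPoly, shiftOp, eval_finset_sum, taylor_eval]

lemma coeff_shiftPoly (S : Finset (ZMod p)) (P : (ZMod p)[X]) (j : ℕ) :
    (shiftPoly S P).coeff j = ∑ l ∈ Finset.range P.natDegree,
      ((l + 1 + j).choose j : ZMod p) * P.coeff (l + 1 + j) * ∑ s ∈ S, s ^ (l + 1) := by
  have hdeg : (hasseDeriv j P).natDegree < P.natDegree + 1 := by
    have := natDegree_hasseDeriv_le P j
    omega
  simp only [shiftPoly, finset_sum_coeff, coeff_sub, taylor_coeff,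
    eval_eq_sum_range' hdeg, hasseDeriv_coeff]
  simp only [Finset.sum_range_succ' _ P.natDegree, Nat.zero_add, Nat.choose_self, Nat.cast_one,
    one_mul, pow_zero, mul_one, add_sub_cancel_right]
  rw [Finset.sum_comm]
  simp only [← Finset.mul_sum]

lemma eq_of_eval_eq {P Q : (ZMod p)[X]} (hP : P.natDegree < p) (hQ : Q.natDegree < p)
    (h : ∀ x, P.eval x = Q.eval x) : P = Q := by
  refine sub_eq_zero.mp (eq_zero_of_natDegree_lt_card_of_eval_eq_zero (P - Q)
    (f := (id : ZMod p → ZMod p)) Function.injective_id (fun i => ?_) ?_)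
  · simp [h i]
  · rw [ZMod.card]
    exact (natDegree_sub_le P Q).trans_lt (max_lt hP hQ)

lemma exists_poly (φ : ZMod p → ZMod p) :
    ∃ P : (ZMod p)[X], P.natDegree < p ∧ ∀ x, P.eval x = φ x := by
  classical
  refine ⟨Lagrange.interpolate Finset.univ id φ, ?_, fun x =>
    Lagrange.eval_interpolate_at_node φ (Function.injective_id.injOn) (Finset.mem_univ x)⟩
  rcases eq_or_ne (Lagrange.interpolate Finset.univ id φ) 0 with h | h
  · rw [h, natDegree_zero]; exact hp.out.pos
  · rw [natDegree_lt_iff_degree_lt h]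
    refine (Lagrange.degree_interpolate_lt φ Function.injective_id.injOn).trans_le ?_
    simp [ZMod.card]

section kernel

variable {S : Finset (ZMod p)} {w : ℕ} (hw1 : 1 ≤ w)
  (hlow : ∀ j, 1 ≤ j → j < w → ∑ s ∈ S, s ^ j = 0)

include hlow

lemma coeff_shiftPoly_high (P : (ZMod p)[X]) {j : ℕ} (hj : P.natDegree < j + w) :
    (shiftPoly S P).coeff j = 0 := by
  rw [coeff_shiftPoly]
  refine Finset.sum_eq_zero fun l _ => ?_
  rcases lt_or_ge (l + 1) w with h | h
  · rw [hlow _ (by omega) h, mul_zero]
  · rw [coeff_eq_zero_of_natDegree_lt (show P.natDegree < l + 1 + j by omega), mul_zero, zero_mul]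

lemma shiftPoly_eq_zero (P : (ZMod p)[X]) (hP : P.natDegree < w) : shiftPoly S P = 0 := by
  ext j
  rw [coeff_shiftPoly_high hlow P (by omega), coeff_zero]

lemma natDegree_shiftPoly_le (P : (ZMod p)[X]) :
    (shiftPoly S P).natDegree ≤ P.natDegree - w :=
  natDegree_le_iff_coeff_eq_zero.mpr fun _ hj => coeff_shiftPoly_high hlow P (by omega)

include hw1

lemma coeff_shiftPoly_top (P : (ZMod p)[X]) (hwP : w ≤ P.natDegree) :
    (shiftPoly S P).coeff (P.natDegree - w) =
      (P.natDegree.choose w : ZMod p) * P.leadingCoeff * ∑ s ∈ S, s ^ w := by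
  rw [coeff_shiftPoly, Finset.sum_eq_single (w - 1)]
  · rw [show w - 1 + 1 = w by omega, show w + (P.natDegree - w) = P.natDegree by omega,
      Nat.choose_symm hwP]
    rfl
  · intro l _ hl
    rcases lt_or_ge (l + 1) w with h | h
    · rw [hlow _ (by omega) h, mul_zero]
    · rw [coeff_eq_zero_of_natDegree_lt
        (show P.natDegree < l + 1 + (P.natDegree - w) by omega), mul_zero, zero_mul]
  · intro h
    exact absurd (Finset.mem_range.mpr (by omega)) h

lemma natDegree_lt_of_shiftOp_eq_zero (hσ : ∑ s ∈ S, s ^ w ≠ 0) (P : (ZMod p)[X])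
    (hP : P.natDegree < p) (h : ∀ x, shiftOp S (fun y => P.eval y) x = 0) : P.natDegree < w := by
  by_contra hge
  rw [not_lt] at hge
  have h0 : shiftPoly S P = 0 := by
    refine eq_of_eval_eq ((natDegree_shiftPoly_le hlow P).trans_lt (by omega))
      (by rw [natDegree_zero]; exact hp.out.pos) fun x => ?_
    rw [eval_shiftPoly, h, eval_zero]
  have h1 := coeff_shiftPoly_top hw1 hlow P hge
  rw [h0, coeff_zero] at h1
  refine mul_ne_zero (mul_ne_zero ?_ ?_) hσ h1.symm
  · rw [Ne, ZMod.natCast_eq_zero_iff]
    intro hd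
    have h2 : p ∣ P.natDegree.factorial := by
      rw [← Nat.choose_mul_factorial_mul_factorial hge, mul_assoc]
      exact Dvd.dvd.mul_right hd _
    exact absurd ((hp.out.dvd_factorial).mp h2) (by omega)
  · rw [leadingCoeff_ne_zero]
    intro hP0
    rw [hP0, natDegree_zero] at hge
    omega

end kernel

/-- A permutation of `ZMod p` preserving a nonempty set of at most `(p-1)/2` nonzero differences
is affine. -/
theorem affine_of_preserves (S : Finset (ZMod p)) (hS : S.Nonempty) (h0 : (0 : ZMod p) ∉ S)
    (hk : 2 * S.card < p) (g : ZMod p → ZMod p) (hg : Function.Injective g)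
    (hgS : ∀ x, ∀ s ∈ S, g (x + s) - g x ∈ S) : ∃ a b : ZMod p, ∀ x, g x = a * x + b := by
  classical
  have hcomp : ∀ φ : ZMod p → ZMod p, shiftOp S (φ ∘ g) = shiftOp S φ ∘ g := by
    intro φ
    funext x
    simp only [shiftOp, Function.comp_apply]
    have hinj : Set.InjOn (fun s => g (x + s) - g x) S :=
      fun a _ b _ hab => add_left_cancel (hg (sub_left_injective hab))
    refine Finset.sum_nbij (fun s => g (x + s) - g x) (fun s hs => hgS x s hs) hinj
      (Finset.surjOn_of_injOn_of_card_le _ (fun s hs => hgS x s hs) hinj le_rfl) fun s _ => ?_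
    simp [add_sub_cancel]
  -- the first nonvanishing power sum
  obtain ⟨w, ⟨hw1, hσ⟩, hwk, hlow⟩ : ∃ w, (1 ≤ w ∧ ∑ s ∈ S, s ^ w ≠ 0) ∧ w ≤ S.card ∧
      ∀ j, 1 ≤ j → j < w → ∑ s ∈ S, s ^ j = 0 := by
    have hex : ∃ w, (1 ≤ w ∧ ∑ s ∈ S, s ^ w ≠ 0) ∧ w ≤ S.card := by
      by_contra hall
      push Not at hall
      let v : Fin S.card → ZMod p := fun i => (S.equivFin.symm i : ZMod p)
      have hv : Function.Injective v := Subtype.val_injective.comp S.equivFin.symm.injective
      have hz : v = 0 := by
        refine Matrix.eq_zero_of_forall_pow_sum_mul_pow_eq_zero hv fun i => ?_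
        have h1 : ∑ s ∈ S, s ^ (i.val + 1) = 0 := by
          by_contra hne
          exact absurd (hall (i.val + 1) ⟨by omega, hne⟩) (by omega)
        calc ∑ j, v j * v j ^ i.val = ∑ j, v j ^ (i.val + 1) := by simp [pow_succ']
          _ = ∑ s : S, (s : ZMod p) ^ (i.val + 1) :=
              Equiv.sum_comp S.equivFin.symm fun s : S => (s : ZMod p) ^ (i.val + 1)
          _ = 0 := by rw [Finset.sum_coe_sort S fun s => s ^ (i.val + 1), h1]
      obtain ⟨s, hs⟩ := hS
      have h2 := congrFun hz (S.equivFin ⟨s, hs⟩)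
      simp only [v, Equiv.symm_apply_apply, Pi.zero_apply] at h2
      exact h0 (h2 ▸ hs)
    obtain ⟨hw, hwk⟩ := Nat.find_spec hex
    refine ⟨Nat.find hex, hw, hwk, fun j hj hjw => ?_⟩
    by_contra hne
    exact Nat.find_min hex hjw ⟨⟨hj, hne⟩, by omega⟩
  obtain ⟨P, hP, hPg⟩ := exists_poly g
  suffices hdeg : P.natDegree ≤ 1 by
    refine ⟨P.coeff 1, P.coeff 0, fun x => ?_⟩
    rw [← hPg x]
    conv_lhs => rw [eq_X_add_C_of_natDegree_le_one hdeg]
    simp
  have hker : ∀ j : ℕ, j < w → ∀ x, shiftOp S (fun y => g y ^ j) x = 0 := by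
    intro j hj x
    have h1 := congrFun (hcomp fun y => y ^ j) x
    simp only [Function.comp_def] at h1
    rw [h1]
    have h2 := congrArg (Polynomial.eval (g x))
      (shiftPoly_eq_zero hlow ((X : (ZMod p)[X]) ^ j) (by rw [natDegree_X_pow]; exact hj))
    simpa [eval_shiftPoly] using h2
  rcases eq_or_lt_of_le hw1 with hw | hw
  · subst hw
    have h1 : ∀ x, shiftOp S g x = ∑ s ∈ S, s := by
      intro x
      have h1 := congrFun (hcomp id) x
      simp only [Function.id_comp] at h1
      rw [h1]
      simp [shiftOp, Function.comp_apply]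
    by_contra hge
    rw [not_le] at hge
    have h2 : shiftPoly S P = C (∑ s ∈ S, s) := by
      refine eq_of_eval_eq ((natDegree_shiftPoly_le hlow P).trans_lt (by omega))
        (by rw [natDegree_C]; exact hp.out.pos) fun x => ?_
      rw [eval_shiftPoly, eval_C, ← h1 x]
      simp only [hPg]
    have h3 := coeff_shiftPoly_top le_rfl hlow P (by omega)
    rw [h2, coeff_C, if_neg (by omega)] at h3
    refine mul_ne_zero (mul_ne_zero ?_ ?_) hσ h3.symm
    · rw [Nat.choose_one_right, Ne, ZMod.natCast_eq_zero_iff]
      exact fun hd => absurd (Nat.le_of_dvd (by omega) hd) (by omega)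
    · rw [leadingCoeff_ne_zero]
      intro hP0
      rw [hP0, natDegree_zero] at hge
      omega
  · by_contra hge
    rw [not_le] at hge
    have hn : P.natDegree < w := by
      refine natDegree_lt_of_shiftOp_eq_zero hw1 hlow hσ P hP fun x => ?_
      have := hker 1 hw x
      simpa [hPg] using this
    set n := P.natDegree with hndef
    set j := (w - 1) / n + 1 with hjdef
    have hdiv := Nat.div_add_mod (w - 1) n
    have hmod := Nat.mod_lt (w - 1) (show n > 0 by omega)
    have hmul : j * n = n * ((w - 1) / n) + n := by rw [hjdef]; ring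
    have hj : j < w := by
      have : 2 * ((w - 1) / n) ≤ w - 1 :=
        (Nat.mul_le_mul_right _ (show 2 ≤ n by omega)).trans (Nat.mul_div_le _ _)
      omega
    have hdeg : (P ^ j).natDegree = j * n := natDegree_pow P j
    have := natDegree_lt_of_shiftOp_eq_zero hw1 hlow hσ (P ^ j) (by omega) fun x => by
      simpa [hPg] using hker j hj x
    omega

/-- A permutation preserving any proper nonempty set of nonzero differences is affine. -/
theorem affine_of_preserves' (S : Finset (ZMod p)) (hS : S.Nonempty) (h0 : (0 : ZMod p) ∉ S)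
    (r : ZMod p) (hr0 : r ≠ 0) (hr : r ∉ S) (g : ZMod p → ZMod p) (hg : Function.Injective g)
    (hgS : ∀ x, ∀ s ∈ S, g (x + s) - g x ∈ S) : ∃ a b : ZMod p, ∀ x, g x = a * x + b := by
  classical
  by_cases hk : 2 * S.card < p
  · exact affine_of_preserves S hS h0 hk g hg hgS
  · have hcard : S.card + ((Finset.univ \ insert 0 S).card + 1) = p := by
      rw [Finset.card_sdiff_of_subset (Finset.subset_univ _), Finset.card_insert_of_notMem h0,
        Finset.card_univ, ZMod.card]
      have : (insert 0 S).card ≤ p := (Finset.card_le_univ _).trans_eq (ZMod.card p)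
      rw [Finset.card_insert_of_notMem h0] at this
      omega
    refine affine_of_preserves (Finset.univ \ insert 0 S) ⟨r, by simp [hr0, hr]⟩ (by simp)
      (by omega) g hg fun x t ht => ?_
    simp only [Finset.mem_sdiff, Finset.mem_univ, true_and, Finset.mem_insert, not_or] at ht ⊢
    refine ⟨fun h => ?_, fun h => ?_⟩
    · have h1 := hg (sub_eq_zero.mp h)
      exact ht.1 (add_eq_left.mp h1)
    · have hinj : Set.InjOn (fun s => g (x + s) - g x) S :=
        fun a _ b _ hab => add_left_cancel (hg (sub_left_injective hab))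
      obtain ⟨s, hs, hst⟩ := Finset.surjOn_of_injOn_of_card_le _ (fun s hs => hgS x s hs) hinj
        le_rfl (Finset.mem_coe.mpr h)
      exact ht.2 ((add_left_cancel (hg (sub_left_injective hst))) ▸ hs)

/-- Burnside's theorem: a faithful transitive group of prime degree is solvable or doubly
transitive. -/
theorem isSolvable_or_two_transitive {G Ω : Type*} [Group G] [Finite G] [Fintype Ω]
    [MulAction G Ω] [FaithfulSMul G Ω] [MulAction.IsPretransitive G Ω]
    (hΩ : Fintype.card Ω = p) :
    Group.IsSolvable G ∨ MulAction.IsMultiplyPretransitive G Ω 2 := by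
  classical
  have : Nonempty Ω := Fintype.card_pos_iff.mp (hΩ ▸ hp.out.pos)
  obtain ⟨o⟩ := this
  have hdvd : p ∣ Nat.card G := by
    rw [← hΩ, ← Nat.card_eq_fintype_card, ← MulAction.index_stabilizer_of_transitive G o]
    exact Subgroup.index_dvd_card _
  obtain ⟨c, hc⟩ := exists_prime_orderOf_dvd_card' p hdvd
  have hfix : ∀ x : Ω, c • x ≠ x := by
    intro x hx
    have hc1 : c ≠ 1 := by rintro rfl; simp at hc; exact hp.out.one_lt.ne hc
    refine hc1 (FaithfulSMul.eq_of_smul_eq_smul (α := Ω) fun y => ?_)
    rw [one_smul]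
    by_contra hy
    -- `c` moves `y`, so its orbit has `p` points and contains `x`
    have hper : Function.minimalPeriod (c • ·) y = p := by
      have hd : Function.minimalPeriod (c • ·) y ∣ p := by
        refine Function.IsPeriodicPt.minimalPeriod_dvd ?_
        show (c • ·)^[p] y = y
        rw [smul_iterate_apply, ← hc, pow_orderOf_eq_one, one_smul]
      exact ((Nat.dvd_prime hp.out).mp hd).resolve_left
        fun h1 => hy (Function.minimalPeriod_eq_one_iff_isFixedPt.mp h1)
    have hinj : Function.Injective fun i : Fin p => c ^ (i : ℕ) • y := by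
      intro i j hij
      apply Fin.ext
      have := Function.iterate_injOn_Iio_minimalPeriod (f := (c • ·)) (x := y)
      refine this (x₁ := (i : ℕ)) (by simp [hper]) (x₂ := (j : ℕ)) (by simp [hper]) ?_
      simpa [smul_iterate_apply] using hij
    obtain ⟨i, hi⟩ := ((Fintype.bijective_iff_injective_and_card _).mpr
      ⟨hinj, by simp [hΩ]⟩).2 x
    refine hy (smul_left_cancel (c ^ (i : ℕ)) ?_)
    calc c ^ (i : ℕ) • c • y = c • c ^ (i : ℕ) • y := by
          rw [← mul_smul, ← mul_smul, ← pow_succ, ← pow_succ']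
      _ = c ^ (i : ℕ) • y := by simp only at hi; rw [hi, hx]
  -- identify `Ω` with `ZMod p`
  let e : ZMod p → Ω := fun i => c ^ i.val • o
  have hpow : ∀ a : ℕ, c ^ a • o = e (a : ZMod p) := by
    intro a
    show c ^ a • o = c ^ (a : ZMod p).val • o
    rw [ZMod.val_natCast, ← hc, pow_mod_orderOf]
  have hesucc : ∀ i j : ZMod p, c ^ j.val • e i = e (i + j) := by
    intro i j
    show c ^ j.val • c ^ i.val • o = _
    rw [← mul_smul, ← pow_add, hpow]
    simp [add_comm]
  have hinj : Function.Injective e := by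
    intro i j hij
    by_contra hne
    have h1 : c ^ (j - i).val • e i = e i := by rw [hesucc, add_sub_cancel]; exact hij.symm
    set a := (j - i).val with ha
    have hacop : Nat.Coprime a (orderOf c) := by
      rw [hc]
      refine ((hp.out.coprime_iff_not_dvd).mpr fun hd => ?_).symm
      have h0 : (j - i).val = 0 := Nat.eq_zero_of_dvd_of_lt hd (ZMod.val_lt _)
      rw [ZMod.val_eq_zero, sub_eq_zero] at h0
      exact hne h0.symm
    obtain ⟨m, hm⟩ := exists_pow_eq_self_of_coprime hacop
    refine hfix (e i) ?_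
    rw [← hm]
    rw [← smul_iterate_apply]
    exact Function.iterate_fixed h1 m
  have hbij : Function.Bijective e :=
    (Fintype.bijective_iff_injective_and_card _).mpr ⟨hinj, by rw [ZMod.card, hΩ]⟩
  let E : ZMod p ≃ Ω := Equiv.ofBijective e hbij
  let f : G → ZMod p → ZMod p := fun g x => E.symm (g • E x)
  have hf_mul : ∀ g h x, f (g * h) x = f g (f h x) := by intro g h x; simp [f, mul_smul]
  have hf_inj : ∀ g, Function.Injective (f g) := fun g =>
    E.symm.injective.comp ((MulAction.injective g).comp E.injective)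
  have hf_faith : ∀ g, (∀ x, f g x = x) → g = 1 := by
    intro g hg
    refine FaithfulSMul.eq_of_smul_eq_smul (α := Ω) fun y => ?_
    obtain ⟨x, rfl⟩ := E.surjective y
    rw [one_smul]
    have := hg x
    simp only [f] at this
    exact (Equiv.symm_apply_eq _).mp this
  have hfc : ∀ j x, f (c ^ (j : ZMod p).val) x = x + j := by
    intro j x
    simp only [f]
    rw [Equiv.symm_apply_eq]
    exact hesucc x j
  -- the differences obtainable from `(0, 1)`
  let S : Finset (ZMod p) := Finset.univ.filter fun s => ∃ h : G, f h 0 = 0 ∧ f h 1 = s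
  by_cases hex : ∃ r : ZMod p, r ≠ 0 ∧ r ∉ S
  · left
    obtain ⟨r, hr0, hr⟩ := hex
    have haff : ∀ g, ∃ a b, ∀ x, f g x = a * x + b := by
      intro g
      refine affine_of_preserves' S ⟨1, ?_⟩ ?_ r hr0 hr (f g) (hf_inj g) fun x s hs => ?_
      · simp only [S, Finset.mem_filter, Finset.mem_univ, true_and]
        exact ⟨1, by simp [f], by simp [f]⟩
      · simp only [S, Finset.mem_filter, Finset.mem_univ, true_and, not_exists, not_and]
        intro h h0 h1
        exact zero_ne_one (hf_inj h (h0.trans h1.symm))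
      · simp only [S, Finset.mem_filter, Finset.mem_univ, true_and] at hs ⊢
        obtain ⟨h, h0, h1⟩ := hs
        refine ⟨c ^ (-(f g x)).val * g * c ^ x.val * h, ?_, ?_⟩
        · simp [hf_mul, h0, hfc]
        · simp [hf_mul, h1, hfc, add_comm s x, sub_eq_add_neg]
    choose a b hab using haff
    have ha : ∀ g h, a (g * h) = a g * a h := by
      intro g h
      have h0 := hf_mul g h 0
      have h1 := hf_mul g h 1
      simp only [hab] at h0 h1
      linear_combination h1 - h0
    have ha1 : a 1 = 1 := by
      have h0 : f 1 0 = 0 := by simp [f]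
      have h1 : f 1 1 = 1 := by simp [f]
      rw [hab] at h0 h1
      linear_combination h1 - h0
    let A : G →* ZMod p := { toFun := a, map_one' := ha1, map_mul' := ha }
    let U : G →* (ZMod p)ˣ := A.toHomUnits
    have hUker : ∀ g ∈ U.ker, a g = 1 := fun g hg => congrArg Units.val (MonoidHom.mem_ker.mp hg)
    have : Group.IsSolvable U.ker := Group.isSolvable_of_comm fun g h => by
      apply Subtype.ext
      have hg := hUker g g.2
      have hh := hUker h h.2
      have : ((g : G) * h) * ((h : G) * g)⁻¹ = 1 := by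
        refine hf_faith _ fun x => ?_
        obtain ⟨y, rfl⟩ : ∃ y, f ((h : G) * g) y = x :=
          ((Finite.injective_iff_surjective).mp (hf_inj _)) x
        rw [← hf_mul, inv_mul_cancel_right, hf_mul, hf_mul]
        simp only [hab, hg, hh]
        ring
      simpa using mul_inv_eq_one.mp this
    exact Group.isSolvable_of_ker_le_range U.ker.subtype U (by rw [Subgroup.range_subtype])
  · right
    push Not at hex
    rw [MulAction.is_two_pretransitive_iff]
    have key : ∀ x y : Ω, x ≠ y → ∃ g : G, g • E 0 = x ∧ g • E 1 = y := by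
      intro x y hxy
      obtain ⟨i, rfl⟩ := E.surjective x
      obtain ⟨j, rfl⟩ := E.surjective y
      have hs := hex (j - i) (sub_ne_zero.mpr fun h => hxy (h ▸ rfl))
      simp only [S, Finset.mem_filter, Finset.mem_univ, true_and] at hs
      obtain ⟨h, h0, h1⟩ := hs
      refine ⟨c ^ i.val * h, ?_, ?_⟩
      · have := (hf_mul (c ^ i.val) h 0).trans (by rw [h0, hfc, zero_add])
        exact (Equiv.symm_apply_eq E).mp this
      · have := (hf_mul (c ^ i.val) h 1).trans (by rw [h1, hfc, sub_add_cancel])
        exact (Equiv.symm_apply_eq E).mp this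
    intro x y x' y' hxy hxy'
    obtain ⟨g, rfl, rfl⟩ := key x y hxy
    obtain ⟨g', rfl, rfl⟩ := key x' y' hxy'
    exact ⟨g' * g⁻¹, by rw [mul_smul, inv_smul_smul], by rw [mul_smul, inv_smul_smul]⟩

end Cfsg.Agent.FGS80.Burnside
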