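import Mathlib.GroupTheory.Index

/-!
# Elementary index lemmas used by the `finite_group_structure` statements of this folder
-/

set_option autoImplicit false

namespace Cfsg.Agent.FGS80

variable {G : Type*} [Group G]

lemma relIndex_pos [Finite G] (H K : Subgroup G) : 0 < H.relIndex K :=
  Nat.pos_of_ne_zero (Subgroup.index_ne_zero_of_finite (H := H.subgroupOf K))

/-- For a normal subgroup `F`, the index of `H ∩ F` in `F` is the index of `H` in `H ⊔ F`. -/
lemma relIndex_sup_of_normal [Finite G] (H F : Subgroup G) [F.Normal] :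
    H.relIndex (H ⊔ F) = H.relIndex F := by
  have h1 := Subgroup.relIndex_mul_relIndex (H ⊓ F) H (H ⊔ F) inf_le_left le_sup_left
  have h2 := Subgroup.relIndex_mul_relIndex (H ⊓ F) F (H ⊔ F) inf_le_right le_sup_right
  rw [Subgroup.inf_relIndex_left] at h1
  rw [Subgroup.inf_relIndex_right, Subgroup.relIndex_sup_right] at h2
  rw [← h2, mul_comm (H.relIndex F)] at h1
  exact Nat.eq_of_mul_eq_mul_left (relIndex_pos F H) h1

/-- For a normal subgroup `F`, the index of `H ∩ F` in `F` divides the index of `H`. -/
lemma relIndex_dvd_index [Finite G] (H F : Subgroup G) [F.Normal] :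
    H.relIndex F ∣ H.index :=
  relIndex_sup_of_normal H F ▸ Subgroup.relIndex_dvd_index_of_le le_sup_left

end Cfsg.Agent.FGS80
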