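import Cfsg.Agent.FGS80.NilpotentMax
import Cfsg.Agent.Lib.PComplement.Thompson
import Cfsg.Agent.Lib.CharCore.Burnside
import Cfsg.Agent.Lib.Fitting.Minimal
import Mathlib.Algebra.BigOperators.Group.Finset.Basic

/-!
# Kegel's theorem on splitting automorphisms of prime order

If `t` normalises `H`, `t ^ p = 1` and `(h * t) ^ p = 1` for every `h ∈ H`, then `H` is nilpotent.
-/

set_option autoImplicit false

open scoped commutatorElement Pointwise

namespace Cfsg.Agent.FGS80.Kegel

universe u

variable {X : Type u} [Group X]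

/-- `t` induces a splitting automorphism of order dividing `p` on `H`. -/
def Splits (p : ℕ) (H : Subgroup X) (t : X) : Prop :=
  t ∈ Subgroup.normalizer (H : Set X) ∧ t ^ p = 1 ∧ ∀ h ∈ H, (h * t) ^ p = 1

lemma Splits.mono {p : ℕ} {H K : Subgroup X} {t : X} (h : Splits p H t) (hK : K ≤ H)
    (ht : t ∈ Subgroup.normalizer (K : Set X)) : Splits p K t :=
  ⟨ht, h.2.1, fun x hx => h.2.2 x (hK hx)⟩

lemma Splits.translate {p : ℕ} {H : Subgroup X} {t g : X} (h : Splits p H t) (hg : g ∈ H) :
    Splits p H (g * t) :=
  ⟨mul_mem (Subgroup.le_normalizer hg) h.1, h.2.2 g hg,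
    fun x hx => by rw [← mul_assoc]; exact h.2.2 _ (mul_mem hx hg)⟩

/-- `g` normalises `H`, so the image in `X` of a characteristic subgroup of `H` is normalised. -/
lemma mem_normalizer_map {H : Subgroup X} (K : Subgroup H) [K.Characteristic] {g : X}
    (hg : g ∈ Subgroup.normalizer (H : Set X)) :
    g ∈ Subgroup.normalizer ((K.map H.subtype : Subgroup X) : Set X) := by
  have key : ∀ g ∈ Subgroup.normalizer (H : Set X), ∀ x ∈ K.map H.subtype,
      g * x * g⁻¹ ∈ K.map H.subtype := by
    rintro g hg _ ⟨x, hx, rfl⟩
    refine ⟨H.normalizerMonoidHom ⟨g, hg⟩ x, ?_, rfl⟩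
    have h1 : K.map (H.normalizerMonoidHom ⟨g, hg⟩).toMonoidHom = K :=
      Subgroup.characteristic_iff_map_eq.mp inferInstance _
    exact h1.le ⟨x, hx, rfl⟩
  exact Coprime.le_normalizer_of_conj_mem (A := Subgroup.normalizer (H : Set X)) key hg

/-- Frattini: some translate of `t` normalises a given Sylow subgroup of `H`. -/
lemma exists_translate_normalizes [Finite X] {q : ℕ} [Fact q.Prime] {H : Subgroup X} {t : X}
    (ht : t ∈ Subgroup.normalizer (H : Set X)) (S : Sylow q H) :
    ∃ h ∈ H, h * t ∈ Subgroup.normalizer (((S : Subgroup H).map H.subtype : Subgroup X) : Set X) := by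
  obtain ⟨k, hk⟩ := MulAction.exists_smul_eq H
    (S.mapSurjective (f := (H.normalizerMonoidHom ⟨t, ht⟩).toMonoidHom)
      (H.normalizerMonoidHom ⟨t, ht⟩).surjective) S
  refine ⟨k, k.2, ?_⟩
  rw [Coprime.mem_normalizer_map_iff_smul]
  refine Subgroup.eq_of_le_of_card_ge ?_
    (le_of_eq (Subgroup.card_map_of_injective (MulAut.conj ((k : X) * t)).injective).symm)
  rintro _ ⟨_, ⟨x, hx, rfl⟩, rfl⟩
  refine ⟨k * H.normalizerMonoidHom ⟨t, ht⟩ x * k⁻¹, ?_, ?_⟩
  · rw [← hk]
    exact ⟨_, ⟨x, hx, rfl⟩, rfl⟩
  · show (k : X) * (t * x * t⁻¹) * (k : X)⁻¹ = (k : X) * t * x * ((k : X) * t)⁻¹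
    group

lemma isNilpotent_of_injective {K L : Type*} [Group K] [Group L] (hL : Group.IsNilpotent L)
    (f : K →* L) (hf : Function.Injective f) : Group.IsNilpotent K :=
  Group.nilpotent_of_mulEquiv (_h := Fitting.isNilpotent_of_le (Group.isNilpotent_top.mpr hL) le_top)
    (MonoidHom.ofInjective hf).symm

/-- A finite nilpotent group has a normal `q`-complement. -/
lemma hasNormalPComplement_of_isNilpotent {K : Type*} [Group K] [Finite K] {q : ℕ} [Fact q.Prime]
    (hK : Group.IsNilpotent K) : Cfsg.HasNormalPComplement q K := by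
  refine Transfer.hasNormalPComplement_of_normalizer_centralizer (default : Sylow q K)
    fun Q hQ _ g _ hgp => Subgroup.mem_centralizer_iff.mpr fun y hy => ?_
  obtain ⟨m, hm⟩ := (default : Sylow q K).2.to_le hQ ⟨y, hy⟩
  refine (Transfer.nilpotent_commute_of_coprime hK ?_).eq
  exact Nat.Coprime.coprime_dvd_left
    (orderOf_dvd_of_pow_eq_one (congrArg Subtype.val hm : y ^ q ^ m = 1)) (hgp.pow_right m).symm

/-- The key averaging lemma: if `g` and the elements `e * g` (`e ∈ E`) all have order dividing `p`
and act on the abelian `M` with trivial norms, and `E` has no fixed points in `M`, then every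
element of `M` is killed by the order of `E`. -/
lemma pow_card_eq_one [Finite X] {p : ℕ} (hp : p.Prime) (M E : Subgroup X) [IsMulCommutative M]
    (g : X) (hEM : E ≤ Subgroup.normalizer (M : Set X)) (hgM : g ∈ Subgroup.normalizer (M : Set X))
    (hgE : g ∈ Subgroup.normalizer (E : Set X)) (hgp : ∀ e ∈ E, (e * g) ^ p = 1)
    (hMg : ∀ e ∈ E, ∀ m ∈ M, (m * (e * g)) ^ p = 1)
    (hfix : ∀ m ∈ M, (∀ e ∈ E, e * m = m * e) → m = 1) {m : X} (hm : m ∈ M) :
    m ^ Nat.card E = 1 := by
  classical
  let _ : CommGroup M :=
    { (inferInstance : Group M) with mul_comm := (IsMulCommutative.is_comm (M := M)).comm }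
  have := Fintype.ofFinite E
  let c : Subgroup.normalizer (M : Set X) → M → M := fun n x =>
    ⟨n * x * (n : X)⁻¹, (Subgroup.mem_normalizer_iff.mp n.2 x).mp x.2⟩
  have hc_mul : ∀ n n' x, c (n * n') x = c n (c n' x) := fun n n' x => Subtype.ext (by
    show ((n : X) * n') * x * ((n : X) * n')⁻¹ = (n : X) * ((n' : X) * x * (n' : X)⁻¹) * (n : X)⁻¹
    group)
  have hc_map : ∀ n, ∀ (s : Finset E) (f : E → M),
      c n (∏ e ∈ s, f e) = ∏ e ∈ s, c n (f e) := fun n s f =>
    map_prod (({ toFun := c n, map_one' := Subtype.ext (by simp [c]),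
                 map_mul' := fun a b => Subtype.ext (by
                  show (n : X) * (a * b) * (n : X)⁻¹ = (n * a * (n : X)⁻¹) * (n * b * (n : X)⁻¹)
                  group) } : M →* M)) f s
  let G₀ : Subgroup.normalizer (M : Set X) := ⟨g, hgM⟩
  let ι : E → Subgroup.normalizer (M : Set X) := fun e => ⟨e, hEM e.2⟩
  let β : E → Subgroup.normalizer (M : Set X) := fun e => ι e * G₀
  -- the norm of each `β e` vanishes
  have hnorm : ∀ e : E, ∀ x : M, ∏ i ∈ Finset.range p, c (β e ^ i) x = 1 := by
    intro e x
    have key : ∀ n : ℕ, ((x : X) * (e * g)) ^ n =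
        ((∏ i ∈ Finset.range n, c (β e ^ i) x : M) : X) * ((e : X) * g) ^ n := by
      intro n
      induction n with
      | zero => simp
      | succ n ih =>
        rw [pow_succ, ih, Finset.prod_range_succ, Subgroup.coe_mul, pow_succ ((e : X) * g)]
        show _ = _ * (((β e ^ n : Subgroup.normalizer (M : Set X)) : X) * x *
          ((β e ^ n : Subgroup.normalizer (M : Set X)) : X)⁻¹) * _
        simp only [SubmonoidClass.coe_pow, β, ι, G₀, Subgroup.coe_mul]
        group
    have h1 := key p
    rw [hgp e e.2, mul_one, hMg e e.2 x x.2] at h1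
    exact Subtype.ext h1.symm
  -- for `0 < i < p` the map `e ↦ (e g)^i g^{-i}` permutes `E`
  have hsum : ∀ i ∈ Finset.range p, i ≠ 0 → ∀ x : M, ∏ e : E, c (β e ^ i) x = 1 := by
    intro i hi hi0 x
    have hin : ∀ (e : E) (n : ℕ), ((e : X) * g) ^ n * (g ^ n)⁻¹ ∈ E := by
      intro e n
      induction n with
      | zero => simp
      | succ n ih =>
        have h2 : g ^ n * (e : X) * (g ^ n)⁻¹ ∈ E :=
          (Subgroup.mem_normalizer_iff.mp (pow_mem hgE n) e).mp e.2
        have : ((e : X) * g) ^ (n + 1) * (g ^ (n + 1))⁻¹ =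
            (((e : X) * g) ^ n * (g ^ n)⁻¹) * (g ^ n * e * (g ^ n)⁻¹) := by
          rw [pow_succ, pow_succ g]; group
        rw [this]
        exact mul_mem ih h2
    let F : E → E := fun e => ⟨_, hin e i⟩
    have hF : Function.Bijective F := by
      refine Finite.injective_iff_bijective.mp fun a b hab => ?_
      have h1 : ((a : X) * g) ^ i = ((b : X) * g) ^ i :=
        mul_right_cancel (congrArg Subtype.val hab : _ * (g ^ i)⁻¹ = _ * (g ^ i)⁻¹)
      have hcop : Nat.Coprime i p := by
        refine (hp.coprime_iff_not_dvd.mpr fun hd => ?_).symm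
        exact absurd (Nat.le_of_dvd (Nat.pos_of_ne_zero hi0) hd)
          (not_le.mpr (Finset.mem_range.mp hi))
      obtain ⟨j, hj⟩ := Nat.exists_mul_mod_eq_one_of_coprime hcop hp.one_lt
      have h2 : ∀ e : E, (((e : X) * g) ^ i) ^ j = (e : X) * g := by
        intro e
        rw [← pow_mul, pow_eq_pow_mod _ (hgp e e.2), hj.2, pow_one]
      have h3 := h2 a
      rw [h1, h2 b] at h3
      exact Subtype.ext (mul_right_cancel h3).symm
    set u : M := ∏ e : E, c (ι e) (c (G₀ ^ i) x) with hu
    have heq : ∏ e : E, c (β e ^ i) x = u := by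
      rw [hu, ← hF.prod_comp (fun e => c (ι e) (c (G₀ ^ i) x))]
      refine Finset.prod_congr rfl fun e _ => ?_
      rw [← hc_mul]
      congr 1
      apply Subtype.ext
      show ((β e ^ i : Subgroup.normalizer (M : Set X)) : X) =
        ((e : X) * g) ^ i * (g ^ i)⁻¹ * ((G₀ ^ i : Subgroup.normalizer (M : Set X)) : X)
      simp only [SubmonoidClass.coe_pow, β, ι, G₀, Subgroup.coe_mul, inv_mul_cancel_right]
    have hu1 : (u : X) = 1 := by
      refine hfix u u.2 fun e he => ?_
      have h1 : c (ι ⟨e, he⟩) u = u := by
        rw [hu, hc_map]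
        conv_rhs => rw [← Equiv.prod_comp (Equiv.mulLeft (⟨e, he⟩ : E))]
        refine Finset.prod_congr rfl fun f _ => ?_
        rw [← hc_mul]
        rfl
      exact mul_inv_eq_iff_eq_mul.mp (congrArg Subtype.val h1 : e * (u : X) * e⁻¹ = u)
    rw [heq]
    exact Subtype.ext hu1
  have htot : ∏ i ∈ Finset.range p, ∏ e : E, c (β e ^ i) ⟨m, hm⟩ = 1 := by
    rw [Finset.prod_comm]
    exact Finset.prod_eq_one fun e _ => hnorm e _
  rw [Finset.prod_eq_single_of_mem 0 (Finset.mem_range.mpr hp.pos)
    (fun i hi hi0 => hsum i hi hi0 _)] at htot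
  have h0 : ∀ e : E, c (β e ^ 0) ⟨m, hm⟩ = (⟨m, hm⟩ : M) := fun e => by
    apply Subtype.ext
    simp [c]
  simp only [h0, Finset.prod_const, Finset.card_univ, ← Nat.card_eq_fintype_card] at htot
  exact congrArg Subtype.val htot

/-- Kegel's theorem, relative form. -/
theorem isNilpotent_of_splits {p : ℕ} (hp : p.Prime) : ∀ (n : ℕ) (X : Type u) [Group X] [Finite X]
    (H : Subgroup X) (t : X), Splits p H t → Nat.card H = n → Group.IsNilpotent H := by
  intro n
  induction n using Nat.strong_induction_on with
  | _ n ih =>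
    intro X _ _ H t hs hn
    classical
    subst hn
    by_contra hnil
    have : Fact p.Prime := ⟨hp⟩
    -- proper invariant subgroups are nilpotent
    have hsub : ∀ K : Subgroup X, K ≤ H → K ≠ H → ∀ g, Splits p H g →
        g ∈ Subgroup.normalizer (K : Set X) → Group.IsNilpotent K := by
      intro K hK hne g hg hgK
      refine ih _ ?_ X K g (hg.mono hK hgK) rfl
      exact lt_of_not_ge fun hge => hne (Subgroup.eq_of_le_of_card_ge hK hge)
    -- quotients by invariant normal subgroups are nilpotent
    have hquot : ∀ N : Subgroup X, N ≤ H → N ≠ ⊥ → H ≤ Subgroup.normalizer (N : Set X) →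
        t ∈ Subgroup.normalizer (N : Set X) →
        ∀ [(N.subgroupOf H).Normal], Group.IsNilpotent (H ⧸ N.subgroupOf H) := by
      intro N hNH hNb hHN htN _
      let f : H →* (↥(Subgroup.normalizer (N : Set X)) ⧸
          N.subgroupOf (Subgroup.normalizer (N : Set X))) :=
        (QuotientGroup.mk' _).comp (Subgroup.inclusion hHN)
      have hker : f.ker = N.subgroupOf H := by
        ext x
        simp [f, MonoidHom.mem_ker, QuotientGroup.eq_one_iff, Subgroup.mem_subgroupOf]
      have hcard : Nat.card f.range < Nat.card H := by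
        rw [← Subgroup.index_ker, hker, ← (N.subgroupOf H).index_mul_card]
        refine lt_mul_of_one_lt_right
          (Nat.pos_of_ne_zero Subgroup.index_ne_zero_of_finite) ?_
        rw [Subgroup.one_lt_card_iff_ne_bot, Ne, Subgroup.subgroupOf_eq_bot]
        intro hd
        exact hNb (le_bot_iff.mp (hd le_rfl hNH))
      set T : ↥(Subgroup.normalizer (N : Set X)) := ⟨t, htN⟩ with hT
      have hsplit : Splits p f.range (QuotientGroup.mk' _ T) := by
        refine ⟨?_, ?_, ?_⟩
        · have h1 : ∀ g : ↥(Subgroup.normalizer (N : Set X)),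
              (g : X) ∈ Subgroup.normalizer (H : Set X) → ∀ y ∈ f.range,
              QuotientGroup.mk' _ g * y * (QuotientGroup.mk' _ g)⁻¹ ∈ f.range := by
            rintro g hg _ ⟨x, rfl⟩
            refine ⟨⟨g * x * (g : X)⁻¹, (Subgroup.mem_normalizer_iff.mp hg x).mp x.2⟩, ?_⟩
            simp only [f, MonoidHom.comp_apply, ← map_inv, ← map_mul]
            rfl
          refine Subgroup.mem_normalizer_iff.mpr fun y => ⟨h1 T hs.1 y, fun hy => ?_⟩
          have := h1 T⁻¹ (inv_mem hs.1) _ hy
          simpa [mul_assoc] using this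
        · rw [← map_pow]
          have : T ^ p = 1 := Subtype.ext hs.2.1
          rw [this, map_one]
        · rintro _ ⟨x, rfl⟩
          simp only [f, MonoidHom.comp_apply, ← map_mul, ← map_pow]
          have : (Subgroup.inclusion hHN x * T) ^ p = 1 := Subtype.ext (hs.2.2 x x.2)
          rw [this, map_one]
      have hR := ih _ hcard _ f.range _ hsplit rfl
      exact Group.nilpotent_of_mulEquiv (_h := hR)
        ((QuotientGroup.quotientKerEquivRange f).symm.trans
          (QuotientGroup.quotientMulEquivOfEq hker))
    have hnorm : ∀ N : Subgroup X, H ≤ Subgroup.normalizer (N : Set X) →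
        (N.subgroupOf H).Normal := fun N h => Subgroup.normal_subgroupOf_of_le_normalizer h
    have hback : ∀ {K : Subgroup X} {h : X}, h ∈ H → H ≤ Subgroup.normalizer (K : Set X) →
        h * t ∈ Subgroup.normalizer (K : Set X) → t ∈ Subgroup.normalizer (K : Set X) := by
      intro K h hh hK hht
      simpa using mul_mem (inv_mem (hK hh)) hht
    have hne_pgroup : ∀ q : ℕ, q.Prime → ¬ IsPGroup q H := fun q hq h => by
      have : Fact q.Prime := ⟨hq⟩
      exact hnil h.isNilpotent
    -- `H` is solvable
    have hsolv : Group.IsSolvable H := by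
      by_cases hex : ∃ N : Subgroup X, N ≤ H ∧ N ≠ ⊥ ∧ N ≠ H ∧
          H ≤ Subgroup.normalizer (N : Set X) ∧ t ∈ Subgroup.normalizer (N : Set X)
      · obtain ⟨N, hNH, hNb, hNne, hHN, htN⟩ := hex
        have := hnorm N hHN
        have : Group.IsNilpotent N := hsub N hNH hNne t hs htN
        have : Group.IsNilpotent (N.subgroupOf H) :=
          Group.nilpotent_of_mulEquiv (Subgroup.subgroupOfEquivOfLe hNH).symm
        have := hquot N hNH hNb hHN htN
        exact (Group.isSolvable_iff_subgroup_quotient (N.subgroupOf H)).mpr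
          ⟨inferInstance, inferInstance⟩
      have hmin : ∀ N : Subgroup X, N ≤ H → H ≤ Subgroup.normalizer (N : Set X) →
          t ∈ Subgroup.normalizer (N : Set X) → N = ⊥ ∨ N = H := fun N h1 h2 h3 => by
        by_contra hc
        push Not at hc
        exact hex ⟨N, h1, hc.1, hc.2, h2, h3⟩
      by_cases hodd : ∃ q : ℕ, q.Prime ∧ q ≠ 2 ∧ q ≠ p ∧ q ∣ Nat.card H
      · obtain ⟨q, hq, hq2, -, hqH⟩ := hodd
        have : Fact q.Prime := ⟨hq⟩
        obtain ⟨S⟩ : Nonempty (Sylow q H) := inferInstance
        obtain ⟨h, hh, hht⟩ := exists_translate_normalizes hs.1 S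
        set Q := (S : Subgroup H).map H.subtype with hQ
        have hQH : Q ≤ H := Subgroup.map_subtype_le _
        have hQp : IsPGroup q Q := S.isPGroup'.map _
        have hQb : Q ≠ ⊥ := by
          rw [hQ, Ne, Subgroup.map_eq_bot_iff_of_injective _ H.subtype_injective]
          exact S.ne_bot_of_dvd_card hqH
        have hsplit' := hs.translate hh
        have hJ : Group.IsNilpotent (H ⊓ Subgroup.normalizer
            (Cfsg.thompsonSubgroupOf q Q : Set X) : Subgroup X) := by
          refine hsub _ inf_le_left (fun he => ?_) _ hsplit'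
            (Coprime.le_normalizer_inf (A := Subgroup.zpowers (h * t))
              (Subgroup.zpowers_le.mpr hsplit'.1)
              (Coprime.le_normalizer_normalizer (Subgroup.zpowers_le.mpr
                (Thompson.normalizer_le_normalizer_thompsonSubgroupOf Q hht)))
              (Subgroup.mem_zpowers _))
          have hJn : H ≤ Subgroup.normalizer (Cfsg.thompsonSubgroupOf q Q : Set X) :=
            he ▸ inf_le_right
          rcases hmin _ ((Thompson.thompsonSubgroupOf_le Q).trans hQH) hJn
            (hback hh hJn (Thompson.normalizer_le_normalizer_thompsonSubgroupOf Q hht)) with h0 | h0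
          · exact PComplement.thompsonSubgroupOf_ne_bot hQp hQb h0
          · exact hne_pgroup q hq (h0 ▸ hQp.to_le (Thompson.thompsonSubgroupOf_le Q))
        set Z := Q ⊓ Subgroup.centralizer (Q : Set X) with hZ
        have hgZ : Subgroup.zpowers (h * t) ≤ Subgroup.normalizer (Z : Set X) :=
          Coprime.le_normalizer_inf (Subgroup.zpowers_le.mpr hht)
            (Coprime.le_normalizer_centralizer (Subgroup.zpowers_le.mpr hht))
        have hC : Group.IsNilpotent (H ⊓ Subgroup.centralizer (Z : Set X) : Subgroup X) := by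
          refine hsub _ inf_le_left (fun he => ?_) _ hsplit'
            (Coprime.le_normalizer_inf (A := Subgroup.zpowers (h * t))
              (Subgroup.zpowers_le.mpr hsplit'.1) (Coprime.le_normalizer_centralizer hgZ)
              (Subgroup.mem_zpowers _))
          have hHC : H ≤ Subgroup.centralizer (Z : Set X) := he ▸ inf_le_right
          have hself : H ≤ Subgroup.normalizer (H : Set X) := Subgroup.le_normalizer
          rcases hmin (H ⊓ Subgroup.centralizer (H : Set X)) inf_le_left
            (Coprime.le_normalizer_inf hself (Coprime.le_normalizer_centralizer hself))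
            (Coprime.le_normalizer_inf (A := Subgroup.normalizer (H : Set X)) le_rfl
              (Coprime.le_normalizer_centralizer le_rfl) hs.1) with h0 | h0
          · have hZle : Z ≤ H ⊓ Subgroup.centralizer (H : Set X) :=
              le_inf (inf_le_left.trans hQH) (Subgroup.le_centralizer_iff.mp hHC)
            rw [h0, le_bot_iff] at hZle
            have : Nontrivial Q := (Subgroup.nontrivial_iff_ne_bot _).mpr hQb
            have := hQp.center_nontrivial
            obtain ⟨z, hz⟩ := exists_ne (1 : Subgroup.center Q)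
            have hzZ : ((z : Q) : X) ∈ Z := ⟨(z : Q).2, Subgroup.mem_centralizer_iff.mpr
              fun y hy => congrArg Subtype.val (Subgroup.mem_center_iff.mp z.2 ⟨y, hy⟩)⟩
            rw [hZle, Subgroup.mem_bot] at hzZ
            exact hz (Subtype.ext (Subtype.ext hzZ))
          · have hcent : H ≤ Subgroup.centralizer (H : Set X) := h0.ge.trans inf_le_right
            exact hnil (let _ : CommGroup H :=
              { (inferInstance : Group H) with
                mul_comm := fun a b => Subtype.ext
                  (Subgroup.mem_centralizer_iff.mp (hcent b.2) a a.2) }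
              inferInstance)
        have hJ' : Cfsg.HasNormalPComplement q
            (Subgroup.normalizer (Cfsg.thompsonSubgroupOf q (S : Subgroup H) : Set H)) := by
          refine hasNormalPComplement_of_isNilpotent ?_
          let e : Subgroup.normalizer (Cfsg.thompsonSubgroupOf q (S : Subgroup H) : Set H) →*
              (H ⊓ Subgroup.normalizer (Cfsg.thompsonSubgroupOf q Q : Set X) : Subgroup X) :=
            (H.subtype.comp (Subgroup.subtype _)).codRestrict _ fun x => by
              refine ⟨(x : H).2, ?_⟩
              show H.subtype (x : H) ∈ _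
              rw [hQ, ← Thompson.thompsonSubgroupOf_map H.subtype _ H.subtype_injective.injOn]
              exact Subgroup.le_normalizer_map (H := Cfsg.thompsonSubgroupOf q (S : Subgroup H))
                H.subtype ⟨x, x.2, rfl⟩
          exact isNilpotent_of_injective hJ e
            fun a b hab => Subtype.ext (Subtype.ext (congrArg Subtype.val hab :))
        have hC' : Cfsg.HasNormalPComplement q (Subgroup.centralizer
            (((S : Subgroup H) ⊓ Subgroup.centralizer ((S : Subgroup H) : Set H) :
              Subgroup H) : Set H)) := by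
          refine hasNormalPComplement_of_isNilpotent ?_
          let e : Subgroup.centralizer
              (((S : Subgroup H) ⊓ Subgroup.centralizer ((S : Subgroup H) : Set H) :
                Subgroup H) : Set H) →* (H ⊓ Subgroup.centralizer (Z : Set X) : Subgroup X) :=
            (H.subtype.comp (Subgroup.subtype _)).codRestrict _ fun x => by
              refine ⟨(x : H).2, Subgroup.mem_centralizer_iff.mpr ?_⟩
              rintro y ⟨⟨y', hy', rfl⟩, hy2⟩
              refine congrArg Subtype.val (Subgroup.mem_centralizer_iff.mp x.2 y' ⟨hy', ?_⟩)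
              exact Subgroup.mem_centralizer_iff.mpr fun z hz =>
                Subtype.ext (Subgroup.mem_centralizer_iff.mp hy2 _ ⟨z, hz, rfl⟩)
          exact isNilpotent_of_injective hC e
            fun a b hab => Subtype.ext (Subtype.ext (congrArg Subtype.val hab :))
        have hcomp := PComplement.thompson_normal_p_complement hq2 S hJ' hC'
        have hnd := Transfer.hasNormalPComplement_iff_not_dvd.mp hcomp
        rcases hmin ((Cfsg.pResidual q H).map H.subtype) (Subgroup.map_subtype_le _)
          (fun x hx => mem_normalizer_map _ (Subgroup.le_normalizer hx))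
          (mem_normalizer_map _ hs.1) with h0 | h0
        · rw [Subgroup.map_eq_bot_iff_of_injective _ H.subtype_injective] at h0
          refine absurd ?_ (hne_pgroup q hq)
          exact (Transfer.isPGroup_quotient_pResidual (G := H) (p := q)).of_equiv
            ((QuotientGroup.quotientMulEquivOfEq h0).trans QuotientGroup.quotientBot)
        · exfalso
          apply hnd
          rw [← Subgroup.card_map_of_injective H.subtype_injective, h0]
          exact hqH
      · push Not at hodd
        obtain ⟨a, b, hab⟩ : ∃ a b : ℕ, Nat.card H = p ^ a * 2 ^ b := by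
          refine ⟨(Nat.card H).factorization p, (Nat.card H / p ^ (Nat.card H).factorization p).primeFactorsList.length, ?_⟩
          conv_lhs => rw [← Nat.ordProj_mul_ordCompl_eq_self (Nat.card H) p]
          congr 1
          refine Nat.eq_prime_pow_of_unique_prime_dvd
            (Nat.ordCompl_pos p Nat.card_pos.ne').ne' fun {d} hd hdd => ?_
          by_contra hd2
          refine hodd d hd hd2 (fun hdp => ?_) (hdd.trans (Nat.ordCompl_dvd _ _))
          subst hdp
          exact Nat.not_dvd_ordCompl hd Nat.card_pos.ne' hdd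
        exact CharCore.isSolvable_of_card_eq_prime_pow_mul hp Nat.prime_two _ H a b rfl hab
    have hHb : H ≠ ⊥ := fun h => hne_pgroup 2 Nat.prime_two (h ▸ IsPGroup.of_bot)
    -- a minimal invariant normal subgroup
    obtain ⟨M, hM⟩ := exists_minimal_of_wellFoundedLT (fun M : Subgroup X =>
      M ≠ ⊥ ∧ M ≤ H ∧ H ≤ Subgroup.normalizer (M : Set X) ∧ t ∈ Subgroup.normalizer (M : Set X))
      ⟨H, hHb, le_rfl, Subgroup.le_normalizer, hs.1⟩
    obtain ⟨hMb, hMH, hHM, htM⟩ := hM.1
    have hMmin : ∀ N : Subgroup X, N ≤ M → H ≤ Subgroup.normalizer (N : Set X) →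
        t ∈ Subgroup.normalizer (N : Set X) → N = ⊥ ∨ N = M := fun N h1 h2 h3 =>
      or_iff_not_imp_left.mpr fun hb => le_antisymm h1 (hM.2 ⟨hb, h1.trans hMH, h2, h3⟩ h1)
    have hMcomm : IsMulCommutative M := by
      have hsolM : Group.IsSolvable M := Coprime.solvable_of_le hMH hsolv
      have : Nontrivial M := (Subgroup.nontrivial_iff_ne_bot _).mpr hMb
      have hlt := hsolM.commutator_lt_top_of_nontrivial
      have hchar : (commutator M).Characteristic := inferInstance
      rcases hMmin ((commutator M).map M.subtype) (Subgroup.map_subtype_le _)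
        (fun x hx => mem_normalizer_map _ (hHM hx)) (mem_normalizer_map _ htM) with h0 | h0
      · rw [Subgroup.map_eq_bot_iff_of_injective _ M.subtype_injective, commutator_def,
          Subgroup.commutator_eq_bot_iff_le_centralizer] at h0
        exact ⟨⟨fun a b => Subgroup.mem_centralizer_iff.mp (h0 (Subgroup.mem_top b)) a
          (Subgroup.mem_top a)⟩⟩
      · refine absurd (Subgroup.map_injective M.subtype_injective ?_) hlt.ne
        rw [h0, ← MonoidHom.range_eq_map, Subgroup.range_subtype]
    have hMne : M ≠ H := fun h => hnil (by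
      subst h
      exact (let _ : CommGroup M :=
        { (inferInstance : Group M) with mul_comm := hMcomm.is_comm.comm }
        inferInstance))
    obtain ⟨r, hr, hrM⟩ := Nat.exists_prime_and_dvd (fun h1 => hMb (Subgroup.card_eq_one.mp h1))
    have : Fact r.Prime := ⟨hr⟩
    have hMpow : ∀ m ∈ M, m ^ r = 1 := by
      let Mr : Subgroup X :=
        { carrier := {m | m ∈ M ∧ m ^ r = 1}
          one_mem' := ⟨M.one_mem, one_pow r⟩
          mul_mem' := fun {a b} ha hb => ⟨mul_mem ha.1 hb.1, by
            rw [(show Commute a b from congrArg Subtype.val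
              (hMcomm.is_comm.comm (⟨a, ha.1⟩ : M) ⟨b, hb.1⟩)).mul_pow, ha.2, hb.2, one_mul]⟩
          inv_mem' := fun {a} ha => ⟨inv_mem ha.1, by rw [inv_pow, ha.2, inv_one]⟩ }
      have key : ∀ g ∈ Subgroup.normalizer (M : Set X), g ∈ Subgroup.normalizer (Mr : Set X) := by
        refine Coprime.le_normalizer_of_conj_mem (A := Subgroup.normalizer (M : Set X))
          fun g hg x hx => ⟨(Subgroup.mem_normalizer_iff.mp hg x).mp hx.1, ?_⟩
        rw [conj_pow, hx.2, mul_one, mul_inv_cancel]
      rcases hMmin Mr (fun x hx => hx.1) (fun x hx => key x (hHM hx)) (key t htM) with h0 | h0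
      · obtain ⟨m, hm⟩ := exists_prime_orderOf_dvd_card' (G := M) r hrM
        have : (m : X) ∈ Mr := ⟨m.2, by rw [← hm, ← Subgroup.orderOf_coe, pow_orderOf_eq_one]⟩
        rw [h0, Subgroup.mem_bot] at this
        rw [← Subgroup.orderOf_coe, this, orderOf_one] at hm
        exact absurd hm.symm hr.ne_one
      · exact fun m hm => (h0.ge hm).2
    have hMr : IsPGroup r M := fun m => ⟨1, Subtype.ext (by simpa using hMpow m m.2)⟩
    -- every `s`-Sylow subgroup for `s ≠ r` centralises `M`
    have hcent : ∀ s : ℕ, s.Prime → s ≠ r → ∀ S : Sylow s H,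
        M ≤ Subgroup.centralizer (((S : Subgroup H).map H.subtype : Subgroup X) : Set X) := by
      intro s hsp hsr S
      have : Fact s.Prime := ⟨hsp⟩
      obtain ⟨h, hh, hht⟩ := exists_translate_normalizes hs.1 S
      set Q := (S : Subgroup H).map H.subtype with hQ
      have hQH : Q ≤ H := Subgroup.map_subtype_le _
      have hQp : IsPGroup s Q := S.isPGroup'.map _
      have hcopQM : (Nat.card Q).Coprime (Nat.card M) := by
        obtain ⟨i, hi⟩ := hQp.exists_card_eq
        obtain ⟨j, hj⟩ := hMr.exists_card_eq
        rw [hi, hj]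
        exact Nat.Coprime.pow i j ((Nat.coprime_primes hsp hr).mpr hsr)
      have htM' : h * t ∈ Subgroup.normalizer (M : Set X) := mul_mem (hHM hh) htM
      by_cases hL : M ⊔ Q = H
      · have hn : ∀ x ∈ H, x ∈ Subgroup.normalizer
            ((M ⊓ Subgroup.centralizer (Q : Set X) : Subgroup X) : Set X) := by
          intro x hx
          rw [← hL] at hx
          revert x
          show M ⊔ Q ≤ _
          refine sup_le ?_ (Coprime.le_normalizer_inf (hQH.trans hHM)
            (Coprime.le_normalizer_centralizer Subgroup.le_normalizer))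
          intro x hx
          refine (Subgroup.centralizer_le_normalizer _) (Subgroup.mem_centralizer_iff.mpr
            fun y hy => congrArg Subtype.val (hMcomm.is_comm.comm (⟨y, hy.1⟩ : M) ⟨x, hx⟩))
        have htn : h * t ∈ Subgroup.normalizer
            ((M ⊓ Subgroup.centralizer (Q : Set X) : Subgroup X) : Set X) :=
          Coprime.le_normalizer_inf (A := Subgroup.zpowers (h * t)) (Subgroup.zpowers_le.mpr htM')
            (Coprime.le_normalizer_centralizer (Subgroup.zpowers_le.mpr hht))
            (Subgroup.mem_zpowers _)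
        rcases hMmin (M ⊓ Subgroup.centralizer (Q : Set X)) inf_le_left hn (hback hh hn htn)
          with h0 | h0
        · exfalso
          refine hMb ((Subgroup.eq_bot_iff_forall _).mpr fun m hm => ?_)
          have h1 : m ^ Nat.card Q = 1 := pow_card_eq_one hp M Q (h * t) (hQH.trans hHM) htM' hht
            (fun e he => (hs.translate hh).2.2 e (hQH he))
            (fun e he x hx => by
              rw [← mul_assoc]; exact (hs.translate hh).2.2 _ (mul_mem (hMH hx) (hQH he)))
            (fun x hx hxc => by
              have hmem : x ∈ M ⊓ Subgroup.centralizer (Q : Set X) :=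
                ⟨hx, Subgroup.mem_centralizer_iff.mpr fun y hy => hxc y hy⟩
              rwa [h0, Subgroup.mem_bot] at hmem) hm
          exact orderOf_eq_one_iff.mp (Nat.eq_one_of_dvd_coprimes hcopQM
            (orderOf_dvd_of_pow_eq_one h1) (Subgroup.orderOf_dvd_natCard _ hm))
        · exact h0.ge.trans inf_le_right
      · have hn := hsub (M ⊔ Q) (sup_le hMH hQH) hL (h * t) (hs.translate hh)
          (Coprime.le_normalizer_sup (A := Subgroup.zpowers (h * t)) (Subgroup.zpowers_le.mpr htM')
            (Subgroup.zpowers_le.mpr hht) (Subgroup.mem_zpowers _))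
        intro m hm
        refine Subgroup.mem_centralizer_iff.mpr fun y hy => (commute_of_isNilpotent hn
          (Subgroup.mem_sup_right hy) (Subgroup.mem_sup_left hm) ?_).eq
        exact Nat.Coprime.coprime_dvd_left (Subgroup.orderOf_dvd_natCard _ hy)
          (Nat.Coprime.coprime_dvd_right (Subgroup.orderOf_dvd_natCard _ hm) hcopQM)
    -- all Sylow subgroups of `H` are normal
    have := hnorm M hHM
    have hqn := hquot M hMH hMb hHM htM
    apply hnil
    refine (Group.isNilpotent_of_finite_tfae (G := H)).out 0 3 |>.mpr fun s hsf S => ?_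
    haveI : Fact s.Prime := hsf
    have hMH' : (M.subgroupOf H).map H.subtype = M := Subgroup.map_subgroupOf_eq_of_le hMH
    set π := QuotientGroup.mk' (M.subgroupOf H) with hπ
    have himg : ((S : Subgroup H).map π).Normal :=
      (((Group.isNilpotent_of_finite_tfae (G := H ⧸ M.subgroupOf H)).out 0 3 :
        Group.IsNilpotent (H ⧸ M.subgroupOf H) ↔ ∀ (p : ℕ) (_ : Fact p.Prime)
          (P : Sylow p (H ⧸ M.subgroupOf H)), (P : Subgroup (H ⧸ M.subgroupOf H)).Normal)).mp hqn s hsf
        (S.mapSurjective (QuotientGroup.mk'_surjective _))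
    have hP : ((S : Subgroup H) ⊔ M.subgroupOf H).Normal := by
      rw [← QuotientGroup.ker_mk' (M.subgroupOf H), ← Subgroup.comap_map_eq]
      exact himg.comap π
    by_cases hsr : s = r
    · subst hsr
      have hle : M.subgroupOf H ≤ (S : Subgroup H) :=
        IsPGroup.le_sylow_of_normal (hMr.of_equiv (Subgroup.subgroupOfEquivOfLe hMH).symm) S
      rwa [sup_eq_left.mpr hle] at hP
    · have hle := hcent s hsf.out hsr S
      have hMN : M.subgroupOf H ≤ Subgroup.normalizer ((S : Subgroup H) : Set H) := by
        intro m hm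
        refine Subgroup.centralizer_le_normalizer _ (Subgroup.mem_centralizer_iff.mpr fun y hy => ?_)
        exact Subtype.ext (Subgroup.mem_centralizer_iff.mp (hle hm) _ ⟨y, hy, rfl⟩)
      haveI : Fact s.Prime := hsf
      have : ((S : Subgroup H) ⊔ M.subgroupOf H).Normal := hP
      have hfr := Sylow.normalizer_sup_eq_top' (N := (S : Subgroup H) ⊔ M.subgroupOf H) S le_sup_left
      have hfr' : Subgroup.normalizer ((S : Subgroup H) : Set H) ⊔
          ((S : Subgroup H) ⊔ M.subgroupOf H) = ⊤ := hfr
      rw [sup_eq_left.mpr (sup_le Subgroup.le_normalizer hMN)] at hfr'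
      exact Subgroup.normalizer_eq_top_iff.mp hfr'

end Cfsg.Agent.FGS80.Kegel
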