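import Mathlib.GroupTheory.Sylow
import Mathlib.GroupTheory.Transfer
import Cfsg.Agent.FGS76.Basic

/-!
# Primes dividing conjugacy class sizes

Elementary facts about the prime graph on class sizes: a prime `p` divides some class size
iff a Sylow `p`-subgroup is not central, and Itô's lemma on two nonadjacent primes.
-/

namespace Cfsg.Agent.FGS80.ClassPrimes

open Subgroup

variable {G : Type*} [Group G]

/-- `p` is a vertex of the prime graph on class sizes. -/
def IsVertex (G : Type*) [Group G] (p : ℕ) : Prop :=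
  p.Prime ∧ ∃ g : G, p ∣ (centralizer ({g} : Set G)).index

/-- `p` and `q` are adjacent (their product divides a class size). -/
def Adj (G : Type*) [Group G] (p q : ℕ) : Prop :=
  ∃ g : G, p * q ∣ (centralizer ({g} : Set G)).index

lemma adj_comm {p q : ℕ} : Adj G p q ↔ Adj G q p := by
  unfold Adj; rw [mul_comm]

lemma adj_of_dvd {p q : ℕ} (hp : p.Prime) (hq : q.Prime) (hpq : p ≠ q) {g : G}
    (h1 : p ∣ (centralizer ({g} : Set G)).index) (h2 : q ∣ (centralizer ({g} : Set G)).index) :
    Adj G p q :=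
  ⟨g, ((Nat.coprime_primes hp hq).mpr hpq).mul_dvd_of_dvd_of_dvd h1 h2⟩

lemma centralizer_mul_le {a n : G} (hc : Commute a n)
    (hcop : (orderOf a).Coprime (orderOf n)) :
    centralizer ({a * n} : Set G) ≤ centralizer ({a} : Set G) := by
  intro x hx
  rw [mem_centralizer_singleton_iff] at hx ⊢
  have hx' : Commute x (a * n) := hx
  have h1 : Commute x (a ^ orderOf n) := by
    have := hx'.pow_right (orderOf n)
    rwa [hc.mul_pow, pow_orderOf_eq_one, mul_one] at this
  have hcop' : (orderOf n).Coprime (orderOf a) := hcop.symm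
  obtain ⟨m, hm⟩ := exists_pow_eq_self_of_coprime hcop'
  have := h1.pow_right m
  rwa [hm] at this

lemma index_dvd_index_mul {a n : G} (hc : Commute a n)
    (hcop : (orderOf a).Coprime (orderOf n)) :
    (centralizer ({a} : Set G)).index ∣ (centralizer ({a * n} : Set G)).index :=
  Subgroup.index_dvd_of_le (centralizer_mul_le hc hcop)

variable [Finite G]

/-- If `p` does not divide the class size of `g`, then a conjugate of `g` centralizes `P`. -/
lemma exists_conj_mem_centralizer {p : ℕ} [Fact p.Prime] (P : Sylow p G) {g : G}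
    (h : ¬ p ∣ (centralizer ({g} : Set G)).index) :
    ∃ x : G, x * g * x⁻¹ ∈ centralizer ((P : Subgroup G) : Set G) := by
  haveI : Finite (G ⧸ centralizer ({g} : Set G)) := inferInstance
  obtain ⟨c, hc⟩ := P.isPGroup'.nonempty_fixed_point_of_prime_not_dvd_card
    (G ⧸ centralizer ({g} : Set G)) h
  induction c using QuotientGroup.induction_on with
  | H x =>
    refine ⟨x, ?_⟩
    rw [mem_centralizer_iff]
    intro y hy
    have h1 : y • (x : G ⧸ centralizer ({g} : Set G)) = x := hc ⟨y, hy⟩
    rw [MulAction.Quotient.smul_coe, QuotientGroup.eq] at h1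
    have h2 := inv_mem h1
    rw [mem_centralizer_singleton_iff] at h2
    simp only [smul_eq_mul, mul_inv_rev, inv_inv] at h2
    calc y * (x * g * x⁻¹) = x * (x⁻¹ * (y * x) * g) * x⁻¹ := by group
      _ = x * (g * (x⁻¹ * (y * x))) * x⁻¹ := by rw [h2]
      _ = x * g * x⁻¹ * y := by group

lemma isVertex_iff {p : ℕ} [hp : Fact p.Prime] (P : Sylow p G) :
    IsVertex G p ↔ ¬ (P : Subgroup G) ≤ center G := by
  constructor
  · rintro ⟨-, g, hg⟩ hP
    exact P.not_dvd_index (hg.trans (Subgroup.index_dvd_of_le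
      (hP.trans (center_le_centralizer _))))
  · intro hP
    refine ⟨hp.out, ?_⟩
    by_contra hne
    simp only [not_exists] at hne
    refine hP ?_
    have htop : centralizer ((P : Subgroup G) : Set G) = ⊤ :=
      FGS76.eq_top_of_forall_exists_conj _ fun g => exists_conj_mem_centralizer P (hne g)
    exact Subgroup.centralizer_eq_top_iff_subset.mp htop

lemma card_conjUnion_le (H : Subgroup G) :
    Nat.card {g : G // g ≠ 1 ∧ ∃ x : G, x * g * x⁻¹ ∈ H} ≤
      (normalizer (H : Set G)).index * (Nat.card H - 1) := by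
  classical
  have hcard : Nat.card {h : H // h ≠ 1} = Nat.card H - 1 := by
    haveI := Fintype.ofFinite H
    rw [Nat.card_eq_fintype_card, Nat.card_eq_fintype_card, Fintype.card_subtype_compl]
    simp
  rw [← hcard, Subgroup.index, ← Nat.card_prod]
  let f : (G ⧸ normalizer (H : Set G)) × {h : H // h ≠ 1} →
      {g : G // g ≠ 1 ∧ ∃ x : G, x * g * x⁻¹ ∈ H} := fun ch =>
    ⟨ch.1.out * ((ch.2 : H) : G) * ch.1.out⁻¹, by
      refine ⟨fun h => ch.2.2 (Subtype.ext ?_), ch.1.out⁻¹, ?_⟩
      · simpa using h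
      · simp [mul_assoc]⟩
  refine Nat.card_le_card_of_surjective f ?_
  rintro ⟨g, hg1, x, hx⟩
  obtain ⟨m, hm⟩ := QuotientGroup.mk_out_eq_mul (normalizer (H : Set G)) x⁻¹
  have hmem : (m : G)⁻¹ * (x * g * x⁻¹) * m ∈ H := by
    have := (mem_normalizer_iff.mp (inv_mem m.2) (x * g * x⁻¹)).mp hx
    simpa using this
  refine ⟨((x⁻¹ : G), ⟨⟨_, hmem⟩, fun h => hg1 ?_⟩), ?_⟩
  · have h' : (m : G)⁻¹ * (x * g * x⁻¹) * m = 1 := congrArg Subtype.val h
    have h'' : x * g * x⁻¹ = 1 := by
      calc x * g * x⁻¹ = (m : G) * ((m : G)⁻¹ * (x * g * x⁻¹) * m) * (m : G)⁻¹ := by group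
        _ = 1 := by rw [h']; group
    simpa using h''
  · apply Subtype.ext
    simp [f, hm, mul_assoc]

/-- **Itô's lemma**: for two nonadjacent vertices `p, q`, a Sylow `p`- or a Sylow `q`-subgroup is
central in its normalizer. -/
theorem ito {p q : ℕ} [hp : Fact p.Prime] [hq : Fact q.Prime] (hpq : p ≠ q)
    (P : Sylow p G) (Q : Sylow q G) (hnadj : ¬ Adj G p q) :
    normalizer ((P : Subgroup G) : Set G) ≤ centralizer ((P : Subgroup G) : Set G) ∨
      normalizer ((Q : Subgroup G) : Set G) ≤ centralizer ((Q : Subgroup G) : Set G) := by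
  classical
  by_contra hcon
  rw [not_or] at hcon
  set H := centralizer ((P : Subgroup G) : Set G) with hH
  set K := centralizer ((Q : Subgroup G) : Set G) with hK
  have key : ∀ (R : Subgroup G), ¬ normalizer (R : Set G) ≤ centralizer (R : Set G) →
      2 * ((normalizer ((centralizer (R : Set G) : Subgroup G) : Set G)).index *
        Nat.card (centralizer (R : Set G))) ≤ Nat.card G := by
    intro R hR
    set C := centralizer (R : Set G)
    set N := normalizer (C : Set G)
    have hRN : normalizer (R : Set G) ≤ N := by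
      intro g hg
      rw [mem_normalizer_iff]
      intro c
      have aux : ∀ g ∈ normalizer (R : Set G), ∀ c ∈ C, g * c * g⁻¹ ∈ C := by
        intro g hg c hc
        rw [mem_centralizer_iff]
        intro r hr
        have hr' := (mem_normalizer_iff.mp (inv_mem hg) r).mp hr
        rw [inv_inv] at hr'
        have := mem_centralizer_iff.mp hc _ hr'
        calc r * (g * c * g⁻¹) = g * ((g⁻¹ * r * g) * c) * g⁻¹ := by group
          _ = g * (c * (g⁻¹ * r * g)) * g⁻¹ := by rw [this]
          _ = g * c * g⁻¹ * r := by group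
      refine ⟨aux g hg c, fun h => ?_⟩
      have := aux g⁻¹ (inv_mem hg) _ h
      simpa [mul_assoc] using this
    have hlt : C < N := lt_of_le_of_ne Subgroup.le_normalizer fun h => hR (h ▸ hRN)
    have h2 : 2 * Nat.card C ≤ Nat.card N := by
      have h1 := Subgroup.card_mul_index (C.subgroupOf N)
      rw [Nat.card_congr (Subgroup.subgroupOfEquivOfLe hlt.le).toEquiv] at h1
      have h3 : 2 ≤ (C.subgroupOf N).index := by
        rcases Nat.lt_or_ge (C.subgroupOf N).index 2 with hl | hl
        · have h4 : (C.subgroupOf N).index = 1 := by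
            have := (C.subgroupOf N).index_ne_zero_of_finite
            omega
          rw [Subgroup.index_eq_one, Subgroup.subgroupOf_eq_top] at h4
          exact absurd h4 hlt.not_ge
        · exact hl
      rw [← h1, mul_comm]
      exact Nat.mul_le_mul_left _ h3
    calc 2 * (N.index * Nat.card C) = N.index * (2 * Nat.card C) := by ring
      _ ≤ N.index * Nat.card N := Nat.mul_le_mul_left _ h2
      _ = Nat.card G := N.index_mul_card
  have h1 := key _ hcon.1
  have h2 := key _ hcon.2
  have hu1 := card_conjUnion_le H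
  have hu2 := card_conjUnion_le K
  have hcover : Nat.card G - 1 ≤ Nat.card {g : G // g ≠ 1 ∧ ∃ x : G, x * g * x⁻¹ ∈ H} +
      Nat.card {g : G // g ≠ 1 ∧ ∃ x : G, x * g * x⁻¹ ∈ K} := by
    have hc : Nat.card {g : G // g ≠ 1} = Nat.card G - 1 := by
      haveI := Fintype.ofFinite G
      rw [Nat.card_eq_fintype_card, Nat.card_eq_fintype_card, Fintype.card_subtype_compl]
      simp
    rw [← hc, ← Nat.card_sum]
    refine Nat.card_le_card_of_surjective
      (Sum.elim (fun g => ⟨g.1, g.2.1⟩) (fun g => ⟨g.1, g.2.1⟩)) ?_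
    rintro ⟨g, hg⟩
    by_cases hp' : p ∣ (centralizer ({g} : Set G)).index
    · have hq' : ¬ q ∣ (centralizer ({g} : Set G)).index := fun h =>
        hnadj (adj_of_dvd hp.out hq.out hpq hp' h)
      exact ⟨Sum.inr ⟨g, hg, exists_conj_mem_centralizer Q hq'⟩, rfl⟩
    · exact ⟨Sum.inl ⟨g, hg, exists_conj_mem_centralizer P hp'⟩, rfl⟩
  set a := (normalizer (H : Set G)).index
  set b := (normalizer (K : Set G)).index
  have ha : 1 ≤ a := Nat.one_le_iff_ne_zero.mpr (Subgroup.index_ne_zero_of_finite)
  have hb : 1 ≤ b := Nat.one_le_iff_ne_zero.mpr (Subgroup.index_ne_zero_of_finite)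
  have hHc : 1 ≤ Nat.card H := Nat.card_pos
  have hKc : 1 ≤ Nat.card K := Nat.card_pos
  have h1' : 2 * (a * Nat.card H) ≤ Nat.card G := h1
  have h2' : 2 * (b * Nat.card K) ≤ Nat.card G := h2
  have hu1' : Nat.card {g : G // g ≠ 1 ∧ ∃ x : G, x * g * x⁻¹ ∈ H} ≤ a * Nat.card H - a := by
    simpa [Nat.mul_sub] using hu1
  have hu2' : Nat.card {g : G // g ≠ 1 ∧ ∃ x : G, x * g * x⁻¹ ∈ K} ≤ b * Nat.card K - b := by
    simpa [Nat.mul_sub] using hu2
  have := Nat.le_mul_of_pos_right a hHc
  have := Nat.le_mul_of_pos_right b hKc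
  omega

end Cfsg.Agent.FGS80.ClassPrimes
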