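import Mathlib.GroupTheory.GroupAction.MultipleTransitivity
import Mathlib.LinearAlgebra.Matrix.Notation
import Mathlib.Algebra.Group.End
import Mathlib.Data.Matrix.Mul
import Mathlib.Data.Fintype.Card
import Mathlib.RingTheory.Coprime.Lemmas
import Mathlib.RingTheory.Int.Basic
import Mathlib.Algebra.Ring.GeomSum
import Mathlib.Tactic.Linarith
import Mathlib.Tactic.LinearCombination
import Mathlib.Tactic.Ring

/-!
# Automorphisms of odd order of doubly transitive groups

If an automorphism `α` of odd order of a doubly transitive group of degree `n` sends a point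
stabiliser to a subgroup with an orbit of length `k` prime to `n`, then that subgroup fixes a
point.  The proof multiplies the incidence matrices of the designs attached to the twisted
actions around an odd cycle.
-/

set_option autoImplicit false

open Matrix

namespace Cfsg.Agent.FGS80

set_option linter.unusedSectionVars false

variable {G Ω : Type*} [Group G] [Fintype Ω] [MulAction G Ω]

/-- The orbital of `(o, ω)` for the action `g ↦ (g, α g)` on `Ω × Ω`. -/
def twistRel (α : MulAut G) (o ω : Ω) (a b : Ω) : Prop :=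
  ∃ g : G, g • o = a ∧ α g • ω = b

lemma twistRel_smul (α : MulAut G) (o ω : Ω) (g : G) (a b : Ω) :
    twistRel α o ω (g • a) (α g • b) ↔ twistRel α o ω a b := by
  constructor
  · rintro ⟨h, h1, h2⟩
    refine ⟨g⁻¹ * h, ?_, ?_⟩
    · rw [mul_smul, h1, inv_smul_smul]
    · rw [map_mul, map_inv, mul_smul, h2, inv_smul_smul]
  · rintro ⟨h, rfl, rfl⟩
    exact ⟨g * h, mul_smul g h o, by rw [map_mul, mul_smul]⟩

open Classical in
/-- The incidence matrix of `twistRel`. -/
noncomputable def twistMat (α : MulAut G) (o ω : Ω) : Matrix Ω Ω ℤ :=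
  Matrix.of fun a b => if twistRel α o ω a b then 1 else 0

lemma twistMat_smul (α : MulAut G) (o ω : Ω) (g : G) (a b : Ω) :
    twistMat α o ω (g • a) (α g • b) = twistMat α o ω a b := by
  simp only [twistMat, of_apply]
  by_cases h : twistRel α o ω a b
  · rw [if_pos h, if_pos ((twistRel_smul α o ω g a b).mpr h)]
  · rw [if_neg h, if_neg (fun h' => h ((twistRel_smul α o ω g a b).mp h'))]

lemma twistMat_pow_smul [DecidableEq Ω] (α : MulAut G) (o ω : Ω) (i : ℕ) (g : G) (a b : Ω) :
    (twistMat α o ω ^ i) (g • a) ((α ^ i) g • b) = (twistMat α o ω ^ i) a b := by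
  induction i generalizing g a b with
  | zero =>
    simp only [pow_zero, one_apply, MulAut.one_apply]
    simp only [smul_left_cancel_iff]
  | succ i ih =>
    rw [pow_succ' (twistMat α o ω), mul_apply, mul_apply]
    refine (Equiv.sum_comp (MulAction.toPerm (α g)) _).symm.trans ?_
    refine Finset.sum_congr rfl fun c _ => ?_
    rw [MulAction.toPerm_apply, twistMat_smul, pow_succ, MulAut.mul_apply, ih]

/-- The all-ones matrix. -/
def allOnes (Ω : Type*) : Matrix Ω Ω ℤ := Matrix.of fun _ _ => 1

lemma allOnes_mul_allOnes : allOnes Ω * allOnes Ω = (Fintype.card Ω : ℤ) • allOnes Ω := by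
  ext i j
  simp [allOnes, mul_apply]

lemma mul_allOnes_of_rowSum (M : Matrix Ω Ω ℤ) (k : ℤ) (h : ∀ a, ∑ b, M a b = k) :
    M * allOnes Ω = k • allOnes Ω := by
  ext i j
  simp [allOnes, mul_apply, h]

lemma pow_rowSum [DecidableEq Ω] (M : Matrix Ω Ω ℤ) (k : ℤ) (h : ∀ a, ∑ b, M a b = k) (i : ℕ)
    (a : Ω) : ∑ b, (M ^ i) a b = k ^ i := by
  induction i generalizing a with
  | zero => simp [one_apply]
  | succ i ih =>
    simp only [pow_succ M, mul_apply]
    rw [Finset.sum_comm]
    simp only [← Finset.mul_sum, h, ← Finset.sum_mul, ih]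
    rw [pow_succ]

lemma pow_mul_transpose [DecidableEq Ω] (M : Matrix Ω Ω ℤ) (c l k : ℤ)
    (hM : M * Mᵀ = c • (1 : Matrix Ω Ω ℤ) + l • allOnes Ω) (h : ∀ a, ∑ b, M a b = k) (i : ℕ) :
    ∃ e : ℤ, M ^ i * (M ^ i)ᵀ = c ^ i • (1 : Matrix Ω Ω ℤ) + e • allOnes Ω := by
  induction i with
  | zero => exact ⟨0, by simp⟩
  | succ i ih =>
    obtain ⟨e, he⟩ := ih
    refine ⟨c ^ i * l + e * (k * k), ?_⟩
    have hJ : M * allOnes Ω * Mᵀ = (k * k) • allOnes Ω := by
      rw [mul_allOnes_of_rowSum M k h, smul_mul]
      have : allOnes Ω * Mᵀ = k • allOnes Ω := by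
        ext i j
        simp [allOnes, mul_apply, transpose_apply, h]
      rw [this, smul_smul]
    rw [pow_succ' M, transpose_mul,
      show M * M ^ i * ((M ^ i)ᵀ * Mᵀ) = M * (M ^ i * (M ^ i)ᵀ) * Mᵀ by
        simp only [Matrix.mul_assoc], he, Matrix.mul_add, Matrix.add_mul, Matrix.mul_smul,
      Matrix.mul_one, Matrix.mul_smul, smul_mul, smul_mul, hM, hJ, smul_add, smul_smul, smul_smul,
      smul_smul, add_assoc, ← add_smul, ← pow_succ]

/-- Number theory at the end of the odd cycle argument. -/
lemma coprime_cycle {n k s a b lam : ℤ} (j : ℕ) (hn : 1 < n) (hk1 : 1 ≤ k) (hkn : k < n)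
    (hs : 0 ≤ s) (hl0 : 0 ≤ lam) (hsq : s * s = k - lam) (hkk : k * k = s * s + lam * n)
    (hsum : k ^ (2 * j + 1) = a + b * n) (ha : a = s ^ (2 * j + 1) ∨ a = -s ^ (2 * j + 1))
    (hcop : IsCoprime k n) : k = 1 ∨ k = n - 1 := by
  have hsk : s ≤ k := by nlinarith
  have h2j : n ∣ k ^ (2 * j) - s ^ (2 * j) := by
    rw [pow_mul, pow_mul]
    refine dvd_trans ?_ (sub_dvd_pow_sub_pow _ _ j)
    exact ⟨lam, by rw [pow_two, pow_two]; linarith⟩
  rcases ha with ha | ha
  · have h1 : n ∣ k ^ (2 * j) * (k - s) := by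
      have : k ^ (2 * j) * (k - s) = b * n - s * (k ^ (2 * j) - s ^ (2 * j)) := by
        linear_combination hsum + ha
      rw [this]
      exact dvd_sub (dvd_mul_left n b) (Dvd.dvd.mul_left h2j s)
    have h2 := (hcop.symm.pow_right).dvd_of_dvd_mul_left h1
    left
    have h3 : k - s = 0 := by
      by_contra h0
      have : n ≤ k - s := Int.le_of_dvd (by omega) h2
      omega
    have : s = k := by omega
    subst this
    nlinarith
  · have h1 : n ∣ k ^ (2 * j) * (k + s) := by
      have : k ^ (2 * j) * (k + s) = b * n + s * (k ^ (2 * j) - s ^ (2 * j)) := by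
        linear_combination hsum + ha
      rw [this]
      exact dvd_add (dvd_mul_left n b) (Dvd.dvd.mul_left h2j s)
    have h2 := (hcop.symm.pow_right).dvd_of_dvd_mul_left h1
    right
    obtain ⟨d, hd⟩ := h2
    have hd1 : d = 1 := by nlinarith
    subst hd1
    have hn' : n = k + s := by omega
    subst hn'
    have hs1 : s * ((s - 1) * (k + s)) = 0 := by
      have hlam : lam = k - s * s := by omega
      subst hlam
      nlinarith
    rcases mul_eq_zero.mp hs1 with h | h
    · omega
    · rcases mul_eq_zero.mp h with h | h <;> omega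

open Classical in
/-- If `α` has odd order, `G` is doubly transitive and `α` of the stabiliser of `o` has an orbit
`B` of length prime to `n`, then `#B` is `1` or `n - 1`, and this stabiliser image fixes a point. -/
theorem exists_fixed_point [Finite G] (h2 : MulAction.IsMultiplyPretransitive G Ω 2)
    (o ω : Ω) (α : MulAut G) (hα : Odd (orderOf α))
    (hk : (Nat.card {b : Ω // twistRel α o ω o b}).Coprime (Fintype.card Ω)) :
    (Nat.card {b : Ω // twistRel α o ω o b} = 1 ∨
        Nat.card {b : Ω // twistRel α o ω o b} = Fintype.card Ω - 1) ∧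
      ∃ z : Ω, ∀ g : G, g • o = o → α g • z = z := by
  have : MulAction.IsPretransitive G Ω := MulAction.isPretransitive_of_is_two_pretransitive
  set k : ℕ := Nat.card {b : Ω // twistRel α o ω o b} with hkdef
  set n : ℕ := Fintype.card Ω with hndef
  have hpres : ∀ g : G, g • o = o → ∀ b, twistRel α o ω o b → twistRel α o ω o (α g • b) := by
    intro g hg b hb
    have := (twistRel_smul α o ω g o b).mpr hb
    rwa [hg] at this
  have hω : twistRel α o ω o ω := ⟨1, one_smul G o, by rw [map_one, one_smul]⟩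
  have hk1 : 1 ≤ k := by
    have : Nonempty {b : Ω // twistRel α o ω o b} := ⟨⟨ω, hω⟩⟩
    exact Nat.card_pos
  have hkn : k ≤ n := by
    rw [hkdef, hndef, ← Nat.card_eq_fintype_card]
    exact Finite.card_subtype_le _
  suffices hmain : k = 1 ∨ k = n - 1 by
    refine ⟨hmain, ?_⟩
    rcases hmain with h1 | h1
    · obtain ⟨hs, -⟩ := Nat.card_eq_one_iff_unique.mp h1
      exact ⟨ω, fun g hg => congrArg Subtype.val
        (hs.elim ⟨_, hpres g hg ω hω⟩ ⟨ω, hω⟩)⟩
    · have hc : Nat.card {b : Ω // ¬ twistRel α o ω o b} = 1 := by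
        have h3 : Nat.card {b : Ω // ¬ twistRel α o ω o b} + k = n := by
          rw [hkdef, hndef, Nat.card_eq_fintype_card, Nat.card_eq_fintype_card,
            Fintype.card_subtype_compl]
          have := Fintype.card_subtype_le (fun b => twistRel α o ω o b)
          omega
        omega
      obtain ⟨hs, hne⟩ := Nat.card_eq_one_iff_unique.mp hc
      obtain ⟨⟨z, hz⟩⟩ := hne
      refine ⟨z, fun g hg => congrArg Subtype.val (hs.elim ⟨_, fun hb => hz ?_⟩ ⟨z, hz⟩)⟩
      have := hpres g⁻¹ (by rw [inv_smul_eq_iff, hg]) _ hb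
      rwa [map_inv, inv_smul_smul] at this
  rcases Nat.lt_or_ge k n with hlt | hge
  swap
  · have hkn' : k = n := le_antisymm hkn hge
    left
    rw [hkn'] at hk ⊢
    exact (Nat.coprime_self n).mp hk
  set M := twistMat α o ω with hM
  have hrow : ∀ a, ∑ b, M a b = (k : ℤ) := by
    intro a
    obtain ⟨g, rfl⟩ := MulAction.exists_smul_eq G o a
    refine (Equiv.sum_comp (MulAction.toPerm (α g)) _).symm.trans ?_
    simp only [MulAction.toPerm_apply, hM, twistMat_smul]
    simp only [twistMat, of_apply, Finset.sum_boole, hkdef, Nat.card_eq_fintype_card,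
      Fintype.card_subtype]
  obtain ⟨y, hy⟩ : ∃ y : Ω, y ≠ o := Fintype.exists_ne_of_one_lt_card (by omega) o
  have hinv : ∀ (g : G) (a a' : Ω), (M * Mᵀ) (g • a) (g • a') = (M * Mᵀ) a a' := by
    intro g a a'
    simp only [mul_apply, transpose_apply]
    refine (Equiv.sum_comp (MulAction.toPerm (α g)) _).symm.trans ?_
    simp only [MulAction.toPerm_apply, hM, twistMat_smul]
  have hdiag : ∀ a, (M * Mᵀ) a a = (k : ℤ) := by
    intro a
    rw [← hrow a]
    simp only [mul_apply, transpose_apply]
    refine Finset.sum_congr rfl fun b _ => ?_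
    simp only [hM, twistMat, of_apply]
    split <;> simp
  set lam : ℤ := (M * Mᵀ) o y with hlam
  have hform : M * Mᵀ = ((k : ℤ) - lam) • (1 : Matrix Ω Ω ℤ) + lam • allOnes Ω := by
    ext a a'
    rcases eq_or_ne a a' with rfl | hne
    · simp only [Matrix.add_apply, Matrix.smul_apply, one_apply_eq, allOnes, of_apply, smul_eq_mul, hdiag]; ring
    · obtain ⟨g, rfl, rfl⟩ := (MulAction.is_two_pretransitive_iff.mp h2) hy.symm hne
      rw [hinv]
      simp only [Matrix.add_apply, Matrix.smul_apply, one_apply_ne hne, allOnes, of_apply, smul_eq_mul, hlam]; ring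
  have hl0 : 0 ≤ lam := by
    simp only [hlam, mul_apply, transpose_apply, hM, twistMat, of_apply]
    exact Finset.sum_nonneg fun b _ => by split <;> split <;> simp
  have hlk : lam ≤ k := by
    rw [← hrow o]
    simp only [hlam, mul_apply, transpose_apply, hM, twistMat, of_apply]
    exact Finset.sum_le_sum fun b _ => by split <;> split <;> simp
  -- column sums
  have hcol : ∀ b, ∑ a, M a b = (k : ℤ) := by
    have hconst : ∀ b, ∑ a, M a b = ∑ a, M a ω := by
      intro b
      obtain ⟨g, rfl⟩ := MulAction.exists_smul_eq G ω b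
      refine (Equiv.sum_comp (MulAction.toPerm (α.symm g)) _).symm.trans ?_
      refine Finset.sum_congr rfl fun c _ => ?_
      conv_lhs => rw [show g • ω = α (α.symm g) • ω by rw [α.apply_symm_apply]]
      rw [MulAction.toPerm_apply, hM, twistMat_smul]
    intro b
    have h := Finset.sum_comm (f := fun a c => M a c) (s := Finset.univ) (t := Finset.univ)
    simp only [hrow, hconst, Finset.sum_const, Finset.card_univ, nsmul_eq_mul] at h
    rw [hconst b]
    exact (mul_left_cancel₀ (by exact_mod_cast (by omega : Fintype.card Ω ≠ 0)) h).symm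
  have hkk : (k : ℤ) * k = ((k : ℤ) - lam) + lam * n := by
    have h : ∑ a', (M * Mᵀ) o a' = (k : ℤ) * k := by
      simp only [mul_apply, transpose_apply]
      rw [Finset.sum_comm]
      simp only [← Finset.mul_sum, hcol, ← Finset.sum_mul, hrow]
    rw [← h, hform]
    simp only [Matrix.add_apply, Matrix.smul_apply, allOnes, of_apply, smul_eq_mul, Finset.sum_add_distrib, ← Finset.mul_sum,
      one_apply, Finset.sum_ite_eq, Finset.mem_univ, if_true, Finset.sum_const, Finset.card_univ,
      nsmul_eq_mul, mul_one, hndef]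
    ring
  obtain ⟨j, hj⟩ := hα
  set m := orderOf α with hm
  have hPinv : ∀ (g : G) (a a' : Ω), (M ^ m) (g • a) (g • a') = (M ^ m) a a' := by
    intro g a a'
    have := twistMat_pow_smul α o ω m g a a'
    rwa [hm, pow_orderOf_eq_one, MulAut.one_apply] at this
  set b : ℤ := (M ^ m) o y with hb
  set a : ℤ := (M ^ m) o o - b with ha
  have hP : M ^ m = a • (1 : Matrix Ω Ω ℤ) + b • allOnes Ω := by
    ext c c'
    rcases eq_or_ne c c' with rfl | hne
    · obtain ⟨g, rfl⟩ := MulAction.exists_smul_eq G o c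
      rw [hPinv]
      simp only [Matrix.add_apply, Matrix.smul_apply, one_apply_eq, allOnes, of_apply, smul_eq_mul, ha]; ring
    · obtain ⟨g, rfl, rfl⟩ := (MulAction.is_two_pretransitive_iff.mp h2) hy.symm hne
      rw [hPinv]
      simp only [Matrix.add_apply, Matrix.smul_apply, one_apply_ne hne, allOnes, of_apply, smul_eq_mul, hb]; ring
  have hsum : (k : ℤ) ^ m = a + b * n := by
    rw [← pow_rowSum M k hrow m o, hP]
    simp only [Matrix.add_apply, Matrix.smul_apply, allOnes, of_apply, smul_eq_mul, Finset.sum_add_distrib, ← Finset.mul_sum,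
      one_apply, Finset.sum_ite_eq, Finset.mem_univ, if_true, Finset.sum_const, Finset.card_univ,
      nsmul_eq_mul, mul_one, hndef]
    ring
  obtain ⟨e, he⟩ := pow_mul_transpose M _ lam k hform hrow m
  have hJt : (allOnes Ω)ᵀ = allOnes Ω := rfl
  rw [hP, transpose_add, transpose_smul, transpose_smul, transpose_one, hJt, Matrix.add_mul,
    Matrix.mul_add, Matrix.mul_add, smul_mul_smul_comm, smul_mul_smul_comm, smul_mul_smul_comm,
    smul_mul_smul_comm, Matrix.mul_one, Matrix.one_mul, Matrix.mul_one,
    allOnes_mul_allOnes] at he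
  have e1 := congrFun (congrFun he o) o
  have e2 := congrFun (congrFun he o) y
  simp only [Matrix.add_apply, Matrix.smul_apply, one_apply_eq, one_apply_ne hy.symm, allOnes, of_apply, smul_eq_mul] at e1 e2
  have ha2 : a * a = ((k : ℤ) - lam) ^ m := by linarith
  have hsq : IsSquare ((k : ℤ) - lam) := by
    rcases eq_or_ne ((k : ℤ) - lam) 0 with h0 | h0
    · rw [h0]; exact IsSquare.zero
    obtain ⟨c, hc⟩ : (((k : ℤ) - lam) ^ j) ∣ a := by
      refine (Int.pow_dvd_pow_iff (two_ne_zero)).mp ?_
      rw [← pow_mul, pow_two, ha2, hj]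
      exact pow_dvd_pow _ (by omega)
    refine ⟨c, ?_⟩
    rw [hc, hj, pow_succ, mul_comm 2 j, pow_mul, pow_two] at ha2
    have hne := pow_ne_zero j h0
    exact mul_left_cancel₀ (mul_ne_zero hne hne) (by linear_combination -ha2)
  obtain ⟨s, hs⟩ := hsq
  have habs : |s| * |s| = (k : ℤ) - lam := by rw [abs_mul_abs_self, ← hs]
  have ha' : a = |s| ^ (2 * j + 1) ∨ a = -|s| ^ (2 * j + 1) := by
    refine mul_self_eq_mul_self_iff.mp ?_
    rw [ha2, ← mul_pow, habs, hj]
  rw [hj] at hsum
  have := coprime_cycle (n := (n : ℤ)) (k := (k : ℤ)) (lam := lam) (a := a) (b := b) j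
    (by omega) (by exact_mod_cast hk1) (by exact_mod_cast hlt) (abs_nonneg s) hl0 habs
    (by rw [habs]; exact hkk) hsum ha' (Nat.isCoprime_iff_coprime.mpr hk)
  omega

/-- An automorphism sending a point stabiliser into a point stabiliser is induced by a
permutation. -/
theorem exists_perm_of_fixed [Finite G] [MulAction.IsPretransitive G Ω] (α : MulAut G) (o z : Ω)
    (hz : ∀ g : G, g • o = o → α g • z = z) :
    ∃ σ : Equiv.Perm Ω, ∀ (g : G) (x : Ω), σ (g • x) = α g • σ x := by
  choose t ht using fun x : Ω => MulAction.exists_smul_eq G o x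
  have key : ∀ g x, g • o = x → α g • z = α (t x) • z := by
    intro g x hx
    have := hz ((t x)⁻¹ * g) (by rw [mul_smul, hx, inv_smul_eq_iff, ht])
    rwa [map_mul, map_inv, mul_smul, inv_smul_eq_iff] at this
  let f : Ω → Ω := fun x => α (t x) • z
  have hequiv : ∀ g x, f (g • x) = α g • f x := by
    intro g x
    show α (t (g • x)) • z = α g • α (t x) • z
    rw [← mul_smul, ← map_mul]
    exact (key (g * t x) _ (by rw [mul_smul, ht])).symm
  have hsurj : Function.Surjective f := by
    intro y
    obtain ⟨g, rfl⟩ := MulAction.exists_smul_eq G z y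
    refine ⟨α.symm g • o, ?_⟩
    show α (t (α.symm g • o)) • z = g • z
    rw [← key (α.symm g) _ rfl, α.apply_symm_apply]
  exact ⟨Equiv.ofBijective f ⟨(Finite.injective_iff_surjective).mpr hsurj, hsurj⟩, hequiv⟩

end Cfsg.Agent.FGS80
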