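import Cfsg.Agent.Lib.Frobenius.Construct
import Mathlib.RingTheory.LittleWedderburn
import Mathlib.LinearAlgebra.FreeModule.PID
import Mathlib.LinearAlgebra.Matrix.ToLin
import Mathlib.Algebra.Algebra.ZMod
import Mathlib.Algebra.Group.Shrink
import Mathlib.Tactic

/-!
# Finite subgroups of division rings: characteristic, and Frobenius complements
-/

set_option autoImplicit false
set_option linter.style.haveILetI false

namespace Cfsg.Agent.FGS80.DivisionFC

open Matrix

variable {D : Type*} [DivisionRing D]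

theorem charZero (H : Subgroup Dˣ) [Finite H] (hH : ¬ Group.IsSolvable H) : CharZero D := by
  classical
  obtain ⟨p, hp⟩ := CharP.exists D
  rcases CharP.char_is_prime_or_zero D p with hpr | rfl
  swap
  · exact CharP.charP_to_charZero D
  exfalso
  haveI : Fact p.Prime := ⟨hpr⟩
  letI : Algebra (ZMod p) D := ZMod.algebra D p
  let ι : ↥H →* D := (Units.coeHom D).comp H.subtype
  let T : Subalgebra (ZMod p) D := Algebra.adjoin (ZMod p) (Set.range ι)
  have hspan : Subalgebra.toSubmodule T = Submodule.span (ZMod p) (Set.range ι) := by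
    rw [Algebra.adjoin_eq_span, show Set.range ι = ((MonoidHom.mrange ι : Submonoid D) : Set D) from rfl,
      Submonoid.closure_eq]
  haveI hfd : Module.Finite (ZMod p) ↥(Submodule.span (ZMod p) (Set.range ι)) :=
    Module.Finite.span_of_finite (ZMod p) (Set.finite_range ι)
  haveI : Finite ↥(Submodule.span (ZMod p) (Set.range ι)) := Module.finite_of_finite (ZMod p)
  haveI : Finite ↥T := Finite.of_equiv _ (Equiv.setCongr (congrArg SetLike.coe hspan)).symm
  have hF := Finite.isDomain_to_isField ↥T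
  refine hH ?_
  apply isSolvable_of_comm
  intro a b
  apply Subtype.ext
  apply Units.ext
  exact congrArg Subtype.val (hF.mul_comm (⟨ι a, Algebra.subset_adjoin ⟨a, rfl⟩⟩ : ↥T)
    ⟨ι b, Algebra.subset_adjoin ⟨b, rfl⟩⟩)

theorem frobenius_complement [CharZero D] (H : Subgroup Dˣ) [Finite H] [Nontrivial H] :
    ∃ (L : Type) (_ : Group L) (_ : Finite L) (K : Subgroup L),
      Cfsg.IsFrobeniusComplement K ∧ Nonempty (H ≃* K) := by
  classical
  let ι : ↥H →* D := (Units.coeHom D).comp H.subtype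
  let Λ : Submodule ℤ D := Submodule.span ℤ (Set.range ι)
  have hmem : ∀ (h : H) (z : D), z ∈ Λ → ι h * z ∈ Λ := by
    intro h z hz
    induction hz using Submodule.span_induction with
    | mem z hz =>
      obtain ⟨k, rfl⟩ := hz
      exact Submodule.subset_span ⟨h * k, map_mul ι h k⟩
    | zero => simp
    | add a b _ _ ha hb => rw [mul_add]; exact Λ.add_mem ha hb
    | smul c a _ ha => rw [mul_smul_comm]; exact Λ.smul_mem c ha
  haveI : Module.Finite ℤ ↥Λ := Module.Finite.span_of_finite ℤ (Set.finite_range ι)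
  obtain ⟨n, b⟩ := Module.basisOfFiniteTypeTorsionFree' (R := ℤ) (M := ↥Λ)
  have hn : n ≠ 0 := by
    rintro rfl
    haveI := b.repr.toEquiv.subsingleton
    have h1 : (⟨1, Submodule.subset_span ⟨1, map_one ι⟩⟩ : ↥Λ) = 0 := Subsingleton.elim _ _
    exact one_ne_zero (congrArg Subtype.val h1)
  let L : H → Module.End ℤ ↥Λ := fun h => (LinearMap.mulLeft ℤ (ι h)).restrict (hmem h)
  let Lh : ↥H →* Module.End ℤ ↥Λ :=
    { toFun := L
      map_one' := by ext z; simp [L]
      map_mul' := fun h k => by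
        ext z
        show ι (h * k) * (z : D) = ι h * (ι k * (z : D))
        rw [map_mul, mul_assoc] }
  obtain ⟨q, hqH, hq⟩ := Nat.exists_infinite_primes (Nat.card H + 1)
  haveI : Fact q.Prime := ⟨hq⟩
  let M : ↥H →* Matrix (Fin n) (Fin n) (ZMod q) :=
    ((Int.castRingHom (ZMod q)).mapMatrix.toMonoidHom.comp
      (LinearMap.toMatrixAlgEquiv b).toRingEquiv.toMonoidHom).comp Lh
  have hfix : ∀ h : H, h ≠ 1 → ∀ v : Fin n → ZMod q, M h *ᵥ v = v → v = 0 := by
    intro h hh v hv
    have hgeom : ∑ i ∈ Finset.range (orderOf h), ι h ^ i = 0 := by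
      have h1 : (ι h - 1) * ∑ i ∈ Finset.range (orderOf h), ι h ^ i = 0 := by
        rw [mul_geom_sum, ← map_pow, pow_orderOf_eq_one, map_one, sub_self]
      refine (mul_eq_zero.1 h1).resolve_left (sub_ne_zero.2 fun e => hh ?_)
      exact Subtype.ext (Units.ext e)
    have hL : ∑ i ∈ Finset.range (orderOf h), Lh (h ^ i) = 0 := by
      ext z
      rw [LinearMap.sum_apply, AddSubmonoidClass.coe_finsetSum]
      show ∑ i ∈ Finset.range (orderOf h), ι (h ^ i) * (z : D) = 0
      rw [← Finset.sum_mul]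
      simp_rw [map_pow]
      rw [hgeom, zero_mul]
    have hM : ∑ i ∈ Finset.range (orderOf h), M h ^ i = 0 := by
      simp_rw [← map_pow]
      show ∑ i ∈ Finset.range (orderOf h), (Int.castRingHom (ZMod q)).mapMatrix
        ((LinearMap.toMatrixAlgEquiv b) (Lh (h ^ i))) = 0
      rw [← map_sum, ← map_sum, hL, map_zero, map_zero]
    have hpow : ∀ i : ℕ, (M h ^ i) *ᵥ v = v := by
      intro i
      induction i with
      | zero => rw [pow_zero, one_mulVec]
      | succ i ih => rw [pow_succ, ← mulVec_mulVec, hv, ih]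
    have h2 := congrArg (fun A => A *ᵥ v) hM
    simp only [zero_mulVec, Matrix.sum_mulVec, hpow, Finset.sum_const, Finset.card_range] at h2
    rw [← Nat.cast_smul_eq_nsmul (ZMod q), smul_eq_zero] at h2
    refine h2.resolve_left fun e => ?_
    rw [ZMod.natCast_eq_zero_iff] at e
    have h3 := Nat.le_of_dvd (orderOf_pos h) e
    have h4 := Nat.le_of_dvd Nat.card_pos (orderOf_dvd_natCard h)
    omega
  haveI : Small.{0} ↥H := Countable.toSmall _
  haveI : Finite (Shrink.{0} ↥H) := Finite.of_equiv _ (equivShrink ↥H)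
  let φ : Shrink.{0} ↥H ≃* ↥H := Shrink.mulEquiv
  letI : DistribMulAction (Shrink.{0} ↥H) (Fin n → ZMod q) :=
    { smul := fun a v => M (φ a) *ᵥ v
      one_smul := fun v => by show M (φ 1) *ᵥ v = v; rw [map_one, map_one, one_mulVec]
      mul_smul := fun a c v => by
        show M (φ (a * c)) *ᵥ v = M (φ a) *ᵥ (M (φ c) *ᵥ v)
        rw [map_mul, map_mul, mulVec_mulVec]
      smul_zero := fun a => mulVec_zero (M (φ a))
      smul_add := fun a v w => mulVec_add (M (φ a)) v w }
  haveI : Nontrivial (Shrink.{0} ↥H) := φ.toEquiv.nontrivial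
  haveI : Nonempty (Fin n) := ⟨⟨0, Nat.pos_of_ne_zero hn⟩⟩
  obtain ⟨G, iG, iF, K, hK, ⟨f⟩⟩ :=
    Frobenius.exists_frobenius_of_fixedPointFree_add (V := Fin n → ZMod q) (A := Shrink.{0} ↥H)
      fun a ha v hv => hfix (φ a) (fun h => ha (φ.injective (h.trans (map_one φ).symm))) v hv
  exact ⟨G, iG, iF, K, hK, ⟨φ.symm.trans f⟩⟩

end Cfsg.Agent.FGS80.DivisionFC
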