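import Cfsg.Agent.FGS80.LevelTwo

/-!
# Two configurations that do not occur in a division ring

A dicyclic group of order 20 centralised by a root of unity of prime order `≥ 7`, and a group
`5 : 8` with faithful action of order four: in both cases the algebra spanned has zero divisors.
-/

set_option autoImplicit false

namespace Cfsg.Agent.FGS80.DivisionQuaternion

variable {D : Type*} [DivisionRing D] [CharZero D]

theorem sq_eq {a b : D} (hc : Commute a b) (h : a * a = b * b) : a = b ∨ a = -b := by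
  have h0 : (a - b) * (a + b) = 0 := by
    rw [sub_mul, mul_add, mul_add, h, hc.eq]; abel
  rcases mul_eq_zero.1 h0 with h1 | h1
  exacts [Or.inl (sub_eq_zero.1 h1), Or.inr (eq_neg_of_add_eq_zero_left h1)]

variable {x j : D}

/-- The real part `η = x² + x³` and the facts used. -/
theorem eta_eq (hx : x ^ 5 = 1) (hx1 : x ≠ 1) :
    (x ^ 2 + x ^ 3) * (x ^ 2 + x ^ 3) + (x ^ 2 + x ^ 3) = 1 ∧
    (x - x ^ 4) * (x - x ^ 4) = (x ^ 2 + x ^ 3) - 2 ∧
    (x + x ^ 4) = -1 - (x ^ 2 + x ^ 3) := by
  have h1 : (x - 1) * (1 + x + x ^ 2 + x ^ 3 + x ^ 4) = 0 := by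
    have : (x - 1) * (1 + x + x ^ 2 + x ^ 3 + x ^ 4) = x ^ 5 - 1 := by noncomm_ring
    rw [this, hx, sub_self]
  have hΦ := (mul_eq_zero.1 h1).resolve_left (sub_ne_zero.2 hx1)
  have h6 : x ^ 6 = x := by rw [pow_succ, hx, one_mul]
  have h8 : x ^ 8 = x ^ 3 := by rw [show 8 = 5 + 3 from rfl, pow_add, hx, one_mul]
  refine ⟨?_, ?_, ?_⟩
  · have e : (x ^ 2 + x ^ 3) * (x ^ 2 + x ^ 3) + (x ^ 2 + x ^ 3) =
        x ^ 4 + 2 * x ^ 5 + x ^ 6 + x ^ 2 + x ^ 3 := by noncomm_ring
    rw [e, hx, h6]
    calc x ^ 4 + 2 * 1 + x + x ^ 2 + x ^ 3 = (1 + x + x ^ 2 + x ^ 3 + x ^ 4) + 1 := by noncomm_ring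
      _ = 1 := by rw [hΦ, zero_add]
  · have e : (x - x ^ 4) * (x - x ^ 4) = x ^ 2 - 2 * x ^ 5 + x ^ 8 := by noncomm_ring
    rw [e, hx, h8, mul_one]; abel
  · have e : x + x ^ 4 = (1 + x + x ^ 2 + x ^ 3 + x ^ 4) + (-1 - (x ^ 2 + x ^ 3)) := by noncomm_ring
    rw [e, hΦ, zero_add]

theorem move_pow (hjx : j * x = x ^ 4 * j) (k : ℕ) : j * x ^ k = x ^ (4 * k) * j := by
  induction k with
  | zero => simp
  | succ k ih =>
    rw [pow_succ, ← mul_assoc, ih, mul_assoc, hjx, ← mul_assoc, ← pow_add, mul_add, mul_one]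

/-- The quaternion pair: `i₀ = e + η e j` with `i₀² = -s²` and `i₀ j = - j i₀`, `s = 1 + η²`. -/
theorem pair (hx : x ^ 5 = 1) (hx1 : x ≠ 1) (hjx : j * x = x ^ 4 * j) (hj : j * j = -1) :
    let η := x ^ 2 + x ^ 3
    let s := 1 + η * η
    let i₀ := (x - x ^ 4) + η * (x - x ^ 4) * j
    Commute η j ∧ Commute η i₀ ∧ s ≠ 0 ∧ i₀ * j = -(j * i₀) ∧ i₀ * i₀ = -(s * s) ∧
      j * i₀ ≠ 0 := by
  intro η s i₀
  obtain ⟨hq, he, -⟩ := eta_eq hx hx1
  set e := x - x ^ 4 with hedef
  have red : ∀ k, x ^ (k + 5) = x ^ k := fun k => by rw [pow_add, hx, mul_one]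
  have h8 : x ^ 8 = x ^ 3 := red 3
  have h12 : x ^ 12 = x ^ 2 := (red 7).trans (red 2)
  have h16 : x ^ 16 = x := ((red 11).trans ((red 6).trans (red 1))).trans (pow_one x)
  have hje : j * e = -(e * j) := by
    rw [hedef, mul_sub, sub_mul, hjx, move_pow hjx 4, show 4 * 4 = 16 from rfl, h16, neg_sub]
  have hjη : j * η = η * j := by
    show j * (x ^ 2 + x ^ 3) = _
    rw [mul_add, move_pow hjx 2, move_pow hjx 3, show 4 * 2 = 8 from rfl, show 4 * 3 = 12 from rfl,
      h8, h12, ← add_mul, add_comm]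
  have hηe : Commute η e :=
    Commute.sub_right ((Commute.pow_left (Commute.refl x) 2).add_left ((Commute.refl x).pow_left 3))
      (((Commute.pow_pow (Commute.refl x) 2 4)).add_left (Commute.pow_pow (Commute.refl x) 3 4))
  have hηj : Commute η j := hjη.symm
  have hηi : Commute η i₀ := hηe.add_right (((Commute.refl η).mul_right hηe).mul_right hηj)
  have hse : η - 2 = -s := by
    show η - 2 = -(1 + η * η)
    rw [show η * η = 1 - η from eq_sub_of_add_eq hq, ← one_add_one_eq_two]; abel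
  have hs : s ≠ 0 := by
    intro h
    have h' : 1 + η * η = 0 := h
    have hq' : η * η + η = 1 := hq
    rw [eq_sub_of_add_eq hq'] at h'
    have hη2 : η = 2 := by
      have : η = 2 - (1 + (1 - η)) := by rw [← one_add_one_eq_two]; abel
      rw [this, h', sub_zero]
    rw [hη2] at hq'
    norm_num at hq'
  have hanti : i₀ * j = -(j * i₀) := by
    show (e + η * e * j) * j = -(j * (e + η * e * j))
    rw [mul_add, add_mul, hje, ← mul_assoc j, ← mul_assoc j, hjη, mul_assoc η j e, hje]
    noncomm_ring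
  have hsq : i₀ * i₀ = -(s * s) := by
    have h1 : e * (η * e * j) + η * e * j * e = 0 := by
      rw [mul_assoc (η * e) j e, hje, ← mul_assoc e (η * e), ← mul_assoc e η e, ← hηe.eq]
      noncomm_ring
    have h2 : η * e * j * (η * e * j) = η * η * (e * e) := by
      calc η * e * j * (η * e * j) = η * e * (j * η) * e * j := by noncomm_ring
        _ = η * (e * η) * (j * e) * j := by rw [hjη]; noncomm_ring
        _ = -(η * η * (e * e) * (j * j)) := by rw [← hηe.eq, hje]; noncomm_ring
        _ = _ := by rw [hj]; noncomm_ring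
    show (e + η * e * j) * (e + η * e * j) = _
    calc (e + η * e * j) * (e + η * e * j)
        = e * e + (e * (η * e * j) + η * e * j * e) + η * e * j * (η * e * j) := by noncomm_ring
      _ = (1 + η * η) * (e * e) := by rw [h1, h2]; noncomm_ring
      _ = _ := by
        rw [show e * e = η - 2 from he, hse]
        show s * -s = _
        rw [mul_neg]
  refine ⟨hηj, hηi, hs, hanti, hsq, fun h => ?_⟩
  have hj0 : j ≠ 0 := fun h0 => by rw [h0, mul_zero] at hj; norm_num at hj
  have hi0 := (mul_eq_zero.1 h).resolve_left hj0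
  rw [hi0, mul_zero, eq_comm, neg_eq_zero] at hsq
  exact hs (mul_self_eq_zero.1 hsq)

/-- No root of unity of prime order `≥ 7` centralises `5 : 4` with `j² = -1`. -/
theorem no_root {ζ : D} {r : ℕ} (hr : r.Prime) (h7 : 7 ≤ r) (hζ : orderOf ζ = r)
    (hx : x ^ 5 = 1) (hx1 : x ≠ 1) (hjx : j * x = x ^ 4 * j) (hj : j * j = -1)
    (hζx : Commute ζ x) (hζj : Commute ζ j) : False := by
  obtain ⟨hηj, -, hs, hanti, hsq, hne⟩ := pair hx hx1 hjx hj
  obtain ⟨hq, -, -⟩ := eta_eq hx hx1
  set η := x ^ 2 + x ^ 3 with hη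
  set s := 1 + η * η with hsdef
  set i₀ := (x - x ^ 4) + η * (x - x ^ 4) * j with hi
  have hηx : Commute η x := ((Commute.refl x).pow_left 2).add_left ((Commute.refl x).pow_left 3)
  let C₁ : Subring D := Subring.centralizer {ζ, η}
  let K : Subring D := Subring.centralizer (C₁ : Set D)
  have hmemC : ∀ {z : D}, z ∈ C₁ ↔ Commute ζ z ∧ Commute η z := fun {z} => by
    simp [C₁, Subring.mem_centralizer_iff, Commute, SemiconjBy]
  have hmemK : ∀ {z : D}, z ∈ K ↔ ∀ c ∈ C₁, c * z = z * c := fun {z} => Subring.mem_centralizer_iff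
  have hζη : Commute ζ η := (hζx.pow_right 2).add_right (hζx.pow_right 3)
  have hζC : ζ ∈ C₁ := hmemC.2 ⟨Commute.refl ζ, hζη.symm⟩
  have hηC : η ∈ C₁ := hmemC.2 ⟨hζη, Commute.refl η⟩
  have hKC : ∀ z ∈ K, z ∈ C₁ := fun z hz =>
    hmemC.2 ⟨hmemK.1 hz ζ hζC, hmemK.1 hz η hηC⟩
  have hζK : ζ ∈ K := hmemK.2 fun c hc => (hmemC.1 hc).1.symm.eq
  have hηK : η ∈ K := hmemK.2 fun c hc => (hmemC.1 hc).2.symm.eq
  have hF : IsField K :=
    { exists_pair_ne := ⟨0, 1, zero_ne_one⟩
      mul_comm := fun a b => Subtype.ext (hmemK.1 b.2 a (hKC a a.2))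
      mul_inv_cancel := fun {a} ha => ⟨⟨(a : D)⁻¹, hmemK.2 fun c hc =>
        ((show Commute c (a : D) from hmemK.1 a.2 c hc).inv_right₀).eq⟩,
        Subtype.ext (mul_inv_cancel₀ fun h => ha (Subtype.ext h))⟩ }
  letI : Field K := hF.toField
  haveI : CharZero K :=
    ⟨fun m n h => Nat.cast_injective (R := D) (by simpa using congrArg Subtype.val h)⟩
  have hw : (2 * (⟨η, hηK⟩ : K) + 1) * (2 * ⟨η, hηK⟩ + 1) = 5 := by
    apply Subtype.ext
    show (2 * η + 1) * (2 * η + 1) = 5
    calc (2 * η + 1) * (2 * η + 1) = 4 * (η * η + η) + 1 := by noncomm_ring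
      _ = 5 := by rw [hq]; norm_num
  obtain ⟨⟨a, ha⟩, ⟨b, hb⟩, hab'⟩ :=
    LevelTwo.neg_one_sum_sq hr h7 (ζ := (⟨ζ, hζK⟩ : K))
      (by convert IsPrimitiveRoot.orderOf (⟨ζ, hζK⟩ : K) using 1
          rw [← hζ]; exact orderOf_injective (K.subtype : ↥K →* D) Subtype.coe_injective ⟨ζ, hζK⟩) hw
  have hab : a * a + b * b = -1 := congrArg Subtype.val hab'
  have hjC : j ∈ C₁ := hmemC.2 ⟨hζj, hηj⟩
  have hxC : x ∈ C₁ := hmemC.2 ⟨hζx, hηx⟩
  have heC : x - x ^ 4 ∈ C₁ := C₁.sub_mem hxC (C₁.pow_mem hxC 4)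
  have hiC : i₀ ∈ C₁ := C₁.add_mem heC (C₁.mul_mem (C₁.mul_mem hηC heC) hjC)
  have hsC : s ∈ C₁ := C₁.add_mem C₁.one_mem (C₁.mul_mem hηC hηC)
  have ca : ∀ c ∈ C₁, Commute a c := fun c hc => (hmemK.1 ha c hc).symm
  have cb : ∀ c ∈ C₁, Commute b c := fun c hc => (hmemK.1 hb c hc).symm
  have cs : ∀ c, Commute η c → Commute s c := fun c h =>
    (Commute.one_left c).add_left (h.mul_left h)
  have csi : Commute s i₀ := cs _ (pair hx hx1 hjx hj).2.1
  have csj : Commute s j := cs _ hηj
  have cab : Commute a b := ca b (hKC b hb)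
  set v := a * i₀ + b * s * j with hv
  have hvs : Commute v s :=
    ((ca s hsC).mul_left csi.symm).add_left (((cb s hsC).mul_left (Commute.refl s)).mul_left csj.symm)
  have hv2 : v * v = s * s := by
    have e1 : a * i₀ * (a * i₀) = a * a * (i₀ * i₀) := by
      rw [mul_assoc, ← mul_assoc i₀, ← (ca i₀ hiC).eq]; noncomm_ring
    have e2 : b * s * j * (b * s * j) = b * b * (s * s) * (j * j) := by
      calc b * s * j * (b * s * j) = b * s * (j * b) * (s * j) := by noncomm_ring
        _ = b * (s * b) * (j * s) * j := by rw [← (cb j hjC).eq]; noncomm_ring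
        _ = _ := by rw [← (cb s hsC).eq, ← csj.eq]; noncomm_ring
    have e3 : a * i₀ * (b * s * j) + b * s * j * (a * i₀) = 0 := by
      calc a * i₀ * (b * s * j) + b * s * j * (a * i₀)
          = a * (i₀ * b) * (s * j) + b * s * (j * a) * i₀ := by noncomm_ring
        _ = a * b * (i₀ * s) * j + b * (s * a) * j * i₀ := by
            rw [← (cb i₀ hiC).eq, ← (ca j hjC).eq]; noncomm_ring
        _ = a * b * s * (i₀ * j) + b * a * s * (j * i₀) := by
            rw [← csi.eq, ← (ca s hsC).eq]; noncomm_ring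
        _ = 0 := by rw [← cab.eq, hanti]; noncomm_ring
    calc v * v = a * i₀ * (a * i₀) + (a * i₀ * (b * s * j) + b * s * j * (a * i₀))
          + b * s * j * (b * s * j) := by rw [hv]; noncomm_ring
      _ = -((a * a + b * b) * (s * s)) := by rw [e1, e2, e3, hsq, hj]; noncomm_ring
      _ = s * s := by rw [hab]; noncomm_ring
  -- `v` anticommutes with `k = j i₀`
  have hvk : v * (j * i₀) = -((j * i₀) * v) := by
    have a1 : i₀ * (j * i₀) = -(j * i₀ * i₀) := by rw [← mul_assoc, hanti, neg_mul]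
    have a2 : j * (j * i₀) = -(j * i₀ * j) := by
      rw [mul_assoc j i₀ j, hanti, mul_neg, neg_neg]
    calc v * (j * i₀) = a * (i₀ * (j * i₀)) + b * s * (j * (j * i₀)) := by rw [hv]; noncomm_ring
      _ = -(a * (j * i₀) * i₀ + b * s * (j * i₀) * j) := by rw [a1, a2]; noncomm_ring
      _ = -((j * i₀) * v) := by
        rw [((ca j hjC).mul_right (ca i₀ hiC)).eq,
          (((cb j hjC).mul_right (cb i₀ hiC)).mul_left ((csj.mul_right csi))).eq, hv]
        noncomm_ring
  have hcom : Commute v (j * i₀) := by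
    rcases sq_eq hvs hv2 with h | h <;> rw [h]
    · exact csj.mul_right csi
    · exact (csj.mul_right csi).neg_left
  have hv0 : v ≠ 0 := fun h => by
    rw [h, mul_zero] at hv2
    exact hs (mul_self_eq_zero.1 hv2.symm)
  rw [hcom.eq] at hvk
  have h2 : (2 : D) * ((j * i₀) * v) = 0 := by rw [two_mul]; exact eq_neg_iff_add_eq_zero.1 hvk
  exact mul_ne_zero hne hv0 ((mul_eq_zero.1 h2).resolve_left two_ne_zero)

/-- No `5 : 8` with an element of order four on the 5-part. -/
theorem no_outer {n : D} (hx : x ^ 5 = 1) (hx1 : x ≠ 1) (hnx : n * x = x ^ 2 * n)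
    (hn : n ^ 4 = -1) : False := by
  have hnp : ∀ k : ℕ, n * x ^ k = x ^ (2 * k) * n := by
    intro k
    induction k with
    | zero => simp
    | succ k ih =>
      rw [pow_succ, ← mul_assoc, ih, mul_assoc, hnx, ← mul_assoc, ← pow_add, mul_add, mul_one]
  have hjx : n * n * x = x ^ 4 * (n * n) := by
    rw [mul_assoc, hnx, ← mul_assoc, hnp 2, mul_assoc]
  have hj : n * n * (n * n) = -1 := by rw [← hn]; noncomm_ring
  obtain ⟨hηj, hηi, hs, hanti, hsq, hne⟩ := pair hx hx1 hjx hj
  obtain ⟨hq, -, hη'⟩ := eta_eq hx hx1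
  set j := n * n with hjdef
  set η := x ^ 2 + x ^ 3 with hη
  set s := 1 + η * η with hsdef
  set e := x - x ^ 4 with hedef
  set i₀ := e + η * e * j with hi
  set η' := -1 - η with hη'def
  have red : ∀ k, x ^ (k + 5) = x ^ k := fun k => by rw [pow_add, hx, mul_one]
  have hnη : n * η = η' * n := by
    rw [hη, mul_add, hnp 2, hnp 3, show 2 * 3 = 1 + 5 from rfl, red, pow_one, ← add_mul,
      show 2 * 2 = 4 from rfl, add_comm, hη']
  have hne' : n * e = η' * e * n := by
    rw [hedef, mul_sub, hnx, hnp 4, show 2 * 4 = 3 + 5 from rfl, red, ← sub_mul, ← hη']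
    congr 1
    have : (x + x ^ 4) * (x - x ^ 4) = x ^ 2 - x ^ (3 + 5) := by noncomm_ring
    rw [this, red]
  have hηη' : η * η' = -1 := by
    rw [hη'def]
    calc η * (-1 - η) = -(η * η + η) := by noncomm_ring
      _ = -1 := by rw [hq]
  have cη' : ∀ c, Commute η c → Commute η' c := fun c h =>
    ((Commute.one_left c).neg_left).sub_left h
  have hnj : Commute n j := (Commute.refl n).mul_right (Commute.refl n)
  -- the images of `i₀` and `s`
  have hni : n * i₀ = η' * η' * (i₀ * j) * n := by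
    have h1 : n * i₀ = (η' * e + η' * (η' * e) * j) * n := by
      calc n * i₀ = n * e + n * η * e * j := by rw [hi]; noncomm_ring
        _ = n * e + η' * (n * e) * j := by rw [hnη]; noncomm_ring
        _ = η' * e * n + η' * (η' * e) * (n * j) := by rw [hne']; noncomm_ring
        _ = _ := by rw [hnj.eq]; noncomm_ring
    rw [h1]
    congr 1
    calc η' * e + η' * (η' * e) * j = -1 * η' * e * -1 + η' * η' * e * j := by noncomm_ring
      _ = η * η' * η' * e * (j * j) + η' * η' * e * j := by rw [hηη', hj]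
      _ = η' * η' * (η * e * j + e) * j := by
          rw [(cη' η (Commute.refl η)).symm.eq, mul_assoc η' η η',
            (cη' η (Commute.refl η)).symm.eq]
          noncomm_ring
      _ = _ := by rw [hi, add_comm, mul_assoc]
  have hns : n * s = η' * η' * s * n := by
    have e1 : n * s = (1 + η' * η') * n := by
      rw [hsdef, mul_add, mul_one, ← mul_assoc, hnη, mul_assoc, hnη, add_mul, one_mul, mul_assoc]
    rw [e1]; congr 1
    have : η' * η' * s = η' * η' + η' * (η' * η) * η := by rw [hsdef]; noncomm_ring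
    rw [this, (cη' η (Commute.refl η)).eq, hηη']
    calc 1 + η' * η' = η' * η' + -(-1) := by rw [neg_neg]; abel
      _ = η' * η' + -(η * η') := by rw [hηη']
      _ = η' * η' + η' * -1 * η := by rw [(cη' η (Commute.refl η)).symm.eq]; noncomm_ring
  set m := (1 + j) * n with hm
  set u := i₀ + s * j with hu
  have csj : Commute s j := (Commute.one_left j).add_left (hηj.mul_left hηj)
  have csi : Commute s i₀ := (Commute.one_left i₀).add_left (hηi.mul_left hηi)
  have cη'j : Commute (η' * η') j := (cη' j hηj).mul_left (cη' j hηj)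
  have hmj : Commute m j := ((Commute.one_left j).add_left (Commute.refl j)).mul_left hnj
  have h1j : Commute (1 + j) (η' * η') := (Commute.one_left _).add_left cη'j.symm
  have hmi : m * i₀ = η' * η' * i₀ * m := by
    have hk : (1 + j) * (i₀ * j) = i₀ * (1 + j) := by
      calc (1 + j) * (i₀ * j) = i₀ * j + j * i₀ * j := by noncomm_ring
        _ = i₀ * j + -(i₀ * j) * j := by rw [hanti, neg_neg]
        _ = i₀ * j + -(i₀ * (j * j)) := by noncomm_ring
        _ = _ := by rw [hj]; noncomm_ring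
    calc m * i₀ = (1 + j) * (n * i₀) := by rw [hm, mul_assoc]
      _ = (1 + j) * (η' * η') * (i₀ * j) * n := by rw [hni]; noncomm_ring
      _ = η' * η' * ((1 + j) * (i₀ * j)) * n := by rw [h1j.eq]; noncomm_ring
      _ = _ := by rw [hk, hm]; noncomm_ring
  have hms : m * s = η' * η' * s * m := by
    calc m * s = (1 + j) * (n * s) := by rw [hm, mul_assoc]
      _ = (1 + j) * (η' * η') * s * n := by rw [hns]; noncomm_ring
      _ = η' * η' * ((1 + j) * s) * n := by rw [h1j.eq]; noncomm_ring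
      _ = _ := by rw [((Commute.one_left s).add_left csj.symm).eq, hm]; noncomm_ring
  have hmu : m * u = η' * η' * u * m := by
    calc m * u = m * i₀ + m * s * j := by rw [hu]; noncomm_ring
      _ = η' * η' * i₀ * m + η' * η' * s * (m * j) := by rw [hmi, hms]; noncomm_ring
      _ = _ := by rw [hmj.eq, hu]; noncomm_ring
  have hu2 : u * u = -2 * (s * s) := by
    calc u * u = i₀ * i₀ + (i₀ * s * j + s * (j * i₀)) + s * (j * s) * j := by rw [hu]; noncomm_ring
      _ = i₀ * i₀ + (s * (i₀ * j) + s * (j * i₀)) + s * s * (j * j) := by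
          rw [← csi.eq, ← csj.eq]; noncomm_ring
      _ = _ := by rw [hsq, hanti, hj]; noncomm_ring
  have hm2 : m * m = -2 := by
    have c : Commute n (1 + j) := (Commute.one_right n).add_right hnj
    calc m * m = (1 + j) * (n * (1 + j)) * n := by rw [hm]; noncomm_ring
      _ = (1 + j + j + j * j) * (n * n) := by rw [c.eq]; noncomm_ring
      _ = (1 + -1 + (j + j)) * j := by rw [← hjdef, hj]; abel_nf
      _ = _ := by rw [add_neg_cancel, zero_add, add_mul, hj]; norm_num
  have csu : Commute s u := csi.add_right ((Commute.refl s).mul_right csj)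
  set U := s⁻¹ * u with hU
  have hη'0 : η' ≠ 0 := fun h => by rw [h, mul_zero] at hηη'; norm_num at hηη'
  have hmU : Commute U m := by
    have h3 : (η' * η' * s) * (m * U) = (η' * η' * s) * (U * m) := by
      calc (η' * η' * s) * (m * U) = η' * η' * s * m * U := by noncomm_ring
        _ = m * (s * U) := by rw [← hms]; noncomm_ring
        _ = m * u := by rw [hU, ← mul_assoc s, mul_inv_cancel₀ hs, one_mul]
        _ = η' * η' * (s * U) * m := by rw [hmu, hU, ← mul_assoc s, mul_inv_cancel₀ hs, one_mul]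
        _ = _ := by noncomm_ring
    exact (mul_left_cancel₀ (mul_ne_zero (mul_ne_zero hη'0 hη'0) hs) h3).symm
  have hU2 : U * U = m * m := by
    have c : Commute s⁻¹ u := csu.inv_left₀
    calc U * U = s⁻¹ * (u * s⁻¹) * u := by rw [hU]; noncomm_ring
      _ = s⁻¹ * s⁻¹ * (u * u) := by rw [← c.eq]; noncomm_ring
      _ = -2 * (s⁻¹ * (s⁻¹ * s) * s) := by rw [hu2]; noncomm_ring
      _ = _ := by rw [inv_mul_cancel₀ hs, mul_one, inv_mul_cancel₀ hs, mul_one, hm2]
  have hUj : Commute U j := by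
    rcases sq_eq hmU hU2 with h | h <;> rw [h]
    exacts [hmj, hmj.neg_left]
  have huj : Commute u j := by
    have : u = s * U := by rw [hU, ← mul_assoc, mul_inv_cancel₀ hs, one_mul]
    rw [this]; exact csj.mul_left hUj
  have hij : Commute i₀ j := by
    have : i₀ = u - s * j := by rw [hu]; noncomm_ring
    rw [this]; exact huj.sub_left (csj.mul_left (Commute.refl j))
  rw [hij.eq, eq_neg_iff_add_eq_zero, ← two_mul] at hanti
  exact hne ((mul_eq_zero.1 hanti).resolve_left two_ne_zero)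

end Cfsg.Agent.FGS80.DivisionQuaternion
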