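import Cfsg.Prelude.Def_Solvable
import Mathlib.GroupTheory.SemidirectProduct
import Mathlib.GroupTheory.Index
import Mathlib.Algebra.Group.TransferInstance
import Mathlib.Algebra.Group.Shrink
import Mathlib.Data.Fintype.EquivFin

/-!
# Frobenius groups from fixed-point-free actions
-/

set_option autoImplicit false

open scoped Pointwise

namespace Cfsg.Agent.FGS80

variable {A V : Type*} [Group A] [Group V]

lemma mem_conj_smul_iff {G : Type*} [Group G] (H : Subgroup G) (g x : G) :
    x ∈ MulAut.conj g • H ↔ g⁻¹ * x * g ∈ H := by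
  rw [Subgroup.mem_pointwise_smul_iff_inv_smul_mem, MulAut.smul_def, MulAut.conj_inv_apply]

/-- The complement of a semidirect product by a fixed-point-free action is a Frobenius
complement. -/
theorem isFrobeniusComplement_inr [Nontrivial A] [Nontrivial V] (φ : A →* MulAut V)
    (hfpf : ∀ a : A, a ≠ 1 → ∀ v : V, φ a v = v → v = 1) :
    Cfsg.IsFrobeniusComplement ((SemidirectProduct.inr : A →* V ⋊[φ] A).range) := by
  refine ⟨?_, ?_, fun g hg => ?_⟩
  · obtain ⟨a, ha⟩ := exists_ne (1 : A)
    intro h
    have : (SemidirectProduct.inr a : V ⋊[φ] A) ∈ (⊥ : Subgroup (V ⋊[φ] A)) := h ▸ ⟨a, rfl⟩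
    exact ha (SemidirectProduct.inr_injective (Subgroup.mem_bot.mp this))
  · obtain ⟨v, hv⟩ := exists_ne (1 : V)
    intro h
    obtain ⟨a, ha⟩ : (SemidirectProduct.inl v : V ⋊[φ] A) ∈ SemidirectProduct.inr.range :=
      h ▸ Subgroup.mem_top _
    have := congrArg SemidirectProduct.left ha
    simp at this
    first | exact hv this | exact hv this.symm
  · refine (Subgroup.eq_bot_iff_forall _).mpr ?_
    rintro _ ⟨⟨b, rfl⟩, hb⟩
    obtain ⟨c, hc⟩ := (mem_conj_smul_iff _ _ _).mp hb
    have h1 : g * SemidirectProduct.inr c = SemidirectProduct.inr b * g := by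
      rw [hc]; group
    have h2 := congrArg SemidirectProduct.left h1
    simp at h2
    by_contra hne
    refine hg ⟨g.right, SemidirectProduct.ext ?_ (by simp)⟩
    rw [SemidirectProduct.left_inr, hfpf b (fun hb1 => hne (by rw [hb1, map_one])) g.left h2.symm]

/-- A fixed-point-free action produces a finite Frobenius group in `Type`, with complement
isomorphic to `A` and index the order of `V`. -/
theorem exists_frobenius_of_fpf [Finite A] [Finite V] [Nontrivial A] [Nontrivial V]
    (φ : A →* MulAut V) (hfpf : ∀ a : A, a ≠ 1 → ∀ v : V, φ a v = v → v = 1) :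
    ∃ (L : Type) (_ : Group L) (_ : Finite L) (H : Subgroup L),
      Cfsg.IsFrobeniusComplement H ∧ Nonempty (A ≃* H) ∧ H.index = Nat.card V := by
  have : Finite (V ⋊[φ] A) := Finite.of_equiv _ SemidirectProduct.equivProd.symm
  have : Small.{0} (V ⋊[φ] A) := ⟨Fin (Nat.card (V ⋊[φ] A)), ⟨Finite.equivFin _⟩⟩
  let E : Shrink.{0} (V ⋊[φ] A) ≃* (V ⋊[φ] A) := Shrink.mulEquiv
  have : Finite (Shrink.{0} (V ⋊[φ] A)) := Finite.of_equiv _ E.symm.toEquiv
  set R := (SemidirectProduct.inr : A →* V ⋊[φ] A).range with hR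
  have hFC := isFrobeniusComplement_inr φ hfpf
  refine ⟨Shrink.{0} (V ⋊[φ] A), inferInstance, inferInstance, R.comap E.toMonoidHom,
    ⟨?_, ?_, ?_⟩, ⟨?_⟩, ?_⟩
  · intro h
    refine hFC.1 (Subgroup.comap_injective (f := E.toMonoidHom) E.surjective ?_)
    rw [h, MonoidHom.comap_bot, (MonoidHom.ker_eq_bot_iff _).mpr E.injective]
  · intro h
    exact hFC.2.1 (Subgroup.comap_injective (f := E.toMonoidHom) E.surjective
      (h.trans (Subgroup.comap_top _).symm))
  · intro g hg
    refine (Subgroup.eq_bot_iff_forall _).mpr fun x hx => ?_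
    have h1 : E x ∈ R ⊓ (MulAut.conj (E g) • R) := by
      refine ⟨hx.1, (mem_conj_smul_iff _ _ _).mpr ?_⟩
      have := (mem_conj_smul_iff _ _ _).mp hx.2
      rwa [Subgroup.mem_comap, MulEquiv.coe_toMonoidHom, map_mul, map_mul, map_inv] at this
    rw [hFC.2.2 (E g) hg, Subgroup.mem_bot] at h1
    exact E.injective (h1.trans (map_one E).symm)
  · exact (MonoidHom.ofInjective SemidirectProduct.inr_injective).trans
        { toFun := fun r => ⟨E.symm r, by
            show E (E.symm (r : V ⋊[φ] A)) ∈ R
            rw [E.apply_symm_apply]; exact r.2⟩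
          invFun := fun r => ⟨E r, r.2⟩
          left_inv := fun r => Subtype.ext (E.apply_symm_apply _)
          right_inv := fun r => Subtype.ext (E.symm_apply_apply _)
          map_mul' := fun r s => Subtype.ext (map_mul E.symm (r : V ⋊[φ] A) s) }
  · rw [Subgroup.index_comap_of_surjective _ E.surjective]
    have h := R.index_mul_card
    rw [← Nat.card_congr (MonoidHom.ofInjective
      (SemidirectProduct.inr_injective (φ := φ))).toEquiv, SemidirectProduct.card] at h
    exact Nat.eq_of_mul_eq_mul_right Nat.card_pos h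

end Cfsg.Agent.FGS80
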