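import Mathlib

/-!
# Fixed points of Sylow subgroups in groups generated by `p`-elements

If `K` is generated by its `p`-elements and permutes a finite family without fixing a member, a
Sylow `p`-subgroup fixes at most the fraction `(p - 1) / (2 * p - 1)` of the family.  The proof
is by induction on `|K|`: a family violating the bound has every `p` of its members fixed by a
common Sylow subgroup, which a `p`-cycle contradicts.
-/

set_option autoImplicit false
set_option linter.unusedSectionVars false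
set_option linter.style.haveILetI false

namespace Cfsg.Agent.FGS80.FixBound

open Subgroup Finset
open scoped Classical

noncomputable section

variable {G : Type*} [Group G] [Finite G] {p : ℕ} [hp : Fact p.Prime]

/-- Conjugate of a subgroup. -/
def cj (g : G) (B : Subgroup G) : Subgroup G := B.map (MulAut.conj g).toMonoidHom

theorem mem_cj {g x : G} {B : Subgroup G} : x ∈ cj g B ↔ g⁻¹ * x * g ∈ B := by
  constructor
  · rintro ⟨y, hy, rfl⟩
    simpa [mul_assoc] using hy
  · intro h
    exact ⟨_, h, by simp [mul_assoc]⟩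

theorem cj_one (B : Subgroup G) : cj (1 : G) B = B := by
  ext x; simp [mem_cj]

theorem cj_cj (a b : G) (B : Subgroup G) : cj a (cj b B) = cj (a * b) B := by
  ext x; simp [mem_cj, mul_assoc]

theorem cj_inj (g : G) : Function.Injective (cj g) := fun A B h => by
  have h' := congrArg (cj g⁻¹) h
  simpa [cj_cj, cj_one] using h'

theorem cj_inv_eq {g : G} {A B : Subgroup G} : cj g A = B ↔ A = cj g⁻¹ B := by
  constructor
  · rintro rfl; rw [cj_cj, inv_mul_cancel, cj_one]
  · rintro rfl; rw [cj_cj, mul_inv_cancel, cj_one]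

theorem cj_mono (g : G) {A B : Subgroup G} (h : A ≤ B) : cj g A ≤ cj g B := Subgroup.map_mono h

theorem cj_le_iff (g : G) {A B : Subgroup G} : cj g A ≤ cj g B ↔ A ≤ B :=
  Subgroup.map_le_map_iff_of_injective (MulAut.conj g).injective

theorem card_cj (g : G) (B : Subgroup G) : Nat.card (cj g B) = Nat.card B :=
  Subgroup.card_map_of_injective (MulAut.conj g).injective

theorem mem_normalizer {g : G} {B : Subgroup G} :
    g ∈ normalizer (B : Set G) ↔ cj g B = B := by
  rw [Subgroup.mem_normalizer_iff]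
  constructor
  · intro h
    ext x
    rw [mem_cj]
    have := h (g⁻¹ * x * g)
    simpa [mul_assoc] using this
  · intro h x
    conv_rhs => rw [← h, mem_cj]
    simp [mul_assoc]

theorem cj_eq_self {g : G} {B : Subgroup G} (h : g ∈ B) : cj g B = B :=
  mem_normalizer.1 (le_normalizer h)

theorem cj_eq_of_mem {g : G} {B C : Subgroup G} (hC : C ≤ normalizer (B : Set G)) (h : g ∈ C) :
    cj g B = B :=
  mem_normalizer.1 (hC h)

theorem mem_normalizer_of_le {g : G} {B : Subgroup G} (h : cj g B ≤ B) :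
    g ∈ normalizer (B : Set G) :=
  mem_normalizer.2 (eq_of_le_of_card_ge h (card_cj g B).ge)

theorem normalizer_cj (g : G) (B : Subgroup G) :
    normalizer (cj g B : Set G) = cj g (normalizer (B : Set G)) := by
  ext x
  rw [mem_cj, mem_normalizer, mem_normalizer, cj_cj]
  constructor
  · intro h
    rw [mul_assoc, ← cj_cj g⁻¹, h, cj_cj, inv_mul_cancel, cj_one]
  · intro h
    conv_rhs => rw [← h, cj_cj]
    rw [show g * (g⁻¹ * x * g) = x * g by group]

/-! ### The subgroup generated by `p`-elements -/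

variable (p) in
/-- The subgroup generated by the `p`-elements of `U`. -/
def res (U : Subgroup G) : Subgroup G := closure {x : G | x ∈ U ∧ ∃ k : ℕ, x ^ p ^ k = 1}

theorem res_le (U : Subgroup G) : res p U ≤ U := (closure_le U).2 fun _ hx => hx.1

theorem mem_res {U : Subgroup G} {x : G} (hx : x ∈ U) {k : ℕ} (hk : x ^ p ^ k = 1) :
    x ∈ res p U := subset_closure ⟨hx, k, hk⟩

theorem res_mono {U V : Subgroup G} (h : U ≤ V) : res p U ≤ res p V :=
  closure_mono fun _ hx => ⟨h hx.1, hx.2⟩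

theorem le_res {U Q : Subgroup G} (hQ : IsPGroup p Q) (h : Q ≤ U) : Q ≤ res p U := fun x hx => by
  obtain ⟨k, hk⟩ := hQ ⟨x, hx⟩
  exact mem_res (h hx) (congrArg Subtype.val hk : x ^ p ^ k = 1)

theorem res_res (U : Subgroup G) : res p (res p U) = res p U :=
  le_antisymm (res_le _) ((closure_le _).2 fun _ hx => mem_res (subset_closure hx) hx.2.choose_spec)

theorem cj_res (g : G) (U : Subgroup G) : cj g (res p U) = res p (cj g U) := by
  have key : ∀ (g : G) (U : Subgroup G), cj g (res p U) ≤ res p (cj g U) := by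
    intro g U
    rw [cj, res, MonoidHom.map_closure, closure_le]
    rintro _ ⟨x, ⟨hx, k, hk⟩, rfl⟩
    refine mem_res (k := k) ⟨x, hx, rfl⟩ ?_
    rw [← map_pow, hk, map_one]
  refine le_antisymm (key g U) ?_
  have h := cj_mono g (key g⁻¹ (cj g U))
  rwa [cj_cj, mul_inv_cancel, cj_one, cj_cj, inv_mul_cancel, cj_one] at h

/-! ### Sylow subgroups of a subgroup -/

variable (p) in
/-- `Q` is a Sylow `p`-subgroup of `K`. -/
structure Syl (K Q : Subgroup G) : Prop where
  le : Q ≤ K
  isPGroup : IsPGroup p Q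
  not_dvd : ¬ p ∣ Q.relIndex K

theorem exists_syl (K : Subgroup G) : ∃ Q, Syl p K Q := by
  obtain ⟨Q⟩ : Nonempty (Sylow p ↥K) := inferInstance
  refine ⟨(Q : Subgroup ↥K).map K.subtype, map_subtype_le _, Q.isPGroup'.map _, ?_⟩
  rw [relIndex, ← comap_subtype, comap_map_eq_self_of_injective K.subtype_injective]
  exact Q.not_dvd_index

theorem Syl.down {K U Q : Subgroup G} (h : Syl p K Q) (hQ : Q ≤ U) (hU : U ≤ K) : Syl p U Q :=
  ⟨hQ, h.isPGroup, fun hd => h.not_dvd (hd.trans
    ⟨_, (relIndex_mul_relIndex Q U K hQ hU).symm⟩)⟩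

theorem Syl.cj {K Q : Subgroup G} (h : Syl p K Q) {g : G} (hg : g ∈ K) :
    Syl p K (FixBound.cj g Q) := by
  refine ⟨(cj_mono g h.le).trans (cj_eq_self hg).le, h.isPGroup.map _, ?_⟩
  have e := Subgroup.relIndex_map_map_of_injective Q K (f := (MulAut.conj g).toMonoidHom)
    (MulAut.conj g).injective
  change (FixBound.cj g Q).relIndex (FixBound.cj g K) = _ at e
  rw [cj_eq_self hg] at e
  rw [e]
  exact h.not_dvd

theorem Syl.conj {K Q Q' : Subgroup G} (h : Syl p K Q) (h' : Syl p K Q') :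
    ∃ g ∈ K, FixBound.cj g Q = Q' := by
  have mk : ∀ {R : Subgroup G}, Syl p K R → ∃ S : Sylow p ↥K,
      (S : Subgroup ↥K).map K.subtype = R := by
    intro R hR
    have hp' : IsPGroup p (R.subgroupOf K) :=
      hR.isPGroup.comap_of_injective K.subtype K.subtype_injective
    exact ⟨hp'.toSylow (show ¬ p ∣ (R.subgroupOf K).index from hR.not_dvd), by
      rw [IsPGroup.toSylow_coe, subgroupOf_map_subtype, inf_of_le_left hR.le]⟩
  obtain ⟨S, rfl⟩ := mk h
  obtain ⟨S', rfl⟩ := mk h'
  obtain ⟨g, hg⟩ := MulAction.exists_smul_eq ↥K S S'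
  refine ⟨g, g.2, ?_⟩
  rw [← hg, Sylow.coe_subgroup_smul, FixBound.cj, Subgroup.map_map]
  ext x
  simp only [Subgroup.mem_map, MonoidHom.comp_apply]
  constructor
  · rintro ⟨y, hy, rfl⟩
    exact ⟨MulAut.conj g y, smul_mem_pointwise_smul y _ _ hy, by simp⟩
  · rintro ⟨y, hy, rfl⟩
    obtain ⟨z, hz, rfl⟩ := hy
    exact ⟨z, hz, by simp⟩

theorem Syl.up {K A Q₀ Q : Subgroup G} (h₀ : Syl p K Q₀) (hle : Q₀ ≤ A) (hA : A ≤ K)
    (h : Syl p A Q) : Syl p K Q := by
  obtain ⟨g, hg, rfl⟩ := (h₀.down hle hA).conj h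
  exact h₀.cj (hA hg)

/-- A `p`-element normalising a subgroup that contains a Sylow subgroup lies in it. -/
theorem mem_of_normalizes {K U Q : Subgroup G} (hQ : Syl p K Q) (hQU : Q ≤ U) (hU : U ≤ K)
    {x : G} (hx : x ∈ K) {k : ℕ} (hk : x ^ p ^ k = 1) (hn : x ∈ normalizer (U : Set G)) :
    x ∈ U := by
  set V := K ⊓ normalizer (U : Set G) with hV
  have hUV : U ≤ V := le_inf hU le_normalizer
  haveI : (U.subgroupOf V).Normal :=
    (normal_subgroupOf_iff_le_normalizer hUV).2 inf_le_right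
  have hnd : ¬ p ∣ (U.subgroupOf V).index := fun hd => hQ.not_dvd <| by
    have e1 : Q.relIndex U * U.relIndex K = Q.relIndex K := relIndex_mul_relIndex Q U K hQU hU
    have e2 : U.relIndex V * V.relIndex K = U.relIndex K :=
      relIndex_mul_relIndex U V K hUV inf_le_left
    rw [← e1, ← e2]
    exact Dvd.dvd.mul_left (Dvd.dvd.mul_right hd _) _
  have hxV : x ∈ V := ⟨hx, hn⟩
  have h1 : (QuotientGroup.mk (⟨x, hxV⟩ : V) : V ⧸ U.subgroupOf V) ^ p ^ k = 1 := by
    rw [← QuotientGroup.mk_pow, QuotientGroup.eq_one_iff, mem_subgroupOf]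
    simp [hk]
  have h2 := orderOf_dvd_of_pow_eq_one h1
  have h3 : orderOf (QuotientGroup.mk (⟨x, hxV⟩ : V) : V ⧸ U.subgroupOf V) ∣
      (U.subgroupOf V).index := orderOf_dvd_natCard _
  have h4 : orderOf (QuotientGroup.mk (⟨x, hxV⟩ : V) : V ⧸ U.subgroupOf V) = 1 :=
    Nat.eq_one_of_dvd_coprimes ((hp.out.coprime_iff_not_dvd.2 hnd).pow_left k) h2 h3
  rw [orderOf_eq_one_iff, QuotientGroup.eq_one_iff, mem_subgroupOf] at h4
  exact h4

/-! ### Families -/

variable (p) in
/-- A reduced member: generated by `p`-elements and containing a Sylow subgroup of `K`. -/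
structure Red (K A : Subgroup G) : Prop where
  le : A ≤ K
  res_eq : res p A = A
  exists_syl : ∃ Q, Syl p K Q ∧ Q ≤ A

theorem Red.le_of_le_normalizer {K A U : Subgroup G} (hA : Red p K A) (hU : U ≤ K)
    (hres : res p U = U) (h : U ≤ normalizer (A : Set G)) : U ≤ A := by
  obtain ⟨Q, hQ, hQA⟩ := hA.exists_syl
  rw [← hres, res, closure_le]
  rintro x ⟨hx, k, hk⟩
  exact mem_of_normalizes hQ hQA hA.le (hU hx) hk (h hx)

theorem Red.le_iff {K A Q : Subgroup G} (hA : Red p K A) (hQ : Syl p K Q) :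
    Q ≤ normalizer (A : Set G) ↔ Q ≤ A := by
  obtain ⟨Q₀, hQ₀, hQ₀A⟩ := hA.exists_syl
  refine ⟨fun h x hx => ?_, fun h => h.trans le_normalizer⟩
  obtain ⟨k, hk⟩ := hQ.isPGroup ⟨x, hx⟩
  exact mem_of_normalizes hQ₀ hQ₀A hA.le (hQ.le hx) (congrArg Subtype.val hk : x ^ p ^ k = 1) (h hx)

/-- Invariance under conjugation. -/
def Inv (K : Subgroup G) (X : Finset (Subgroup G)) : Prop := ∀ k ∈ K, ∀ B ∈ X, cj k B ∈ X

/-- No member is fixed. -/
def Mov (K : Subgroup G) (X : Finset (Subgroup G)) : Prop :=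
  ∀ B ∈ X, ¬ K ≤ normalizer (B : Set G)

/-- The members fixed by `Q`. -/
def fixP (Q : Subgroup G) (X : Finset (Subgroup G)) : Finset (Subgroup G) :=
  X.filter fun B => Q ≤ normalizer (B : Set G)

theorem mem_fixP {Q B : Subgroup G} {X : Finset (Subgroup G)} :
    B ∈ fixP Q X ↔ B ∈ X ∧ Q ≤ normalizer (B : Set G) := mem_filter

/-- `X` is at least `p` large when a `p`-element acting on it moves a member. -/
theorem p_le_card {X : Finset (Subgroup G)} {x : G} {k : ℕ} (hk : x ^ p ^ k = 1)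
    (hX : ∀ B ∈ X, cj x B ∈ X) {B : Subgroup G} (hB : B ∈ X)
    (hmov : x ∉ normalizer (B : Set G)) : p ≤ X.card := by
  have hpow : ∀ i : ℕ, cj (x ^ i) B ∈ X := by
    intro i
    induction i with
    | zero => rw [pow_zero, cj_one]; exact hB
    | succ i ih => rw [pow_succ', ← cj_cj]; exact hX _ ih
  have hinj : Set.InjOn (fun i => cj (x ^ i) B) (range p : Finset ℕ) := by
    have key : ∀ i j : ℕ, i < j → j < p → cj (x ^ i) B ≠ cj (x ^ j) B := by
      intro i j hij hj he
      obtain ⟨d, rfl⟩ := Nat.exists_eq_add_of_lt hij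
      rw [add_assoc, pow_add, ← cj_cj] at he
      have hd : x ^ (d + 1) ∈ normalizer (B : Set G) := mem_normalizer.2 (cj_inj _ he).symm
      have hco : (d + 1).Coprime (p ^ k) := Nat.Coprime.pow_right k
        ((hp.out.coprime_iff_not_dvd.2 fun h => by
          have := Nat.le_of_dvd (by omega) h; omega).symm)
      have hord : (d + 1).Coprime (orderOf x) :=
        hco.coprime_dvd_right (orderOf_dvd_of_pow_eq_one hk)
      obtain ⟨m, hm⟩ := exists_pow_eq_self_of_coprime hord
      exact hmov (hm ▸ pow_mem hd m)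
    intro i hi j hj he
    simp only [coe_range, Set.mem_Iio] at hi hj
    rcases lt_trichotomy i j with h | h | h
    · exact absurd he (key i j h hj)
    · exact h
    · exact absurd he.symm (key j i h hi)
  calc p = ((range p).image fun i => cj (x ^ i) B).card := by
        rw [card_image_of_injOn hinj, card_range]
    _ ≤ X.card := card_le_card fun C hC => by
        obtain ⟨i, -, rfl⟩ := mem_image.1 hC; exact hpow i

theorem p_le_card_of_not_fixed {K Q : Subgroup G} (hQ : Syl p K Q) {X : Finset (Subgroup G)}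
    (hX : ∀ x ∈ Q, ∀ B ∈ X, cj x B ∈ X) {B : Subgroup G} (hB : B ∈ X)
    (hmov : ¬ Q ≤ normalizer (B : Set G)) : p ≤ X.card := by
  obtain ⟨x, hx, hxn⟩ := Set.not_subset.1 hmov
  obtain ⟨k, hk⟩ := hQ.isPGroup ⟨x, hx⟩
  exact p_le_card (congrArg Subtype.val hk : x ^ p ^ k = 1) (hX x hx) hB hxn

theorem card_fixP_eq {K Q Q' : Subgroup G} (hQ : Syl p K Q) (hQ' : Syl p K Q')
    {X : Finset (Subgroup G)} (hX : Inv K X) : (fixP Q X).card = (fixP Q' X).card := by
  obtain ⟨g, hg, rfl⟩ := hQ.conj hQ'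
  refine card_nbij' (fun B => cj g B) (fun B => cj g⁻¹ B) ?_ ?_ ?_ ?_
  · intro B hB
    simp only [mem_coe, mem_fixP] at hB ⊢
    exact ⟨hX g hg B hB.1, by rw [normalizer_cj]; exact cj_mono g hB.2⟩
  · intro B hB
    simp only [mem_coe, mem_fixP] at hB ⊢
    refine ⟨hX g⁻¹ (K.inv_mem hg) B hB.1, ?_⟩
    rw [normalizer_cj]
    have := cj_mono g⁻¹ hB.2
    rwa [cj_cj, inv_mul_cancel, cj_one] at this
  · intro B _; simp [cj_cj, cj_one]
  · intro B _; simp [cj_cj, cj_one]

/-- The bound in additive form. -/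
def Bd (p F M : ℕ) : Prop := 2 * p * F + M ≤ p * M + F

variable (p) in
/-- The bound for all families permuted by `K`. -/
def Good (K : Subgroup G) : Prop :=
  ∀ X : Finset (Subgroup G), Inv K X → Mov K X → ∀ Q, Syl p K Q → Bd p (fixP Q X).card X.card

variable (p) in
/-- Small defect makes small subsets fixed by a common Sylow subgroup. -/
def Cov (K : Subgroup G) : Prop :=
  ∀ (k j : ℕ) (X : Finset (Subgroup G)), Inv K X → Mov K X → ∀ Q, Syl p K Q → k + j + 1 ≤ p →
    p * X.card + (fixP Q X).card < 2 * p * (fixP Q X).card + X.card + (j + 1) * p →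
    ∀ S ⊆ X, S.card ≤ k → ∃ Q', Syl p K Q' ∧ ∀ B ∈ S, Q' ≤ normalizer (B : Set G)

variable (p) in
/-- The orbit of `a`. -/
def orb (K : Subgroup G) (X : Finset (Subgroup G)) (a : Subgroup G) : Finset (Subgroup G) :=
  X.filter fun B => ∃ k ∈ K, cj k a = B

theorem mem_orb {K : Subgroup G} {X : Finset (Subgroup G)} {a B : Subgroup G} :
    B ∈ orb K X a ↔ B ∈ X ∧ ∃ k ∈ K, cj k a = B := mem_filter

theorem self_mem_orb {K : Subgroup G} {X : Finset (Subgroup G)} {a : Subgroup G} (ha : a ∈ X) :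
    a ∈ orb K X a := mem_orb.2 ⟨ha, 1, K.one_mem, cj_one a⟩

theorem inv_orb {K : Subgroup G} {X : Finset (Subgroup G)} (hX : Inv K X) (a : Subgroup G) :
    Inv K (orb K X a) := by
  intro k hk B hB
  obtain ⟨hBX, g, hg, rfl⟩ := mem_orb.1 hB
  exact mem_orb.2 ⟨hX k hk _ hBX, k * g, K.mul_mem hk hg, (cj_cj k g a).symm⟩

theorem inv_sdiff {K : Subgroup G} {X Y : Finset (Subgroup G)} (hX : Inv K X) (hY : Inv K Y) :
    Inv K (X \ Y) := by
  intro k hk B hB
  rw [mem_sdiff] at hB ⊢
  refine ⟨hX k hk B hB.1, fun h => hB.2 ?_⟩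
  have := hY k⁻¹ (K.inv_mem hk) _ h
  rwa [cj_cj, inv_mul_cancel, cj_one] at this

theorem card_fixP_sdiff {Q : Subgroup G} {X Y : Finset (Subgroup G)} (h : Y ⊆ X) :
    (fixP Q (X \ Y)).card + (fixP Q Y).card = (fixP Q X).card := by
  rw [← card_union_of_disjoint, fixP, fixP, fixP, ← filter_union, sdiff_union_of_subset h]
  exact disjoint_filter_filter sdiff_disjoint

/-- The stabiliser subgroup of a member `a` permutes the others. -/
theorem inv_erase {K a : Subgroup G} {X : Finset (Subgroup G)} (hX : Inv K X) (ha : a ≤ K) :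
    Inv a (X.erase a) := by
  intro k hk B hB
  rw [Finset.mem_erase] at hB ⊢
  refine ⟨fun h => hB.1 (cj_inj k ?_), hX k (ha hk) B hB.2⟩
  rw [h, cj_eq_self hk]

theorem fixP_erase {Q a : Subgroup G} {X : Finset (Subgroup G)} (ha : a ∈ fixP Q X) :
    (fixP Q (X.erase a)).card + 1 = (fixP Q X).card := by
  have : fixP Q (X.erase a) = (fixP Q X).erase a := filter_erase _ _ _
  rw [this, card_erase_add_one ha]

theorem lt_of_mov {K A : Subgroup G} {X : Finset (Subgroup G)} (hX : Mov K X) (hA : A ∈ X)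
    (hred : Red p K A) : Nat.card A < Nat.card K := by
  by_contra h
  have := eq_of_le_of_card_ge hred.le (not_lt.1 h)
  exact hX A hA (this ▸ le_normalizer)

section Step

variable {K : Subgroup G} (hK : res p K = K)
  (ih : ∀ K' : Subgroup G, Nat.card K' < Nat.card K → res p K' = K' → Good p K' ∧ Cov p K')

include hK ih

/-- The bound for reduced families. -/
theorem good_red (X : Finset (Subgroup G)) (hX : Inv K X) (hM : Mov K X)
    (hR : ∀ A ∈ X, Red p K A) (Q : Subgroup G) (hQ : Syl p K Q) :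
    Bd p (fixP Q X).card X.card := by
  induction hn : X.card using Nat.strong_induction_on generalizing X with
  | _ n ihn =>
    subst hn
    by_cases hF : fixP Q X = ∅
    · rw [hF, card_empty, Bd, mul_zero, zero_add, add_zero]
      exact Nat.le_mul_of_pos_left _ hp.out.pos
    obtain ⟨a, ha⟩ := nonempty_iff_ne_empty.2 hF
    obtain ⟨haX, haQ⟩ := mem_fixP.1 ha
    set O := orb K X a with hO
    have hOX : O ⊆ X := filter_subset _ _
    have hrest : Bd p (fixP Q (X \ O)).card (X \ O).card := by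
      refine ihn _ (card_lt_card ?_) (X \ O) (inv_sdiff hX (inv_orb hX a))
        (fun B hB => hM B (mem_sdiff.1 hB).1) (fun B hB => hR B (mem_sdiff.1 hB).1) rfl
      exact ssubset_iff_of_subset sdiff_subset |>.2
        ⟨a, haX, fun h => (mem_sdiff.1 h).2 (self_mem_orb haX)⟩
    suffices hOb : Bd p (fixP Q O).card O.card by
      have e1 := card_fixP_sdiff (Q := Q) hOX
      have e2 := card_sdiff_add_card_eq_card hOX
      unfold Bd at *
      rw [← e1, ← e2]
      nlinarith
    by_contra hbad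
    unfold Bd at hbad
    have hra := hR a haX
    have hQa : Q ≤ a := (hra.le_iff hQ).1 haQ
    have hak := lt_of_mov hM haX hra
    obtain ⟨hgood, hcov⟩ := ih a hak hra.res_eq
    have hOinv := inv_orb hX a
    have hY : Inv a (O.erase a) := inv_erase hOinv hra.le
    have hYm : Mov a (O.erase a) := by
      intro B hB h
      obtain ⟨hne, hBO⟩ := Finset.mem_erase.1 hB
      obtain ⟨hBX, g, -, hgB⟩ := mem_orb.1 hBO
      refine hne (eq_of_le_of_card_ge ((hR B hBX).le_of_le_normalizer hra.le hra.res_eq h) ?_).symm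
      rw [← hgB, card_cj]
    have hQ' : Syl p a Q := hQ.down hQa hra.le
    have e1 : (fixP Q (O.erase a)).card + 1 = (fixP Q O).card :=
      fixP_erase (mem_fixP.2 ⟨self_mem_orb haX, haQ⟩)
    have e2 : (O.erase a).card + 1 = O.card := card_erase_add_one (self_mem_orb haX)
    have hdef : p * (O.erase a).card + (fixP Q (O.erase a)).card <
        2 * p * (fixP Q (O.erase a)).card + (O.erase a).card + (0 + 1) * p := by
      rw [← e1, ← e2] at hbad
      nlinarith
    -- a `p`-element moving `a`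
    obtain ⟨x₀, hx₀K, hx₀⟩ : ∃ x ∈ {x : G | x ∈ K ∧ ∃ k : ℕ, x ^ p ^ k = 1},
        x ∉ normalizer (a : Set G) := by
      by_contra hall
      push Not at hall
      refine hM a haX ?_
      rw [← hK, res, closure_le]
      exact hall
    set T : Finset G := ((Set.toFinite {x : G | (x ∈ K ∧ ∃ k : ℕ, x ^ p ^ k = 1) ∧
      x ∉ normalizer (a : Set G)}).toFinset) with hT
    have hTne : T.Nonempty := ⟨x₀, by simpa [hT] using ⟨hx₀K, hx₀⟩⟩
    obtain ⟨x, hxT, hxmin⟩ := exists_min_image T orderOf hTne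
    simp only [hT, Set.Finite.mem_toFinset, Set.mem_setOf_eq] at hxT hxmin
    obtain ⟨⟨hxK, k, hxk⟩, hxn⟩ := hxT
    have hxp : x ^ p ∈ normalizer (a : Set G) := by
      by_contra hn'
      have h1 := hxmin (x ^ p) ⟨⟨K.pow_mem hxK p, k, by rw [← pow_mul, mul_comm, pow_mul, hxk,
        one_pow]⟩, hn'⟩
      have hx1 : x ≠ 1 := fun h => hxn (h ▸ one_mem _)
      have h2 : orderOf (x ^ p) = orderOf x / p := by
        refine orderOf_pow_of_dvd hp.out.ne_zero ?_
        obtain ⟨i, hi, he⟩ := (Nat.dvd_prime_pow hp.out).1 (orderOf_dvd_of_pow_eq_one hxk)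
        rw [he]
        refine dvd_pow_self p (fun h => hx1 (orderOf_eq_one_iff.1 ?_))
        rw [he, h, pow_zero]
      have h3 := orderOf_pos x
      have := Nat.div_lt_self h3 hp.out.one_lt
      omega
    set C := (range p).image fun i => cj (x ^ i) a with hC
    have hCO : C ⊆ O := by
      intro B hB
      obtain ⟨i, -, rfl⟩ := mem_image.1 hB
      exact hOinv _ (K.pow_mem hxK i) _ (self_mem_orb haX)
    have haC : a ∈ C := mem_image.2 ⟨0, by simp [hp.out.pos], by rw [pow_zero, cj_one]⟩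
    obtain ⟨Q', hQ'a, hQ'C⟩ := hcov (p - 1) 0 (O.erase a) hY hYm Q hQ'
      (by have := hp.out.pos; omega) hdef (C.erase a) (Finset.erase_subset_erase a hCO) (by
        rw [card_erase_of_mem haC]
        have : C.card ≤ p := card_image_le.trans (card_range p).le
        omega)
    have hQ'K : Syl p K Q' := hQ.up hQa hra.le hQ'a
    -- `x` normalises the stabiliser of the cycle
    set U : Subgroup G := K ⊓ ⨅ B ∈ C, normalizer (B : Set G) with hU
    have hmemU : ∀ u : G, u ∈ U ↔ u ∈ K ∧ ∀ B ∈ C, cj u B = B := by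
      intro u
      simp only [hU, Subgroup.mem_inf, mem_iInf, mem_normalizer]
    have hQ'U : Q' ≤ U := by
      intro u hu
      refine (hmemU u).2 ⟨hQ'K.le hu, fun B hB => ?_⟩
      by_cases h : B = a
      · exact h ▸ cj_eq_self (hQ'a.le hu)
      · exact cj_eq_of_mem (hQ'C B (Finset.mem_erase.2 ⟨h, hB⟩)) hu
    have hpre : ∀ B ∈ C, cj x⁻¹ B ∈ C := by
      intro B hB
      obtain ⟨i, hi, rfl⟩ := mem_image.1 hB
      rw [Finset.mem_range] at hi
      rcases Nat.eq_zero_or_pos i with rfl | hi0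
      · refine mem_image.2 ⟨p - 1, by simp [hp.out.pos], ?_⟩
        rw [pow_zero, cj_one]
        apply cj_inj x
        rw [cj_cj, cj_cj, ← pow_succ', Nat.sub_add_cancel hp.out.pos, mul_inv_cancel, cj_one]
        exact mem_normalizer.1 hxp
      · refine mem_image.2 ⟨i - 1, Finset.mem_range.2 (by omega), ?_⟩
        rw [cj_cj]
        congr 1
        rw [eq_inv_mul_iff_mul_eq, ← pow_succ', Nat.sub_add_cancel hi0]
    have hxU : x ∈ normalizer (U : Set G) := by
      refine mem_normalizer_of_le fun y hy => ?_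
      rw [mem_cj] at hy
      obtain ⟨hyK, hyC⟩ := (hmemU _).1 hy
      refine (hmemU y).2 ⟨?_, fun B hB => ?_⟩
      · have := K.mul_mem (K.mul_mem hxK hyK) (K.inv_mem hxK)
        simpa [mul_assoc] using this
      · have := congrArg (cj x) (hyC _ (hpre B hB))
        simpa [cj_cj, cj_one, mul_assoc] using this
    have hxin : x ∈ U := mem_of_normalizes hQ'K hQ'U inf_le_left hxK hxk hxU
    exact hxn (mem_normalizer.2 (((hmemU x).1 hxin).2 a haC))

/-- The weighted form of the bound. -/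
theorem good_weighted (X : Finset (Subgroup G)) (hX : Inv K X) (hM : Mov K X)
    (hR : ∀ A ∈ X, Red p K A) (Q : Subgroup G) (hQ : Syl p K Q) (f : Subgroup G → ℕ)
    (hf : ∀ k ∈ K, ∀ A ∈ X, f (cj k A) = f A) :
    Bd p (∑ A ∈ fixP Q X, f A) (∑ A ∈ X, f A) := by
  obtain ⟨N, hN⟩ : ∃ N, ∀ A ∈ X, f A < N :=
    ⟨∑ A ∈ X, f A + 1, fun A hA => Nat.lt_succ_of_le (single_le_sum (fun _ _ => Nat.zero_le _) hA)⟩
  have hlayer : ∀ Y : Finset (Subgroup G), Y ⊆ X →
      ∑ A ∈ Y, f A = ∑ i ∈ range N, (Y.filter fun A => i < f A).card := by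
    intro Y hY
    simp_rw [card_filter]
    rw [sum_comm]
    refine sum_congr rfl fun A hA => ?_
    rw [← card_filter]
    have : ((range N).filter fun i => i < f A) = range (f A) := by
      ext i; simp only [mem_filter, Finset.mem_range]
      have := hN A (hY hA); omega
    rw [this, card_range]
  rw [hlayer X subset_rfl, hlayer (fixP Q X) (filter_subset _ _)]
  unfold Bd
  simp only [mul_sum, ← sum_add_distrib]
  refine sum_le_sum fun i _ => ?_
  have := good_red hK ih (X.filter fun A => i < f A) (fun k hk A hA => by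
      rw [mem_filter] at hA ⊢
      exact ⟨hX k hk A hA.1, by rw [hf k hk A hA.1]; exact hA.2⟩)
    (fun A hA => hM A (mem_filter.1 hA).1) (fun A hA => hR A (mem_filter.1 hA).1) Q hQ
  rw [fixP, filter_comm] at this
  exact this

/-- A fixed member. -/
def phi (p : ℕ) (K B : Subgroup G) : Subgroup G := res p (K ⊓ normalizer (B : Set G))

omit hK ih in
theorem phi_le (B : Subgroup G) : phi p K B ≤ K := (res_le _).trans inf_le_left

omit hK ih in
theorem phi_cj {k : G} (hk : k ∈ K) (B : Subgroup G) : phi p K (cj k B) = cj k (phi p K B) := by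
  rw [phi, phi, cj_res, normalizer_cj]
  congr 1
  conv_lhs => rw [← cj_eq_self (B := K) hk]
  exact (Subgroup.map_inf _ _ _ (MulAut.conj k).injective).symm

omit hK ih in
theorem le_phi {Q : Subgroup G} (hQ : Syl p K Q) (B : Subgroup G) :
    Q ≤ phi p K B ↔ Q ≤ normalizer (B : Set G) :=
  ⟨fun h => h.trans ((res_le _).trans inf_le_right), fun h => le_res hQ.isPGroup (le_inf hQ.le h)⟩

omit ih in
/-- The reduced family. -/
theorem reduce (X : Finset (Subgroup G)) (hX : Inv K X) (hM : Mov K X) :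
    let Z := X.filter fun B : Subgroup G => ∃ Q, Syl p K Q ∧ Q ≤ normalizer (B : Set G)
    Inv K Z ∧ Inv K (Z.image (phi p K)) ∧ Mov K (Z.image (phi p K)) ∧
      ∀ A ∈ Z.image (phi p K), Red p K A := by
  intro Z
  have hZ : Inv K Z := by
    intro k hk B hB
    obtain ⟨hBX, Q, hQ, hQB⟩ := mem_filter.1 hB
    exact mem_filter.2 ⟨hX k hk B hBX, _, hQ.cj hk, by rw [normalizer_cj]; exact cj_mono k hQB⟩
  refine ⟨hZ, ?_, ?_, ?_⟩
  · intro k hk A hA
    obtain ⟨B, hB, rfl⟩ := mem_image.1 hA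
    exact mem_image.2 ⟨cj k B, hZ k hk B hB, phi_cj hk B⟩
  · intro A hA h
    obtain ⟨B, hB, rfl⟩ := mem_image.1 hA
    obtain ⟨hBX, Q, hQ, hQB⟩ := mem_filter.1 hB
    have hr : Red p K (phi p K B) := ⟨phi_le B, res_res _, Q, hQ, (le_phi hQ B).2 hQB⟩
    exact hM B hBX ((hr.le_of_le_normalizer le_rfl hK h).trans ((res_le _).trans inf_le_right))
  · intro A hA
    obtain ⟨B, hB, rfl⟩ := mem_image.1 hA
    obtain ⟨-, Q, hQ, hQB⟩ := mem_filter.1 hB
    exact ⟨phi_le B, res_res _, Q, hQ, (le_phi hQ B).2 hQB⟩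

/-- The reduced family has smaller defect. -/
theorem reduce_defect (X : Finset (Subgroup G)) (hX : Inv K X) (hM : Mov K X) (Q : Subgroup G)
    (hQ : Syl p K Q) :
    let Z := X.filter fun B : Subgroup G => ∃ Q, Syl p K Q ∧ Q ≤ normalizer (B : Set G)
    let X' := Z.image (phi p K)
    p * X'.card + (fixP Q X').card + 2 * p * (fixP Q X).card + X.card + p * (X \ Z).card ≤
      p * X.card + (fixP Q X).card + 2 * p * (fixP Q X').card + X'.card + (X \ Z).card := by
  intro Z X'
  obtain ⟨hZ, hX', hM', hR⟩ := reduce hK X hX hM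
  let f : Subgroup G → ℕ := fun A => (Z.filter fun B => phi p K B = A).card
  have hf1 : ∀ A ∈ X', 1 ≤ f A := by
    intro A hA
    obtain ⟨B, hB, rfl⟩ := mem_image.1 hA
    exact card_pos.2 ⟨B, mem_filter.2 ⟨hB, rfl⟩⟩
  have hfinv : ∀ k ∈ K, ∀ A ∈ X', f (cj k A) = f A := by
    intro k hk A _
    refine (card_nbij' (fun B => cj k B) (fun B => cj k⁻¹ B) ?_ ?_ ?_ ?_).symm
    · intro B hB
      simp only [mem_coe, mem_filter] at hB ⊢
      exact ⟨hZ k hk B hB.1, by rw [phi_cj hk, hB.2]⟩
    · intro B hB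
      simp only [mem_coe, mem_filter] at hB ⊢
      exact ⟨hZ k⁻¹ (K.inv_mem hk) B hB.1, by
        rw [phi_cj (K.inv_mem hk), hB.2, cj_cj, inv_mul_cancel, cj_one]⟩
    · intro B _; simp [cj_cj, cj_one]
    · intro B _; simp [cj_cj, cj_one]
  have hsumX : ∑ A ∈ X', f A = Z.card := (card_eq_sum_card_image _ _).symm
  have hsumF : ∑ A ∈ fixP Q X', f A = (fixP Q X).card := by
    have e : fixP Q X = (fixP Q X').biUnion fun A => Z.filter fun B => phi p K B = A := by
      ext B
      simp only [mem_biUnion, mem_fixP, mem_filter]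
      constructor
      · rintro ⟨hB, hBQ⟩
        have hBZ : B ∈ Z := mem_filter.2 ⟨hB, Q, hQ, hBQ⟩
        exact ⟨_, ⟨mem_image_of_mem _ hBZ, ((le_phi hQ B).2 hBQ).trans le_normalizer⟩, hBZ, rfl⟩
      · rintro ⟨A, ⟨hA, hAQ⟩, hB, rfl⟩
        exact ⟨(mem_filter.1 hB).1, (le_phi hQ B).1 (((hR _ hA).le_iff hQ).1 hAQ)⟩
    rw [e, card_biUnion]
    intro A _ A' _ hne
    exact disjoint_filter.2 fun B _ h h' => hne (h.symm.trans h')
  have key := good_weighted hK ih X' hX' hM' hR Q hQ (fun A => f A - 1)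
    fun k hk A hA => by rw [hfinv k hk A hA]
  have e1 : ∑ A ∈ X', (f A - 1) + X'.card = Z.card := by
    rw [card_eq_sum_ones, ← sum_add_distrib, ← hsumX]
    exact sum_congr rfl fun A hA => Nat.sub_add_cancel (hf1 A hA)
  have e2 : ∑ A ∈ fixP Q X', (f A - 1) + (fixP Q X').card = (fixP Q X).card := by
    rw [card_eq_sum_ones, ← sum_add_distrib, ← hsumF]
    exact sum_congr rfl fun A hA => Nat.sub_add_cancel (hf1 A (mem_fixP.1 hA).1)
  have e3 := card_sdiff_add_card_eq_card (filter_subset _ X : Z ⊆ X)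
  unfold Bd at key
  rw [← e3, ← e1, ← e2]
  nlinarith

theorem good : Good p K := by
  intro X hX hM Q hQ
  obtain ⟨hZ, hX', hM', hR⟩ := reduce hK X hX hM
  have h1 := reduce_defect hK ih X hX hM Q hQ
  have h2 := good_red hK ih _ hX' hM' hR Q hQ
  simp only at h1
  have h3 : ∀ n : ℕ, n ≤ p * n := fun n => Nat.le_mul_of_pos_left n hp.out.pos
  have := h3 ((X \ X.filter fun B : Subgroup G =>
    ∃ Q, Syl p K Q ∧ Q ≤ normalizer (B : Set G)).card)
  unfold Bd at *
  linarith

/-- With small defect, reduced members are incomparable. -/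
theorem eq_of_le (X : Finset (Subgroup G)) (hX : Inv K X) (hM : Mov K X)
    (hR : ∀ A ∈ X, Red p K A) (Q₀ : Subgroup G) (hQ₀ : Syl p K Q₀)
    (hd : p * X.card + (fixP Q₀ X).card < 2 * p * (fixP Q₀ X).card + X.card + (p - 1) * p)
    {a B : Subgroup G} (ha : a ∈ X) (hB : B ∈ X) (haB : a ≤ B) : a = B := by
  by_contra hne
  have hlt : Nat.card a < Nat.card B := by
    by_contra h
    exact hne (eq_of_le_of_card_ge haB (not_lt.1 h))
  have hra := hR a ha
  have hrB := hR B hB
  obtain ⟨Q, hQ, hQa⟩ := hra.exists_syl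
  rw [card_fixP_eq hQ₀ hQ hX] at hd
  set O := orb K X a with hO
  set O' := orb K X B with hO'
  have hOX : O ⊆ X := filter_subset _ _
  have hOi : Inv K O := inv_orb hX a
  have hO'i : Inv K O' := inv_orb hX B
  have hgoodK := good hK ih
  have hrest := hgoodK (X \ O) (inv_sdiff hX hOi) (fun C hC => hM C (mem_sdiff.1 hC).1) Q hQ
  have hgO' := hgoodK O' hO'i (fun C hC => hM C (mem_orb.1 hC).1) Q hQ
  have hgO := hgoodK O hOi (fun C hC => hM C (mem_orb.1 hC).1) Q hQ
  have haF : a ∈ fixP Q O := mem_fixP.2 ⟨self_mem_orb ha, hQa.trans le_normalizer⟩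
  have sub : ∀ B' ∈ O', Q ≤ B' → Inv B' (O.filter fun a' => a' ≤ B') ∧
      Mov B' (O.filter fun a' => a' ≤ B') := by
    intro B' hB' hQB'
    obtain ⟨hB'X, g, hg, hgB⟩ := mem_orb.1 hB'
    constructor
    · intro k hk a' ha'
      rw [mem_filter] at ha' ⊢
      exact ⟨hOi k ((hR B' hB'X).le hk) a' ha'.1, (cj_mono k ha'.2).trans (cj_eq_self hk).le⟩
    · intro a' ha' h
      rw [mem_filter] at ha'
      obtain ⟨ha'X, g', hg', hga⟩ := mem_orb.1 ha'.1
      have h1 := Subgroup.card_le_of_le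
        ((hR a' ha'X).le_of_le_normalizer (hR B' hB'X).le (hR B' hB'X).res_eq h)
      rw [← hga, ← hgB, card_cj, card_cj] at h1
      omega
  have good' : ∀ B' ∈ O', Q ≤ B' →
      Bd p (fixP Q (O.filter fun a' => a' ≤ B')).card (O.filter fun a' => a' ≤ B').card := by
    intro B' hB' hQB'
    have hB'X := (mem_orb.1 hB').1
    exact (ih B' (lt_of_mov hM hB'X (hR B' hB'X)) (hR B' hB'X).res_eq).1 _
      (sub B' hB' hQB').1 (sub B' hB' hQB').2 Q (hQ.down hQB' (hR B' hB'X).le)
  -- the incidence numbers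
  set l := (O'.filter fun C => a ≤ C).card with hl
  set A := (O.filter fun C => C ≤ B).card with hA
  have hlpos : 0 < l := card_pos.2 ⟨B, mem_filter.2 ⟨self_mem_orb hB, haB⟩⟩
  have habove : ∀ a' ∈ O, (O'.filter fun C => a' ≤ C).card = l := by
    intro a' ha'
    obtain ⟨-, g, hg, rfl⟩ := mem_orb.1 ha'
    refine card_nbij' (fun C => cj g⁻¹ C) (fun C => cj g C) ?_ ?_ ?_ ?_
    · intro C hC
      simp only [mem_coe, mem_filter] at hC ⊢
      refine ⟨hO'i g⁻¹ (K.inv_mem hg) C hC.1, ?_⟩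
      have := cj_mono g⁻¹ hC.2
      rwa [cj_cj, inv_mul_cancel, cj_one] at this
    · intro C hC
      simp only [mem_coe, mem_filter] at hC ⊢
      exact ⟨hO'i g hg C hC.1, cj_mono g hC.2⟩
    · intro C _; simp [cj_cj, cj_one]
    · intro C _; simp [cj_cj, cj_one]
  have hbelow : ∀ B' ∈ O', (O.filter fun C => C ≤ B').card = A := by
    intro B' hB'
    obtain ⟨-, g, hg, rfl⟩ := mem_orb.1 hB'
    refine card_nbij' (fun C => cj g⁻¹ C) (fun C => cj g C) ?_ ?_ ?_ ?_
    · intro C hC
      simp only [mem_coe, mem_filter] at hC ⊢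
      refine ⟨hOi g⁻¹ (K.inv_mem hg) C hC.1, ?_⟩
      have := cj_mono g⁻¹ hC.2
      rwa [cj_cj, inv_mul_cancel, cj_one] at this
    · intro C hC
      simp only [mem_coe, mem_filter] at hC ⊢
      exact ⟨hOi g hg C hC.1, cj_mono g hC.2⟩
    · intro C _; simp [cj_cj, cj_one]
    · intro C _; simp [cj_cj, cj_one]
  have c1 : O.card * l = O'.card * A := by
    have key := sum_card_bipartiteAbove_eq_sum_card_bipartiteBelow
      (s := O) (t := O') (r := fun x y : Subgroup G => x ≤ y)
    simp only [bipartiteAbove, bipartiteBelow] at key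
    rw [sum_congr rfl habove, sum_congr rfl hbelow, sum_const, sum_const, smul_eq_mul,
      smul_eq_mul] at key
    exact key
  have c2 : 2 * p * ((fixP Q O).card * l) + (fixP Q O').card * A ≤
      p * ((fixP Q O').card * A) + (fixP Q O).card * l := by
    have key := sum_card_bipartiteAbove_eq_sum_card_bipartiteBelow
      (s := fixP Q O) (t := fixP Q O') (r := fun x y : Subgroup G => x ≤ y)
    simp only [bipartiteAbove, bipartiteBelow] at key
    have e1 : ∀ a' ∈ fixP Q O, ((fixP Q O').filter fun C => a' ≤ C).card = l := by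
      intro a' ha'
      obtain ⟨ha'O, ha'Q⟩ := mem_fixP.1 ha'
      rw [← habove a' ha'O]
      congr 1
      ext C
      simp only [mem_filter, mem_fixP]
      exact ⟨fun h => ⟨h.1.1, h.2⟩, fun h => ⟨⟨h.1, (((hR a' (mem_orb.1 ha'O).1).le_iff hQ).1
        ha'Q).trans (h.2.trans le_normalizer)⟩, h.2⟩⟩
    rw [sum_congr rfl e1, sum_const, smul_eq_mul] at key
    rw [key, ← smul_eq_mul (fixP Q O').card, ← sum_const, mul_sum, mul_sum, ← sum_add_distrib,
      ← sum_add_distrib]
    refine sum_le_sum fun B' hB' => ?_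
    obtain ⟨hB'O, hB'Q⟩ := mem_fixP.1 hB'
    have h1 := good' B' hB'O (((hR B' (mem_orb.1 hB'O).1).le_iff hQ).1 hB'Q)
    rw [hbelow B' hB'O, fixP, filter_comm] at h1
    exact h1
  have hp1 : 1 ≤ p := hp.out.pos
  obtain ⟨q, hq⟩ : ∃ q, p = q + 1 := ⟨p - 1, by omega⟩
  -- the orbit of `a` is short
  have hOd : p * O.card + (fixP Q O).card < 2 * p * (fixP Q O).card + O.card + (p - 1) * p := by
    have e1 := card_fixP_sdiff (Q := Q) hOX
    have e2 := card_sdiff_add_card_eq_card hOX
    unfold Bd at hrest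
    rw [← e1, ← e2] at hd
    linarith
  have hshort : O.card < 2 * p - 1 := by
    by_contra hbig
    rw [not_lt] at hbig
    unfold Bd at hgO'
    subst hq
    simp only [Nat.add_sub_cancel] at hOd
    have s1 : (2 * q + 1) * ((fixP Q O).card * l) ≤ q * ((fixP Q O').card * A) := by nlinarith
    have s2 : (2 * q + 1) * (fixP Q O').card ≤ q * O'.card := by nlinarith
    have s3 : (2 * q + 1) * (2 * q + 1) * (fixP Q O).card * l ≤ q * q * O.card * l := by
      calc (2 * q + 1) * (2 * q + 1) * (fixP Q O).card * l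
          = (2 * q + 1) * ((2 * q + 1) * ((fixP Q O).card * l)) := by ring
        _ ≤ (2 * q + 1) * (q * ((fixP Q O').card * A)) := Nat.mul_le_mul_left _ s1
        _ = q * A * ((2 * q + 1) * (fixP Q O').card) := by ring
        _ ≤ q * A * (q * O'.card) := Nat.mul_le_mul_left _ s2
        _ = q * q * (O'.card * A) := by ring
        _ = q * q * O.card * l := by rw [← c1]; ring
    have s4 := Nat.le_of_mul_le_mul_right s3 hlpos
    have hbig' : 2 * q + 1 ≤ O.card := by omega
    nlinarith [Nat.mul_le_mul_left (q * (q + 1)) hbig']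
  -- the members below `B` absorb the orbit
  set AB := O.filter fun C => C ≤ B with hAB
  have hQB : Q ≤ B := hQa.trans haB
  obtain ⟨hABi, hABm⟩ := sub B (self_mem_orb hB) hQB
  have hW : ∀ C ∈ O, ¬ Q ≤ normalizer (C : Set G) → C ≤ B := by
    intro C hC hCQ
    by_contra hCB
    obtain ⟨D, hD, hDQ⟩ : ∃ D ∈ AB, ¬ Q ≤ normalizer (D : Set G) := by
      by_contra hall
      push Not at hall
      have h1 := good' B (self_mem_orb hB) hQB
      rw [fixP, filter_true_of_mem hall, Bd] at h1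
      have h2 : 0 < AB.card := card_pos.2 ⟨a, mem_filter.2 ⟨self_mem_orb ha, haB⟩⟩
      rw [← hAB] at h1
      nlinarith
    set W1 := AB.filter fun D : Subgroup G => ¬ Q ≤ normalizer (D : Set G)
    set W2 := O.filter fun D : Subgroup G => ¬ D ≤ B ∧ ¬ Q ≤ normalizer (D : Set G)
    have hmv : ∀ x ∈ Q, ∀ D : Subgroup G, Q ≤ normalizer (cj x D : Set G) →
        Q ≤ normalizer (D : Set G) := by
      intro x hx D h
      have h' := cj_mono x⁻¹ h
      rw [cj_eq_self (Q.inv_mem hx), normalizer_cj, cj_cj, inv_mul_cancel, cj_one] at h'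
      exact h'
    have g1 : p ≤ W1.card := p_le_card_of_not_fixed (X := W1) hQ (fun x hx D hD => by
        rw [mem_filter] at hD ⊢
        exact ⟨hABi x (hQB hx) D hD.1, fun h => hD.2 (hmv x hx D h)⟩)
      (mem_filter.2 ⟨hD, hDQ⟩) hDQ
    have g2 : p ≤ W2.card := p_le_card_of_not_fixed (X := W2) hQ (fun x hx D hD => by
        rw [mem_filter] at hD ⊢
        refine ⟨hOi x (hQ.le hx) D hD.1, fun h => hD.2.1 ?_, fun h => hD.2.2 (hmv x hx D h)⟩
        rw [← cj_le_iff x, cj_eq_self (hQB hx)]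
        exact h) (mem_filter.2 ⟨hC, hCB, hCQ⟩) hCQ
    have hdis : Disjoint W1 W2 := disjoint_left.2 fun D h1 h2 =>
      (mem_filter.1 h2).2.1 (mem_filter.1 (mem_filter.1 h1).1).2
    have := card_le_card (show W1 ∪ W2 ⊆ O from union_subset
      ((filter_subset _ _).trans (filter_subset _ _)) (filter_subset _ _))
    rw [card_union_of_disjoint hdis] at this
    omega
  have hall : ∀ C ∈ O, C ≤ B := by
    intro C hC
    by_contra hCB
    set R := O.filter fun D => ¬ D ≤ B
    have hRi : Inv a R := by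
      intro k hk D hD
      rw [mem_filter] at hD ⊢
      refine ⟨hOi k (hra.le hk) D hD.1, fun h => hD.2 ?_⟩
      rw [← cj_le_iff k, cj_eq_self (haB hk)]
      exact h
    have hRm : Mov a R := by
      intro D hD h
      rw [mem_filter] at hD
      obtain ⟨hDX, g, hg, hgD⟩ := mem_orb.1 hD.1
      have h' : a = D := eq_of_le_of_card_ge ((hR D hDX).le_of_le_normalizer hra.le hra.res_eq h)
        (by rw [← hgD, card_cj])
      exact hD.2 (h' ▸ haB)
    have h1 := (ih a (lt_of_mov hM ha hra) hra.res_eq).1 R hRi hRm Q (hQ.down hQa hra.le)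
    have h2 : fixP Q R = R := filter_true_of_mem fun D hD => by
      by_contra h
      exact (mem_filter.1 hD).2 (hW D (mem_filter.1 hD).1 h)
    rw [h2, Bd] at h1
    have : 0 < R.card := card_pos.2 ⟨C, mem_filter.2 ⟨hC, hCB⟩⟩
    nlinarith
  -- then `B` contains all `p`-elements
  set J : Subgroup G := closure {y : G | ∃ C ∈ O, y ∈ C} with hJ
  have hJB : J ≤ B := (closure_le _).2 fun y ⟨C, hC, hy⟩ => hall C hC hy
  have hJn : K ≤ normalizer (J : Set G) := by
    intro k hk
    refine mem_normalizer_of_le ?_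
    rw [cj, hJ, MonoidHom.map_closure]
    refine closure_mono ?_
    rintro _ ⟨y, ⟨C, hC, hy⟩, rfl⟩
    exact ⟨cj k C, hOi k hk C hC, y, hy, rfl⟩
  have hQJ : Q ≤ J := fun y hy => subset_closure ⟨a, self_mem_orb ha, hQa hy⟩
  have hKB : K ≤ B := by
    refine le_trans ?_ hJB
    rw [← hK, res, closure_le]
    rintro x ⟨hx, k, hk⟩
    exact mem_of_normalizes hQ hQJ (hJB.trans hrB.le) hx hk (hJn hx)
  exact hM B hB (hKB.trans le_normalizer)

theorem cov : Cov p K := by
  intro k j X hX hM Q hQ hkj hd S hS hSk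
  rcases S.eq_empty_or_nonempty with rfl | ⟨B₀, hB₀⟩
  · exact ⟨Q, hQ, by simp⟩
  obtain ⟨k, rfl⟩ : ∃ k', k = k' + 1 :=
    ⟨k - 1, by have := card_pos.2 ⟨B₀, hB₀⟩; omega⟩
  obtain ⟨hZ, hX', hM', hR⟩ := reduce hK X hX hM
  have h1 := reduce_defect hK ih X hX hM Q hQ
  set Z := X.filter fun B : Subgroup G => ∃ Q, Syl p K Q ∧ Q ≤ normalizer (B : Set G) with hZdef
  set X' := Z.image (phi p K) with hX'def
  simp only at h1
  have hg' := good_red hK ih X' hX' hM' hR Q hQ
  unfold Bd at hg'
  obtain ⟨q, hq⟩ : ∃ q, p = q + 1 := ⟨p - 1, by have := hp.out.pos; omega⟩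
  have hXZ : X \ Z = ∅ := by
    by_contra hne
    obtain ⟨B, hB⟩ := nonempty_iff_ne_empty.2 hne
    have hBQ : ¬ Q ≤ normalizer (B : Set G) := fun h =>
      (mem_sdiff.1 hB).2 (mem_filter.2 ⟨(mem_sdiff.1 hB).1, Q, hQ, h⟩)
    have hp' : p ≤ (X \ Z).card :=
      p_le_card_of_not_fixed hQ (fun x hx => inv_sdiff hX hZ x (hQ.le hx)) hB hBQ
    subst hq
    nlinarith [Nat.mul_le_mul_left q hp', Nat.mul_le_mul_right (q + 1) (show j + 1 ≤ q by omega)]
  rw [hXZ] at h1
  simp only [card_empty, mul_zero, add_zero] at h1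
  have hd' : p * X'.card + (fixP Q X').card <
      2 * p * (fixP Q X').card + X'.card + (j + 1) * p := by linarith
  have hSZ : ∀ B ∈ S, B ∈ Z := fun B hB => by
    by_contra h
    have : B ∈ X \ Z := mem_sdiff.2 ⟨hS hB, h⟩
    rw [hXZ] at this
    simp at this
  set S' := S.image (phi p K)
  set a := phi p K B₀
  have haS : a ∈ S' := mem_image_of_mem _ hB₀
  have haX : a ∈ X' := mem_image_of_mem _ (hSZ B₀ hB₀)
  have hra := hR a haX
  obtain ⟨Qa, hQaK, hQaa⟩ := hra.exists_syl
  have hd'' : p * X'.card + (fixP Qa X').card <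
      2 * p * (fixP Qa X').card + X'.card + (j + 1) * p := by
    rw [← card_fixP_eq hQ hQaK hX']; exact hd'
  have hYm : Mov a (X'.erase a) := by
    intro B hB h
    obtain ⟨hne, hBX⟩ := Finset.mem_erase.1 hB
    refine hne (eq_of_le hK ih X' hX' hM' hR Qa hQaK ?_ haX hBX
      ((hR B hBX).le_of_le_normalizer hra.le hra.res_eq h)).symm
    subst hq
    simp only [Nat.add_sub_cancel]
    nlinarith [Nat.mul_le_mul_right (q + 1) (show j + 1 ≤ q by omega)]
  have e1 : (fixP Qa (X'.erase a)).card + 1 = (fixP Qa X').card :=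
    fixP_erase (mem_fixP.2 ⟨haX, hQaa.trans le_normalizer⟩)
  have e2 : (X'.erase a).card + 1 = X'.card := card_erase_add_one haX
  have hS'card : (S'.erase a).card ≤ k := by
    have h3 := card_erase_add_one haS
    have h4 : S'.card ≤ k + 1 := card_image_le.trans hSk
    omega
  obtain ⟨Q', hQ'a, hQ'S⟩ := (ih a (lt_of_mov hM' haX hra) hra.res_eq).2 k (j + 1)
    (X'.erase a) (inv_erase hX' hra.le) hYm Qa (hQaK.down hQaa hra.le) (by omega)
    (by rw [← e1, ← e2] at hd''; linarith) (S'.erase a)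
    (Finset.erase_subset_erase a (image_subset_image hSZ)) hS'card
  have hQ'K : Syl p K Q' := hQaK.up hQaa hra.le hQ'a
  refine ⟨Q', hQ'K, fun B hB => (le_phi hQ'K B).1 ?_⟩
  by_cases h : phi p K B = a
  · exact h ▸ hQ'a.le
  · have hBX : phi p K B ∈ X' := mem_image_of_mem _ (hSZ B hB)
    exact ((hR _ hBX).le_iff hQ'K).1 (hQ'S _ (Finset.mem_erase.2 ⟨h, mem_image_of_mem _ hB⟩))

end Step

theorem good_and_cov (K : Subgroup G) (hK : res p K = K) : Good p K ∧ Cov p K := by
  induction hn : Nat.card K using Nat.strong_induction_on generalizing K with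
  | _ n ihn =>
    subst hn
    have ih : ∀ K' : Subgroup G, Nat.card K' < Nat.card K → res p K' = K' →
        Good p K' ∧ Cov p K' := fun K' h h' => ihn _ h K' h' rfl
    exact ⟨good hK ih, cov hK ih⟩

/-- A group generated by `p`-elements: a Sylow subgroup fixes at most `(p-1)/(2p-1)` of a family
of subgroups permuted without fixed member. -/
theorem fixed_bound (K : Subgroup G) (hK : res p K = K) : Good p K := (good_and_cov K hK).1

end

end Cfsg.Agent.FGS80.FixBound
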