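import Mathlib
import Cfsg.Agent.FGS76.Basic

/-!
# Groups of automorphisms of an abelian group with small fixed points on the `l`-part

`F` acts on a finite abelian group `M`, fixing a subgroup `M₀` pointwise.  `FreeOn ρ M₀ l` says
that no nontrivial element of `F` fixes an `l`-element outside `M₀`.
-/

namespace Cfsg.Agent.FGS80.FreeAction

variable {F M : Type*} [Group F] [Finite F] [CommGroup M] [Finite M]

/-- `x` is an `l`-element. -/
def IsLElem (l : ℕ) (x : M) : Prop := ∃ k : ℕ, orderOf x = l ^ k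

/-- No nontrivial element fixes an `l`-element outside `M₀`. -/
def FreeOn (ρ : F →* MulAut M) (M₀ : Subgroup M) (l : ℕ) : Prop :=
  ∀ f : F, f ≠ 1 → ∀ v : M, IsLElem l v → ρ f v = v → v ∈ M₀

/-- There is an `l`-element outside `M₀`. -/
def Moves (M₀ : Subgroup M) (l : ℕ) : Prop := ∃ v : M, IsLElem l v ∧ v ∉ M₀

lemma isLElem_of_pow_eq_one {l : ℕ} (hl : l.Prime) {x : M} {k : ℕ} (h : x ^ l ^ k = 1) :
    IsLElem l x := by
  obtain ⟨j, -, hj⟩ := (Nat.dvd_prime_pow hl).mp (orderOf_dvd_of_pow_eq_one h)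
  exact ⟨j, hj⟩

lemma IsLElem.map {l : ℕ} {x : M} (hx : IsLElem l x) (e : M ≃* M) : IsLElem l (e x) := by
  obtain ⟨k, hk⟩ := hx
  exact ⟨k, by rw [← hk]; exact orderOf_injective e.toMonoidHom e.injective x⟩

lemma IsLElem.prod {ι : Type*} {l : ℕ} (hl : l.Prime) (s : Finset ι) (g : ι → M) (e : ℕ)
    (h : ∀ i ∈ s, g i ^ l ^ e = 1) : IsLElem l (∏ i ∈ s, g i) :=
  isLElem_of_pow_eq_one hl (k := e) (by rw [← Finset.prod_pow]; exact Finset.prod_eq_one h)

lemma mem_of_pow_mem {l j : ℕ} {M₀ : Subgroup M} {x : M} (hx : IsLElem l x) (hl : l.Coprime j)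
    (h : x ^ j ∈ M₀) : x ∈ M₀ := by
  obtain ⟨k, hk⟩ := hx
  have hc : (orderOf x).Coprime j := hk ▸ hl.pow_left k
  obtain ⟨i, hi⟩ := exists_pow_eq_self_of_coprime (hc.symm : j.Coprime (orderOf x))
  rw [← hi]
  exact pow_mem h i

variable (ρ : F →* MulAut M) (M₀ : Subgroup M)

/-- An `l`-element of order `l` modulo `M₀` moved by `f` only within its coset. -/
lemma exists_fixed_mod (hfix : ∀ f : F, ∀ v ∈ M₀, ρ f v = v) {l : ℕ} (hl : l.Prime)
    (hmv : Moves M₀ l) {f : F} (hf : ∃ k, f ^ l ^ k = 1) :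
    ∃ v : M, IsLElem l v ∧ v ∉ M₀ ∧ v ^ l ∈ M₀ ∧ ρ f v * v⁻¹ ∈ M₀ := by
  classical
  haveI := Fact.mk hl
  have hmap : M₀.map (ρ f).toMonoidHom = M₀ := by
    ext x
    constructor
    · rintro ⟨y, hy, rfl⟩
      exact (hfix f y hy).symm ▸ hy
    · exact fun hx => ⟨x, hx, hfix f x hx⟩
  set σ : MulAut (M ⧸ M₀) := QuotientGroup.congr M₀ M₀ (ρ f) hmap with hσ
  have hσmk : ∀ x : M, σ (x : M ⧸ M₀) = ((ρ f x : M) : M ⧸ M₀) := fun _ => rfl
  set S : Subgroup (M ⧸ M₀) := (powMonoidHom l).ker with hS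
  have hSmem : ∀ x, x ∈ S ↔ x ^ l = 1 := fun _ => MonoidHom.mem_ker
  have hτ : ∀ τ : MulAut (M ⧸ M₀), ∀ x ∈ S, τ x ∈ S := fun τ x hx => by
    rw [hSmem] at hx ⊢; rw [← map_pow, hx, map_one]
  letI act : MulAction (Subgroup.zpowers σ) S :=
    { smul := fun τ x => ⟨(τ : MulAut (M ⧸ M₀)) x, hτ _ x x.2⟩
      one_smul := fun x => Subtype.ext rfl
      mul_smul := fun a b x => Subtype.ext rfl }
  have hpg : IsPGroup l (Subgroup.zpowers σ) := by
    obtain ⟨k, hk⟩ := hf
    have hpow : ∀ (i : ℕ) (x : M), (σ ^ i) (x : M ⧸ M₀) = (((ρ (f ^ i)) x : M) : M ⧸ M₀) := by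
      intro i
      induction i with
      | zero => intro x; simp
      | succ i ih =>
        intro x
        rw [pow_succ, pow_succ, map_mul]
        simp only [MulAut.mul_apply]
        rw [hσmk, ih]
    refine IsPGroup.of_card (n := ((orderOf σ).factorization l)) ?_
    have hd : orderOf σ ∣ l ^ k := by
      refine orderOf_dvd_of_pow_eq_one (MulEquiv.ext fun x => ?_)
      induction x using QuotientGroup.induction_on with
      | H x => rw [hpow, hk, map_one]; rfl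
    obtain ⟨j, -, hj⟩ := (Nat.dvd_prime_pow hl).mp hd
    rw [Nat.card_zpowers, hj, hl.factorization_pow]
    simp
  have hSp : l ∣ Nat.card S := by
    obtain ⟨v, ⟨k, hk⟩, hv⟩ := hmv
    have hne : (v : M ⧸ M₀) ≠ 1 := fun h => hv ((QuotientGroup.eq_one_iff v).mp h)
    have hd : orderOf (v : M ⧸ M₀) ∣ l ^ k := hk ▸ orderOf_map_dvd (QuotientGroup.mk' M₀) v
    obtain ⟨j, -, hj⟩ := (Nat.dvd_prime_pow hl).mp hd
    rcases j with - | j
    · exact absurd (orderOf_eq_one_iff.mp (by simpa using hj)) hne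
    · have h1 : orderOf ((v : M ⧸ M₀) ^ l ^ j) = l := by
        rw [orderOf_pow, hj, Nat.gcd_eq_right (pow_dvd_pow l (Nat.le_succ j)), pow_succ,
          Nat.mul_div_cancel_left _ (pow_pos hl.pos j)]
      have hm : ((v : M ⧸ M₀) ^ l ^ j) ^ l = 1 := by
        have := pow_orderOf_eq_one ((v : M ⧸ M₀) ^ l ^ j)
        rwa [h1] at this
      have := S.orderOf_dvd_natCard ((hSmem _).mpr hm)
      rwa [h1] at this
  have hone : (1 : S) ∈ MulAction.fixedPoints (Subgroup.zpowers σ) S := fun τ =>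
    Subtype.ext (map_one (τ : MulAut (M ⧸ M₀)))
  obtain ⟨⟨x, hxS⟩, hxf, hx1⟩ :=
    hpg.exists_fixed_point_of_prime_dvd_card_of_fixed_point S hSp hone
  obtain ⟨w, rfl⟩ := QuotientGroup.mk'_surjective M₀ x
  obtain ⟨a, b, -, -, hab, ha, hb⟩ := FGS76.exists_split l w
  have hxl : w ^ l ∈ M₀ := by
    have := (hSmem _).mp hxS
    rwa [← map_pow, QuotientGroup.mk'_apply, QuotientGroup.eq_one_iff] at this
  have hbM : b ∈ M₀ := by
    rw [← QuotientGroup.eq_one_iff, ← orderOf_eq_one_iff]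
    obtain ⟨k, hk⟩ := ha
    have h0 : (w : M ⧸ M₀) ^ l = 1 := by
      rw [← QuotientGroup.mk_pow, QuotientGroup.eq_one_iff]; exact hxl
    have ha' : (a : M ⧸ M₀) ^ l ^ (k + 1) = 1 := by
      rw [← QuotientGroup.mk_pow, pow_succ, pow_mul, ← hk, pow_orderOf_eq_one, one_pow,
        QuotientGroup.mk_one]
    have h2 : (b : M ⧸ M₀) ^ l ^ (k + 1) = 1 := by
      have h : (w : M ⧸ M₀) ^ l ^ (k + 1) = 1 := by
        rw [pow_succ', pow_mul, h0, one_pow]
      rwa [← hab, QuotientGroup.mk_mul, mul_pow, ha', one_mul] at h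
    exact Nat.eq_one_of_dvd_coprimes ((hl.coprime_iff_not_dvd.mpr hb).pow_left _)
      (orderOf_dvd_of_pow_eq_one h2) (orderOf_map_dvd (QuotientGroup.mk' M₀) b)
  have hwa : (w : M ⧸ M₀) = a := by
    rw [← hab, QuotientGroup.mk_mul, (QuotientGroup.eq_one_iff b).mpr hbM, mul_one]
  refine ⟨a, ha, fun h => hx1 (Subtype.ext ?_), ?_, ?_⟩
  · change (1 : M ⧸ M₀) = (w : M ⧸ M₀)
    rw [hwa, (QuotientGroup.eq_one_iff a).mpr h]
  · have := (QuotientGroup.eq_one_iff _).mpr hxl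
    rw [QuotientGroup.mk_pow, hwa, ← QuotientGroup.mk_pow, QuotientGroup.eq_one_iff] at this
    exact this
  · have h2 := congrArg Subtype.val (hxf ⟨σ, Subgroup.mem_zpowers σ⟩)
    change σ (w : M ⧸ M₀) = (w : M ⧸ M₀) at h2
    rw [hwa, hσmk] at h2
    rw [← QuotientGroup.eq_one_iff, QuotientGroup.mk_mul, QuotientGroup.mk_inv, h2,
      mul_inv_cancel]

/-- An element of `l`-power order acting freely on the `l`-part has order at most `l`. -/
lemma pow_eq_one_of_freeOn (hfix : ∀ f : F, ∀ v ∈ M₀, ρ f v = v) {l : ℕ} (hl : l.Prime)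
    (hfree : FreeOn ρ M₀ l) (hmv : Moves M₀ l) {f : F} (hf : ∃ k, f ^ l ^ k = 1) : f ^ l = 1 := by
  by_contra hne
  obtain ⟨v, hv, hv0, hvl, hz⟩ := exists_fixed_mod ρ M₀ hfix hl hmv hf
  obtain ⟨z, hzdef⟩ : ∃ z, ρ f v * v⁻¹ = z := ⟨_, rfl⟩
  rw [hzdef] at hz
  have h1 : ρ f v = z * v := by rw [← hzdef, inv_mul_cancel_right]
  have hpow : ∀ i : ℕ, ρ (f ^ i) v = z ^ i * v := by
    intro i
    induction i with
    | zero => simp
    | succ i ih =>
      rw [pow_succ, map_mul, MulAut.mul_apply, h1, map_mul, hfix _ z hz, ih, pow_succ' z i,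
        mul_assoc]
  have hzl : z ^ l = 1 := by
    have h2 := hfix f _ hvl
    rw [map_pow, h1, mul_pow] at h2
    exact mul_eq_right.mp h2
  exact hv0 (hfree _ hne v hv (by rw [hpow, hzl, one_mul]))

/-- Commuting elements of distinct prime orders cannot both act freely. -/
lemma false_of_commute (hfix : ∀ f : F, ∀ v ∈ M₀, ρ f v = v) {a b : ℕ} (ha : a.Prime)
    (hb : b.Prime) (hab : a ≠ b) (hfree : FreeOn ρ M₀ a) (hmv : Moves M₀ a) {s g : F}
    (hs : s ^ a = 1) (hs1 : s ≠ 1) (hg : g ^ b = 1) (hg1 : g ≠ 1) (hc : Commute s g) : False := by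
  obtain ⟨v, hv, hv0, hva, hz⟩ := exists_fixed_mod ρ M₀ hfix ha hmv ⟨1, by rwa [pow_one]⟩
  obtain ⟨z, hzdef⟩ : ∃ z, ρ s v * v⁻¹ = z := ⟨_, rfl⟩
  rw [hzdef] at hz
  have h1 : ρ s v = z * v := by rw [← hzdef, inv_mul_cancel_right]
  obtain ⟨v', hv'⟩ : ∃ v', ρ g v = v' := ⟨_, rfl⟩
  have h2 : ρ s v' = z * v' := by
    rw [← hv', ← MulAut.mul_apply, ← map_mul, hc.eq, map_mul, MulAut.mul_apply,
      h1, map_mul, hfix _ z hz]
  have hw : v' * v⁻¹ ∈ M₀ := by
    refine hfree s hs1 _ ?_ ?_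
    · obtain ⟨k, hk⟩ := hv
      refine isLElem_of_pow_eq_one ha (k := k) ?_
      rw [← hv', mul_pow, inv_pow, ← map_pow, ← hk, pow_orderOf_eq_one, map_one, inv_one, one_mul]
    · rw [map_mul, map_inv, h1, h2, mul_inv, mul_mul_mul_comm, mul_inv_cancel, one_mul]
  obtain ⟨y, hydef⟩ : ∃ y, v' * v⁻¹ = y := ⟨_, rfl⟩
  rw [hydef] at hw
  have h3 : ρ g v = y * v := by rw [hv', ← hydef, inv_mul_cancel_right]
  have hpow : ∀ i : ℕ, ρ (g ^ i) v = y ^ i * v := by
    intro i
    induction i with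
    | zero => simp
    | succ i ih =>
      rw [pow_succ, map_mul, MulAut.mul_apply, h3, map_mul, hfix _ y hw, ih, pow_succ' y i,
        mul_assoc]
  have hyb : y ^ b = 1 := by
    have := hpow b
    rw [hg, map_one, MulAut.one_apply] at this
    exact mul_eq_right.mp this.symm
  have hya : y ^ a = 1 := by
    have := hfix g _ hva
    rw [map_pow, h3, mul_pow] at this
    exact mul_eq_right.mp this
  have hy : y = 1 := orderOf_eq_one_iff.mp (Nat.eq_one_of_dvd_coprimes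
    ((Nat.coprime_primes ha hb).mpr hab) (orderOf_dvd_of_pow_eq_one hya)
    (orderOf_dvd_of_pow_eq_one hyb))
  exact hv0 (hfree g hg1 v hv (by rw [h3, hy, one_mul]))

/-- The partition argument: a subgroup `K` together with the subgroups `⟨c * k⟩` of prime order. -/
lemma mem_of_partition (hfix : ∀ f : F, ∀ v ∈ M₀, ρ f v = v) {l b : ℕ} (hl : l.Prime)
    (hb : b.Prime) (hfree : FreeOn ρ M₀ l) (K : Subgroup F) (hK : K ≠ ⊥)
    (hlK : ¬ l ∣ Nat.card K) (c : F) (hnorm : ∀ k ∈ K, c * k * c⁻¹ ∈ K)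
    (hne : ∀ k ∈ K, c * k ≠ 1) (hord : ∀ k ∈ K, (c * k) ^ b = 1) {v : M} (hv : IsLElem l v) :
    v ∈ M₀ := by
  classical
  haveI := Fintype.ofFinite K
  obtain ⟨e, he⟩ := hv
  have hve : v ^ l ^ e = 1 := he ▸ pow_orderOf_eq_one v
  have hρe : ∀ f, (ρ f v) ^ l ^ e = 1 := fun f => by rw [← map_pow, hve, map_one]
  set NK := ∏ k : K, ρ (k : F) v with hNK
  have hNK0 : NK ∈ M₀ := by
    obtain ⟨k₀, hk₀, hk₁⟩ := K.bot_or_exists_ne_one.resolve_left hK
    refine hfree k₀ hk₁ _ (IsLElem.prod hl _ _ e fun i _ => hρe i) ?_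
    rw [hNK, map_prod]
    refine Fintype.prod_equiv (Equiv.mulLeft (⟨k₀, hk₀⟩ : K)) _ _ fun k => ?_
    rw [← MulAut.mul_apply, ← map_mul]
    rfl
  have hline : ∀ k : K, ∏ i ∈ Finset.range b, ρ ((c * (k : F)) ^ i) v ∈ M₀ := by
    intro k
    refine hfree _ (hne k k.2) _ (IsLElem.prod hl _ _ e fun i _ => hρe _) ?_
    rw [map_prod]
    set u := c * (k : F)
    have hub : u ^ b = 1 := hord k k.2
    have hstep : ∀ i, ρ u (ρ (u ^ i) v) = ρ (u ^ (i + 1)) v := fun i => by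
      rw [← MulAut.mul_apply, ← map_mul, pow_succ']
    simp only [hstep]
    obtain ⟨b', hb'⟩ := Nat.exists_eq_succ_of_ne_zero hb.pos.ne'
    rw [hb', Finset.prod_range_succ, Finset.prod_range_succ' (fun i => ρ (u ^ i) v), pow_zero]
    congr 1
    rw [← Nat.succ_eq_add_one, ← hb', hub]
  have hprod : ∏ k : K, ∏ i ∈ Finset.range b, ρ ((c * (k : F)) ^ i) v ∈ M₀ :=
    prod_mem fun k _ => hline k
  rw [Finset.prod_comm] at hprod
  obtain ⟨b', hb'⟩ := Nat.exists_eq_succ_of_ne_zero hb.pos.ne'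
  rw [hb', Finset.prod_range_succ'] at hprod
  have hrest : ∀ i ∈ Finset.range b', ∏ k : K, ρ ((c * (k : F)) ^ (i + 1)) v ∈ M₀ := by
    intro i hi
    set j := i + 1
    have hj : j.Coprime b := by
      refine (Nat.Coprime.symm ((hb.coprime_iff_not_dvd).mpr fun hd => ?_))
      have := Nat.le_of_dvd (Nat.succ_pos i) hd
      have := Finset.mem_range.mp hi
      omega
    have hmemK : ∀ (n : ℕ) (k : K), (c ^ n)⁻¹ * (c * (k : F)) ^ n ∈ K := by
      intro n
      induction n with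
      | zero => intro k; simp
      | succ n ih =>
        intro k
        have hinv : ∀ x ∈ K, c⁻¹ * x * c ∈ K := by
          intro x hx
          let φ : K → K := fun y => ⟨c * y * c⁻¹, hnorm y y.2⟩
          have hφ : Function.Injective φ := fun y y' h => Subtype.ext (by
            simpa [φ] using congrArg Subtype.val h)
          obtain ⟨y, hy⟩ := (Finite.injective_iff_surjective.mp hφ) ⟨x, hx⟩
          have : c * (y : F) * c⁻¹ = x := congrArg Subtype.val hy
          rw [← this]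
          simp [mul_assoc]
        have h := mul_mem (hinv _ (ih k)) k.2
        have heq : (c ^ (n + 1))⁻¹ * (c * (k : F)) ^ (n + 1) =
            c⁻¹ * ((c ^ n)⁻¹ * (c * (k : F)) ^ n) * c * (k : F) := by
          rw [pow_succ, pow_succ]; group
        rw [heq]; exact h
    let ψ : K → K := fun k => ⟨_, hmemK j k⟩
    have hψ : Function.Bijective ψ := by
      refine Finite.injective_iff_bijective.mp fun k k' h => ?_
      have h' : (c * (k : F)) ^ j = (c * (k' : F)) ^ j := by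
        simpa [ψ] using congrArg Subtype.val h
      obtain ⟨m, hm⟩ := exists_pow_eq_self_of_coprime
        (hj.coprime_dvd_right (orderOf_dvd_of_pow_eq_one (hord k k.2)))
      obtain ⟨m', hm'⟩ := exists_pow_eq_self_of_coprime
        (hj.coprime_dvd_right (orderOf_dvd_of_pow_eq_one (hord k' k'.2)))
      have e1 : ∀ u : F, orderOf u ∣ b → ∀ m : ℕ, j * m ≡ 1 [MOD b] → (u ^ j) ^ m = u := by
        intro u hu m hm
        rw [← pow_mul]
        conv_rhs => rw [← pow_one u]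
        exact pow_eq_pow_iff_modEq.mpr (hm.of_dvd hu)
      obtain ⟨m₀, -, hm₀⟩ := Nat.exists_mul_mod_eq_one_of_coprime hj hb.one_lt
      have hm₀' : j * m₀ ≡ 1 [MOD b] := by
        rw [Nat.ModEq, hm₀, Nat.mod_eq_of_lt hb.one_lt]
      have hk := e1 _ (orderOf_dvd_of_pow_eq_one (hord k k.2)) m₀ hm₀'
      have hk' := e1 _ (orderOf_dvd_of_pow_eq_one (hord k' k'.2)) m₀ hm₀'
      rw [h', hk'] at hk
      exact Subtype.ext (mul_left_cancel hk).symm
    have : ∏ k : K, ρ ((c * (k : F)) ^ j) v = ρ (c ^ j) NK := by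
      rw [hNK, map_prod]
      refine Fintype.prod_bijective ψ hψ _ _ fun k => ?_
      rw [← MulAut.mul_apply, ← map_mul]
      simp [ψ]
    rw [this, hfix _ _ hNK0]
    exact hNK0
  have hvK : v ^ Nat.card K ∈ M₀ := by
    have h0 := (Subgroup.mul_mem_cancel_left M₀ (prod_mem hrest)).mp hprod
    simpa [Nat.card_eq_fintype_card] using h0
  exact mem_of_pow_mem ⟨e, he⟩ (hl.coprime_iff_not_dvd.mpr hlK) hvK

/-- An `l`-subgroup acting freely on the `l`-part and on the `b`-part has order at most `l`. -/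
lemma card_le_of_isPGroup (hfix : ∀ f : F, ∀ v ∈ M₀, ρ f v = v) {l b : ℕ} (hl : l.Prime)
    (hb : b.Prime) (hlb : l ≠ b) (hfl : FreeOn ρ M₀ l) (hml : Moves M₀ l) (hfb : FreeOn ρ M₀ b)
    (hmb : Moves M₀ b) (P : Subgroup F) (hP : IsPGroup l P) : Nat.card P ≤ l := by
  classical
  haveI := Fact.mk hl
  rcases subsingleton_or_nontrivial P with h | h
  · rw [Nat.card_of_subsingleton (1 : P)]; exact hl.pos
  have hexp : ∀ x : P, (x : F) ^ l = 1 := by
    intro x
    obtain ⟨k, hk⟩ := hP x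
    exact pow_eq_one_of_freeOn ρ M₀ hfix hl hfl hml ⟨k, by simpa using congrArg Subtype.val hk⟩
  haveI := hP.center_nontrivial
  obtain ⟨z, hz⟩ := exists_ne (1 : Subgroup.center P)
  set c₀ : F := ((z : P) : F) with hc₀
  have hc₀1 : c₀ ≠ 1 := fun h => hz (Subtype.ext (Subtype.ext h))
  have hord₀ : orderOf c₀ = l := orderOf_eq_prime (hexp z) hc₀1
  by_contra hcon
  have hnle : ¬ P ≤ Subgroup.zpowers c₀ := fun hle => hcon (by
    have := Subgroup.card_le_of_le hle
    rwa [Nat.card_zpowers, hord₀] at this)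
  obtain ⟨c, hcP, hc⟩ := SetLike.not_le_iff_exists.mp hnle
  have hcomm : Commute c c₀ :=
    congrArg Subtype.val (Subgroup.mem_center_iff.mp z.2 ⟨c, hcP⟩)
  obtain ⟨v, hv, hv0⟩ := hmb
  refine hv0 (mem_of_partition ρ M₀ hfix hb hl hfb (Subgroup.zpowers c₀)
    (by simpa using hc₀1) ?_ c ?_ ?_ ?_ hv)
  · rw [Nat.card_zpowers, hord₀]
    exact fun h => hlb ((Nat.prime_dvd_prime_iff_eq hb hl).mp h).symm
  · rintro k ⟨i, rfl⟩
    simp only
    rw [(hcomm.zpow_right i).eq, mul_inv_cancel_right]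
    exact ⟨i, rfl⟩
  · rintro k hk hck
    exact hc ((eq_inv_of_mul_eq_one_left hck) ▸ inv_mem hk)
  · rintro k ⟨i, rfl⟩
    simp only
    rw [(hcomm.zpow_right i).mul_pow, hexp ⟨c, hcP⟩, one_mul, ← zpow_natCast, ← zpow_mul,
      mul_comm, zpow_mul, zpow_natCast, hexp z, one_zpow]

/-- No subgroup of order `a * b` for distinct primes acting freely on both parts. -/
theorem false_of_card_eq_mul (hfix : ∀ f : F, ∀ v ∈ M₀, ρ f v = v) {a b : ℕ} (ha : a.Prime)
    (hb : b.Prime) (hab : b < a) (hfa : FreeOn ρ M₀ a) (hma : Moves M₀ a) (hfb : FreeOn ρ M₀ b)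
    (hmb : Moves M₀ b) (L : Subgroup F) (hL : Nat.card L = a * b) : False := by
  classical
  haveI := Fact.mk ha
  haveI := Fact.mk hb
  obtain ⟨s, hs⟩ := exists_prime_orderOf_dvd_card' a (hL ▸ Dvd.intro b rfl : a ∣ Nat.card L)
  set K := Subgroup.zpowers s with hK
  have hKc : Nat.card K = a := by rw [hK, Nat.card_zpowers, hs]
  have hidx : K.index = b := by
    have := K.card_mul_index
    rw [hKc, hL] at this
    exact Nat.eq_of_mul_eq_mul_left ha.pos this
  haveI : K.Normal := Subgroup.normal_of_index_eq_minFac_card (by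
    rw [hidx, hL]
    refine le_antisymm ?_ (Nat.minFac_le_of_dvd hb.two_le (Dvd.intro_left a rfl))
    have hne : a * b ≠ 1 := fun h => hb.one_lt.ne' (Nat.eq_one_of_mul_eq_one_left h)
    have hp := Nat.minFac_prime hne
    rcases hp.dvd_mul.mp (Nat.minFac_dvd (a * b)) with h | h
    · exact ((Nat.prime_dvd_prime_iff_eq hp ha).mp h).symm ▸ hab.le
    · exact ((Nat.prime_dvd_prime_iff_eq hp hb).mp h).ge)
  have hnt : K ≠ ⊤ := fun h => hb.one_lt.ne' (by rw [← hidx, h, Subgroup.index_top])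
  obtain ⟨c, hc⟩ : ∃ c, c ∉ K := by
    by_contra h
    push Not at h
    exact hnt (eq_top_iff.mpr fun x _ => h x)
  let ρ' : L →* MulAut M := ρ.comp L.subtype
  by_cases hbig : ∃ k ∈ K, (c * k) ^ b ≠ 1
  · obtain ⟨k, hk, hkb⟩ := hbig
    set x := c * k
    have hxK : x ∉ K := fun h => hc (by simpa [x] using mul_mem h (inv_mem hk))
    have hd : orderOf x ∣ a * b := hL ▸ orderOf_dvd_natCard x
    have hxb : x ^ b ∈ K := by
      have := Subgroup.pow_index_mem K x
      rwa [hidx] at this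
    have hxa : x ^ a ≠ 1 := by
      intro h
      obtain ⟨m, hm⟩ := exists_pow_eq_self_of_coprime (n := b)
        (((Nat.coprime_primes hb ha).mpr hab.ne).coprime_dvd_right (orderOf_dvd_of_pow_eq_one h))
      exact hxK (hm ▸ pow_mem hxb m)
    have hfx : ∀ f : L, ∀ v ∈ M₀, ρ' f v = v := fun f => hfix f
    refine false_of_commute ρ' M₀ hfx ha hb hab.ne' (fun f hf => hfa f (by simpa using hf))
      hma (s := x ^ b) (g := x ^ a) ?_ hkb ?_ hxa (Commute.pow_pow (Commute.refl x) _ _)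
    · rw [← pow_mul, mul_comm]; exact orderOf_dvd_iff_pow_eq_one.mp hd
    · rw [← pow_mul]; exact orderOf_dvd_iff_pow_eq_one.mp hd
  · push Not at hbig
    obtain ⟨v, hv, hv0⟩ := hmb
    refine hv0 (mem_of_partition ρ' M₀ (fun f => hfix f) hb hb
      (fun f hf => hfb f (by simpa using hf)) K (fun h => ha.one_lt.ne'
        (by rw [← hKc, h, Subgroup.card_bot])) ?_ c ?_ ?_ hbig hv)
    · rw [hKc]
      exact fun h => hab.ne ((Nat.prime_dvd_prime_iff_eq hb ha).mp h)
    · exact fun k hk => Subgroup.Normal.conj_mem ‹_› k hk c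
    · exact fun k hk h => hc ((eq_inv_of_mul_eq_one_left h) ▸ inv_mem hk)

end Cfsg.Agent.FGS80.FreeAction
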