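import Cfsg.Agent.Lib.PGroup.CyclicMax
import Cfsg.Agent.Lib.PGroup.NormalRankTwo
import Mathlib

/-!
# Counting subgroups of given prime power order modulo `p ^ 2`
-/

set_option autoImplicit false
set_option linter.unusedSectionVars false
set_option linter.style.haveILetI false

namespace Cfsg.Agent.FGS80.Kulakoff

open Subgroup Finset
open scoped commutatorElement Classical

noncomputable section

variable {G : Type*} [Group G] [Finite G] (p : ℕ) [hp : Fact p.Prime]

local instance : Fintype (Subgroup G) := Fintype.ofFinite _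

/-- Subgroups of `U` containing `K` whose order times `d` is the order of `U`. -/
def above (d : ℕ) (K U : Subgroup G) : Finset (Subgroup G) :=
  univ.filter fun M => K ≤ M ∧ M ≤ U ∧ d * Nat.card M = Nat.card U

/-- Subgroups of `U` covering `K`. -/
def lines (K U : Subgroup G) : Finset (Subgroup G) :=
  univ.filter fun L => K ≤ L ∧ L ≤ U ∧ Nat.card L = p * Nat.card K

/-- Subgroups of `U` of order `p ^ k`. -/
def subs (k : ℕ) (U : Subgroup G) : Finset (Subgroup G) :=
  univ.filter fun H => H ≤ U ∧ Nat.card H = p ^ k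

variable {p}

theorem mem_above {d : ℕ} {K U M : Subgroup G} :
    M ∈ above d K U ↔ K ≤ M ∧ M ≤ U ∧ d * Nat.card M = Nat.card U := by
  simp [above]

theorem mem_lines {K U L : Subgroup G} :
    L ∈ lines p K U ↔ K ≤ L ∧ L ≤ U ∧ Nat.card L = p * Nat.card K := by
  simp [lines]

theorem mem_subs {k : ℕ} {U H : Subgroup G} :
    H ∈ subs p k U ↔ H ≤ U ∧ Nat.card H = p ^ k := by
  simp [subs]

/-- `U / K` is elementary abelian of order `p ^ e`. -/
structure El (p e : ℕ) (K U : Subgroup G) : Prop where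
  le : K ≤ U
  pow_mem : ∀ x ∈ U, x ^ p ∈ K
  comm_mem : ∀ x ∈ U, ∀ y ∈ U, ⁅x, y⁆ ∈ K
  card_eq : Nat.card K * p ^ e = Nat.card U

variable (p) in
/-- `1 + p + ... + p ^ (e-1)`. -/
def geom (e : ℕ) : ℕ := ∑ i ∈ range e, p ^ i

theorem geom_mul (e : ℕ) : geom p e * (p - 1) + 1 = p ^ e := by
  induction e with
  | zero => simp [geom]
  | succ e ih =>
    have hp1 : p - 1 + 1 = p := Nat.succ_pred hp.out.ne_zero
    rw [geom, sum_range_succ, ← geom, add_mul, add_right_comm, ih, pow_succ]
    calc p ^ e + p ^ e * (p - 1) = p ^ e * (p - 1 + 1) := by ring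
      _ = p ^ e * p := by rw [hp1]

theorem geom_pos {e : ℕ} (he : 1 ≤ e) : 0 < geom p e :=
  sum_pos (fun i _ => pow_pos hp.out.pos i) ⟨0, mem_range.2 he⟩

theorem geom_cast {e : ℕ} (he : 1 ≤ e) : (geom p e : ZMod p) = 1 := by
  obtain ⟨e, rfl⟩ : ∃ f, e = f + 1 := ⟨e - 1, by omega⟩
  simp [geom, sum_range_succ']

theorem geom_cast_sq {e : ℕ} (he : 2 ≤ e) : (geom p e : ZMod (p ^ 2)) = 1 + p := by
  obtain ⟨e, rfl⟩ : ∃ f, e = f + 2 := ⟨e - 2, by omega⟩
  have h0 : (p : ZMod (p ^ 2)) ^ 2 = 0 := by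
    rw [← Nat.cast_pow, ZMod.natCast_self]
  rw [geom, sum_range_succ', sum_range_succ']
  have hz : ∀ x ∈ range e, ((p ^ (x + 1 + 1) : ℕ) : ZMod (p ^ 2)) = 0 := fun x _ => by
    rw [Nat.cast_pow, show x + 1 + 1 = 2 + x by omega, pow_add, h0, zero_mul]
  rw [Nat.cast_add, Nat.cast_add, Nat.cast_sum, sum_eq_zero hz]
  simp [add_comm]

theorem relIndex_mul_card_of_le {G : Type*} [Group G] {A B : Subgroup G} (h : A ≤ B) :
    A.relIndex B * Nat.card A = Nat.card B := by
  rw [mul_comm, ← relIndex_bot_left, ← relIndex_bot_left]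
  exact relIndex_mul_relIndex ⊥ A B bot_le h

theorem conj_mem_of_comm {K : Subgroup G} {x k : G} (hk : k ∈ K) (h : ⁅x, k⁆ ∈ K) :
    x * k * x⁻¹ ∈ K := by
  have := K.mul_mem h hk
  simpa [commutatorElement_def, mul_assoc] using this

theorem El.lines_mem {e : ℕ} {K U : Subgroup G} (h : El p e K U) {x : G} (hx : x ∈ U)
    (hxK : x ∉ K) : K ⊔ zpowers x ∈ lines p K U := by
  refine mem_lines.2 ⟨le_sup_left, sup_le h.le (zpowers_le.2 hx), ?_⟩
  haveI : (K.subgroupOf U).Normal := ⟨fun k hk g =>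
    conj_mem_of_comm hk (h.comm_mem g g.2 k k.2)⟩
  set f := QuotientGroup.mk' (K.subgroupOf U)
  set L := ((zpowers (f ⟨x, hx⟩)).comap f).map U.subtype with hL
  have hle : K ⊔ zpowers x ≤ L := by
    refine sup_le (fun k hk => ⟨⟨k, h.le hk⟩, ?_, rfl⟩)
      (zpowers_le.2 ⟨⟨x, hx⟩, mem_zpowers _, rfl⟩)
    have hf : f ⟨k, h.le hk⟩ = 1 := (QuotientGroup.eq_one_iff _).2 hk
    simp only [SetLike.mem_coe, mem_comap, hf]
    exact one_mem _
  have hcL : Nat.card L = p * Nat.card K := by
    rw [hL, card_map_of_injective U.subtype_injective,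
      ← relIndex_mul_card_of_le (show K.subgroupOf U ≤ (zpowers (f ⟨x, hx⟩)).comap f from
        (QuotientGroup.ker_mk' (K.subgroupOf U)).ge.trans (f.ker_le_comap _)),
      Nat.card_congr (subgroupOfEquivOfLe h.le).toEquiv]
    congr 1
    suffices hh : (comap f ⊥).relIndex ((zpowers (f ⟨x, hx⟩)).comap f) = p by
      rwa [MonoidHom.comap_bot, QuotientGroup.ker_mk'] at hh
    rw [relIndex_comap, map_comap_eq_self_of_surjective (QuotientGroup.mk'_surjective _),
      relIndex_bot_left, Nat.card_zpowers]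
    refine orderOf_eq_prime ?_ fun h1 => hxK ?_
    · rw [← map_pow]
      exact (QuotientGroup.eq_one_iff _).2 (h.pow_mem x hx)
    · exact (QuotientGroup.eq_one_iff (N := K.subgroupOf U) ⟨x, hx⟩).1 h1
  obtain ⟨c, hc⟩ := Subgroup.card_dvd_of_le (le_sup_left : K ≤ K ⊔ zpowers x)
  obtain ⟨d, hd⟩ : c ∣ p := by
    have := Subgroup.card_dvd_of_le hle
    rw [hcL, hc, mul_comm p] at this
    exact Nat.dvd_of_mul_dvd_mul_left Nat.card_pos this
  rcases hp.out.eq_one_or_self_of_dvd c ⟨d, hd⟩ with rfl | rfl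
  · rw [mul_one] at hc
    refine absurd ?_ hxK
    rw [eq_of_le_of_card_ge (le_sup_left : K ≤ K ⊔ zpowers x) hc.le]
    exact mem_sup_right (mem_zpowers x)
  · rw [hc, mul_comm]

theorem El.card_lines {e : ℕ} {K U : Subgroup G} (h : El p e K U) :
    (lines p K U).card = geom p e := by
  haveI := Fintype.ofFinite G
  have hA : ∀ A : Subgroup G, (univ.filter fun x : G => x ∈ A).card = Nat.card A := fun A => by
    rw [Nat.card_eq_fintype_card, ← Fintype.card_subtype]
  have hsplit : ∀ A : Subgroup G, K ≤ A →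
      (univ.filter fun x : G => x ∈ A ∧ x ∉ K).card + Nat.card K = Nat.card A := by
    intro A hKA
    rw [← hA A, ← hA K, ← card_union_of_disjoint]
    · congr 1
      ext x
      simp only [mem_union, mem_filter, Finset.mem_univ, true_and]
      exact ⟨fun hx => hx.elim (·.1) (fun hx => hKA hx), fun hx => by tauto⟩
    · rw [disjoint_filter]; tauto
  have hfib := card_eq_sum_card_fiberwise (s := univ.filter fun x : G => x ∈ U ∧ x ∉ K)
    (t := lines p K U) (f := fun x => K ⊔ zpowers x) (fun x hx => by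
      simp only [coe_filter, Finset.mem_univ, true_and, Set.mem_ofPred_eq] at hx
      exact h.lines_mem hx.1 hx.2)
  have hterm : ∀ L ∈ lines p K U,
      ((univ.filter fun x : G => x ∈ U ∧ x ∉ K).filter fun x => K ⊔ zpowers x = L).card
        = (p - 1) * Nat.card K := by
    intro L hL
    obtain ⟨h1, h2, h3⟩ := mem_lines.1 hL
    have := hsplit L h1
    have e1 : ((univ.filter fun x : G => x ∈ U ∧ x ∉ K).filter fun x => K ⊔ zpowers x = L)
        = univ.filter fun x : G => x ∈ L ∧ x ∉ K := by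
      ext x
      simp only [mem_filter, Finset.mem_univ, true_and]
      constructor
      · rintro ⟨⟨-, hxK⟩, rfl⟩; exact ⟨mem_sup_right (mem_zpowers x), hxK⟩
      · rintro ⟨hxL, hxK⟩
        refine ⟨⟨h2 hxL, hxK⟩, eq_of_le_of_card_ge (sup_le h1 (zpowers_le.2 hxL)) ?_⟩
        rw [h3, (mem_lines.1 (h.lines_mem (h2 hxL) hxK)).2.2]
    rw [e1, Nat.sub_mul, one_mul]
    omega
  rw [sum_congr rfl hterm, sum_const, smul_eq_mul] at hfib
  have hU := hsplit U h.le
  rw [hfib, ← h.card_eq, ← geom_mul (p := p) e] at hU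
  have h2 : (lines p K U).card * ((p - 1) * Nat.card K) =
      geom p e * ((p - 1) * Nat.card K) := by linarith
  exact Nat.eq_of_mul_eq_mul_right
    (Nat.mul_pos (Nat.sub_pos_of_lt hp.out.one_lt) Nat.card_pos) h2

theorem El.upper {e : ℕ} {K U M : Subgroup G} (h : El p (e + 1) K U) (hM : M ∈ above p K U) :
    El p e K M := by
  obtain ⟨h1, h2, h3⟩ := mem_above.1 hM
  refine ⟨h1, fun x hx => h.pow_mem x (h2 hx), fun x hx y hy => h.comm_mem x (h2 hx) y (h2 hy), ?_⟩
  refine Nat.eq_of_mul_eq_mul_left hp.out.pos ?_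
  rw [h3, ← h.card_eq, pow_succ]; ring

theorem El.lower {e : ℕ} {K U L : Subgroup G} (h : El p (e + 1) K U) (hL : L ∈ lines p K U) :
    El p e L U := by
  obtain ⟨h1, h2, h3⟩ := mem_lines.1 hL
  refine ⟨h2, fun x hx => h1 (h.pow_mem x hx), fun x hx y hy => h1 (h.comm_mem x hx y hy), ?_⟩
  rw [h3, ← h.card_eq, pow_succ]; ring

theorem El.card_above {e : ℕ} : ∀ {K U : Subgroup G}, El p e K U →
    (above p K U).card = geom p e := by
  induction e with
  | zero =>
    intro K U h
    simp only [geom, range_zero, sum_empty, card_eq_zero, eq_empty_iff_forall_notMem, mem_above]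
    rintro M ⟨h1, -, h3⟩
    have := Subgroup.card_le_of_le h1
    have h4 := h.card_eq
    rw [pow_zero, mul_one] at h4
    have := hp.out.two_le
    have : 0 < Nat.card M := Nat.card_pos
    nlinarith
  | succ e ih =>
    intro K U h
    by_cases he : e = 0
    · subst he
      have : above p K U = {K} := by
        ext M
        simp only [mem_above, Finset.mem_singleton]
        have h4 := h.card_eq
        constructor
        · rintro ⟨h1, -, h3⟩
          refine (eq_of_le_of_card_ge h1 ?_).symm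
          refine le_of_eq (Nat.eq_of_mul_eq_mul_left hp.out.pos ?_)
          rw [h3, ← h4]; ring
        · rintro rfl
          exact ⟨le_rfl, h.le, by rw [← h4]; ring⟩
      simp [this, geom]
    have key := sum_card_bipartiteAbove_eq_sum_card_bipartiteBelow
      (s := lines p K U) (t := above p K U) (r := fun L M : Subgroup G => L ≤ M)
    have h1 : ∀ L ∈ lines p K U,
        (bipartiteAbove (fun L M : Subgroup G => L ≤ M) (above p K U) L).card = geom p e := by
      intro L hL
      rw [← ih (h.lower hL)]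
      congr 1
      ext M
      simp only [mem_bipartiteAbove, mem_above]
      exact ⟨fun ⟨a, b⟩ => ⟨b, a.2⟩, fun a => ⟨⟨(mem_lines.1 hL).1.trans a.1, a.2⟩, a.1⟩⟩
    have h2 : ∀ M ∈ above p K U,
        (bipartiteBelow (fun L M : Subgroup G => L ≤ M) (lines p K U) M).card = geom p e := by
      intro M hM
      rw [← (h.upper hM).card_lines]
      congr 1
      ext L
      simp only [mem_bipartiteBelow, mem_lines]
      exact ⟨fun ⟨a, b⟩ => ⟨a.1, b, a.2.2⟩,
        fun a => ⟨⟨a.1, a.2.1.trans (mem_above.1 hM).2.1, a.2.2⟩, a.2.1⟩⟩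
    rw [sum_congr rfl h1, sum_congr rfl h2, sum_const, sum_const, smul_eq_mul, smul_eq_mul,
      h.card_lines] at key
    exact (Nat.eq_of_mul_eq_mul_right (geom_pos (by omega)) key).symm

theorem El.card_above_sq {e : ℕ} {K U : Subgroup G} (h : El p e K U) (he : 2 ≤ e) :
    ((above (p * p) K U).card : ZMod p) = 1 := by
  obtain ⟨e, rfl⟩ : ∃ f, e = f + 1 := ⟨e - 1, by omega⟩
  have key := sum_card_bipartiteAbove_eq_sum_card_bipartiteBelow
    (s := above (p * p) K U) (t := above p K U) (r := fun L M : Subgroup G => L ≤ M)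
  have h1 : ∀ N ∈ above (p * p) K U,
      (bipartiteAbove (fun L M : Subgroup G => L ≤ M) (above p K U) N).card = geom p 2 := by
    intro N hN
    obtain ⟨a1, a2, a3⟩ := mem_above.1 hN
    have hel : El p 2 N U := ⟨a2, fun x hx => a1 (h.pow_mem x hx),
      fun x hx y hy => a1 (h.comm_mem x hx y hy), by rw [← a3]; ring⟩
    rw [← hel.card_above]
    congr 1
    ext M
    simp only [mem_bipartiteAbove, mem_above]
    exact ⟨fun ⟨a, b⟩ => ⟨b, a.2⟩, fun a => ⟨⟨a1.trans a.1, a.2⟩, a.1⟩⟩
  have h2 : ∀ M ∈ above p K U,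
      (bipartiteBelow (fun L M : Subgroup G => L ≤ M) (above (p * p) K U) M).card
        = geom p e := by
    intro M hM
    rw [← (h.upper hM).card_above]
    congr 1
    ext N
    obtain ⟨b1, b2, b3⟩ := mem_above.1 hM
    simp only [mem_bipartiteBelow, mem_above]
    constructor
    · rintro ⟨a, b⟩
      exact ⟨a.1, b, Nat.eq_of_mul_eq_mul_left hp.out.pos (by rw [← mul_assoc, a.2.2, b3])⟩
    · intro a
      exact ⟨⟨a.1, a.2.1.trans b2, by rw [mul_assoc, a.2.2, b3]⟩, a.2.1⟩
  rw [sum_congr rfl h1, sum_congr rfl h2, sum_const, sum_const, smul_eq_mul, smul_eq_mul,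
    h.card_above] at key
  have := congrArg (Nat.cast : ℕ → ZMod p) key
  rw [Nat.cast_mul, Nat.cast_mul, geom_cast one_le_two, geom_cast (by omega),
    geom_cast (by omega)] at this
  simpa using this

theorem dvd_cast_mul {a b : ℕ} (h : (a : ZMod p) = b) :
    (p : ZMod (p ^ 2)) * a = p * b := by
  rw [← Nat.cast_mul, ← Nat.cast_mul, ZMod.natCast_eq_natCast_iff, pow_two]
  exact Nat.ModEq.mul_left' p ((ZMod.natCast_eq_natCast_iff _ _ _).1 h)

/-! ### The Frattini interval of a `p`-subgroup -/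

variable (p) in
/-- The Frattini subgroup of `U`, in the ambient group. -/
def frat (U : Subgroup G) : Subgroup G := U ⊓ ⨅ M ∈ above p ⊥ U, M


theorem exists_above {U : Subgroup G} {n k : ℕ} (hU : Nat.card U = p ^ n) {H : Subgroup G}
    (hHU : H ≤ U) (hH : Nat.card H = p ^ k) (hk : k < n) : ∃ M, M ∈ above p H U := by
  obtain ⟨M, hM, hle⟩ := Sylow.exists_subgroup_card_pow_prime_le p (n := k) (m := n - 1)
    (hU ▸ pow_dvd_pow p (Nat.sub_le n 1)) (H.subgroupOf U)
    (by rw [Nat.card_congr (subgroupOfEquivOfLe hHU).toEquiv, hH]) (by omega)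
  refine ⟨M.map U.subtype, mem_above.2 ⟨fun h hh => ⟨⟨h, hHU hh⟩, hle hh, rfl⟩,
    map_subtype_le _, ?_⟩⟩
  rw [card_map_of_injective U.subtype_injective, hM, hU, ← pow_succ', Nat.sub_add_cancel]
  omega

theorem card_of_above {U M K : Subgroup G} {n : ℕ} (hU : Nat.card U = p ^ (n + 1))
    (hM : M ∈ above p K U) : Nat.card M = p ^ n :=
  Nat.eq_of_mul_eq_mul_left hp.out.pos (by rw [(mem_above.1 hM).2.2, hU, pow_succ'])

theorem exists_el {U : Subgroup G} {n k : ℕ} (hU : Nat.card U = p ^ n) {H : Subgroup G}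
    (hHU : H ≤ U) (hH : Nat.card H = p ^ k) (hk : k < n) :
    ∃ e : ℕ, El p e (H ⊔ frat p U) U ∧ 1 ≤ e ∧ ∀ M ∈ above p H U, H ⊔ frat p U ≤ M := by
  have hUp : IsPGroup p U := IsPGroup.of_card hU
  unfold frat
  set K := H ⊔ U ⊓ ⨅ M ∈ above p ⊥ U, M with hK
  have hmem : ∀ x ∈ U, ∀ M ∈ above p ⊥ U, x ^ p ∈ M ∧ ∀ y ∈ U, ⁅x, y⁆ ∈ M := by
    intro x hx M hM
    obtain ⟨-, hMU, hcard⟩ := mem_above.1 hM
    have hi : (M.subgroupOf U).index = p := by
      have h1 := (M.subgroupOf U).index_mul_card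
      rw [Nat.card_congr (subgroupOfEquivOfLe hMU).toEquiv] at h1
      rw [← hcard] at h1
      exact Nat.eq_of_mul_eq_mul_right Nat.card_pos h1
    haveI : (M.subgroupOf U).Normal := Cfsg.Agent.PGroup.normal_of_index_eq_prime hUp hi
    refine ⟨?_, fun y hy => ?_⟩
    · have := (M.subgroupOf U).pow_index_mem ⟨x, hx⟩
      rw [hi] at this
      exact this
    · haveI : IsCyclic (↥U ⧸ M.subgroupOf U) := isCyclic_of_prime_card (p := p) hi
      letI := IsCyclic.commGroup (α := ↥U ⧸ M.subgroupOf U)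
      have : ⁅(⟨x, hx⟩ : U), ⟨y, hy⟩⁆ ∈ M.subgroupOf U := by
        rw [← QuotientGroup.eq_one_iff, ← QuotientGroup.mk'_apply, map_commutatorElement]
        exact commutatorElement_eq_one_iff_commute.2 (mul_comm _ _)
      exact this
  have hKU : K ≤ U := sup_le hHU inf_le_left
  obtain ⟨j, hj⟩ := IsPGroup.iff_card.mp (hUp.to_le hKU)
  have hKM : ∀ M ∈ above p H U, K ≤ M := fun M hM => sup_le (mem_above.1 hM).1
    (inf_le_right.trans (iInf₂_le M (mem_above.2 ⟨bot_le, (mem_above.1 hM).2⟩)))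
  obtain ⟨M, hM⟩ := exists_above hU hHU hH hk
  obtain ⟨m, rfl⟩ : ∃ m, n = m + 1 := ⟨n - 1, by omega⟩
  have hjn : j ≤ m := by
    have := Subgroup.card_le_of_le (hKM M hM)
    rw [hj, card_of_above hU hM] at this
    exact (Nat.pow_le_pow_iff_right hp.out.one_lt).1 this
  refine ⟨m + 1 - j, ⟨hKU, fun x hx => ?_, fun x hx y hy => ?_, ?_⟩, by omega, hKM⟩
  · exact mem_sup_right ⟨U.pow_mem hx p, mem_iInf.2 fun N => mem_iInf.2 fun hN => (hmem x hx N hN).1⟩
  · refine mem_sup_right ⟨?_, mem_iInf.2 fun N => mem_iInf.2 fun hN => (hmem x hx N hN).2 y hy⟩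
    rw [commutatorElement_def]
    exact U.mul_mem (U.mul_mem (U.mul_mem hx hy) (U.inv_mem hx)) (U.inv_mem hy)
  · rw [hj, hU, ← pow_add]; congr 1; omega

theorem above_eq_of_el {H K U : Subgroup G} (hHK : H ≤ K) (h : ∀ M ∈ above p H U, K ≤ M) :
    above p H U = above p K U := by
  ext M
  exact ⟨fun hM => mem_above.2 ⟨h M hM, (mem_above.1 hM).2⟩,
    fun hM => mem_above.2 ⟨hHK.trans (mem_above.1 hM).1, (mem_above.1 hM).2⟩⟩

theorem card_above_cast {U : Subgroup G} {n k : ℕ} (hU : Nat.card U = p ^ n) {H : Subgroup G}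
    (hHU : H ≤ U) (hH : Nat.card H = p ^ k) (hk : k < n) :
    ((above p H U).card : ZMod p) = 1 := by
  obtain ⟨e, h, he, hM⟩ := exists_el hU hHU hH hk
  rw [above_eq_of_el le_sup_left hM, h.card_above, geom_cast he]

/-! ### Congruences for subgroups of a `p`-subgroup -/

theorem subs_self {U : Subgroup G} {n : ℕ} (hU : Nat.card U = p ^ n) : subs p n U = {U} := by
  ext H
  simp only [mem_subs, Finset.mem_singleton]
  refine ⟨fun h => eq_of_le_of_card_ge h.1 (by rw [h.2, hU]), ?_⟩
  rintro rfl; exact ⟨le_rfl, hU⟩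

theorem sum_subs_above {U : Subgroup G} (k : ℕ) :
    ∑ M ∈ above p ⊥ U, (subs p k M).card = ∑ H ∈ subs p k U, (above p H U).card := by
  have key := sum_card_bipartiteAbove_eq_sum_card_bipartiteBelow
    (s := subs p k U) (t := above p ⊥ U) (r := fun H M : Subgroup G => H ≤ M)
  rw [sum_congr rfl fun M hM => ?_, ← key]
  · refine sum_congr rfl fun H _ => ?_
    congr 1
    ext M
    simp only [mem_bipartiteAbove, mem_above]
    exact ⟨fun h => ⟨h.2, h.1.2⟩, fun h => ⟨⟨bot_le, h.2⟩, h.1⟩⟩
  · congr 1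
    ext H
    simp only [mem_bipartiteBelow, mem_subs]
    exact ⟨fun h => ⟨⟨h.1.trans (mem_above.1 hM).2.1, h.2⟩, h.1⟩, fun h => ⟨h.2, h.1.2⟩⟩

theorem card_subs_cast (n : ℕ) : ∀ (U : Subgroup G) (k : ℕ), Nat.card U = p ^ n → k ≤ n →
    ((subs p k U).card : ZMod p) = 1 := by
  induction n with
  | zero =>
    intro U k hU hk
    obtain rfl : k = 0 := by omega
    rw [subs_self hU]; simp
  | succ n ih =>
    intro U k hU hk
    by_cases hkn : k = n + 1
    · subst hkn; rw [subs_self hU]; simp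
    have key := congrArg (Nat.cast : ℕ → ZMod p) (sum_subs_above (p := p) (U := U) k)
    rw [Nat.cast_sum, Nat.cast_sum, sum_congr rfl (fun M hM => ih M k (card_of_above hU hM)
      (by omega)), sum_congr rfl (fun H hH => card_above_cast hU (mem_subs.1 hH).1
        (mem_subs.1 hH).2 (by omega)), sum_const, sum_const, nsmul_one, nsmul_one,
      card_above_cast hU bot_le (k := 0) (by simp) (by omega)] at key
    exact key.symm

/-- The congruence behind Hall's enumeration principle, modulo `p ^ 2`. -/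
theorem card_above_add (n : ℕ) {U H : Subgroup G} {k : ℕ} (hU : Nat.card U = p ^ n)
    (hHU : H ≤ U) (hH : Nat.card H = p ^ k) (hk : k < n) :
    ((above p H U).card : ZMod (p ^ 2)) =
      1 + p * (above (p * p) (H ⊔ frat p U) U).card := by
  obtain ⟨e, hel, he, hM⟩ := exists_el hU hHU hH hk
  rw [above_eq_of_el le_sup_left hM, hel.card_above]
  rcases Nat.lt_or_ge e 2 with h2 | h2
  · have he1 : e = 1 := by omega
    subst he1
    have : above (p * p) (H ⊔ frat p U) U = ∅ := by
      refine eq_empty_iff_forall_notMem.2 fun N hN => ?_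
      obtain ⟨h1, -, h3⟩ := mem_above.1 hN
      have h4 := Subgroup.card_le_of_le h1
      have h5 := hel.card_eq
      rw [pow_one] at h5
      have := hp.out.two_le
      have : 0 < Nat.card N := Nat.card_pos
      nlinarith [Nat.mul_le_mul_right p h4]
    simp [this, geom]
  · rw [geom_cast_sq h2, dvd_cast_mul (a := (above (p * p) (H ⊔ frat p U) U).card) (b := 1)
      (by rw [hel.card_above_sq h2, Nat.cast_one]), Nat.cast_one, mul_one]

/-- Two maximal subgroups at least, unless cyclic. -/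
theorem two_le_of_el {U : Subgroup G} {n e : ℕ} (hU : Nat.card U = p ^ n) (hn : 1 ≤ n)
    (hnc : ¬ IsCyclic U) (hel : El p e (⊥ ⊔ frat p U) U) (he : 1 ≤ e)
    (hM : ∀ M ∈ above p ⊥ U, ⊥ ⊔ frat p U ≤ M) : 2 ≤ e := by
  by_contra hlt
  obtain rfl : e = 1 := by omega
  have h1 : (above p ⊥ U).card = 1 := by
    rw [above_eq_of_el le_sup_left hM, hel.card_above]; simp [geom]
  obtain ⟨M, hMeq⟩ := card_eq_one.1 h1
  have hMm : M ∈ above p ⊥ U := hMeq ▸ Finset.mem_singleton_self M
  obtain ⟨-, hMU, hMc⟩ := mem_above.1 hMm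
  obtain ⟨x, hxU, hxM⟩ : ∃ x ∈ U, x ∉ M := by
    by_contra hall
    push Not at hall
    have h2 := Subgroup.card_le_of_le (show U ≤ M from hall)
    have := hp.out.two_le
    have : 0 < Nat.card M := Nat.card_pos
    nlinarith
  apply hnc
  suffices hz : zpowers x = U by
    rw [← hz]; infer_instance
  obtain ⟨j, hj⟩ := IsPGroup.iff_card.mp ((IsPGroup.of_card hU).to_le (zpowers_le.2 hxU))
  refine eq_of_le_of_card_ge (zpowers_le.2 hxU) ?_
  rw [hj, hU]
  refine Nat.pow_le_pow_right hp.out.pos ?_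
  by_contra hjn
  obtain ⟨M', hM'⟩ := exists_above hU (zpowers_le.2 hxU) hj (by omega)
  have hM'm : M' ∈ above p ⊥ U := mem_above.2 ⟨bot_le, (mem_above.1 hM').2⟩
  rw [hMeq, Finset.mem_singleton] at hM'm
  exact hxM (hM'm ▸ (mem_above.1 hM').1 (mem_zpowers x))

theorem card_above_bot {U : Subgroup G} {n : ℕ} (hU : Nat.card U = p ^ n) (hn : 1 ≤ n)
    (hnc : ¬ IsCyclic U) : ((above p ⊥ U).card : ZMod (p ^ 2)) = 1 + p := by
  obtain ⟨e, hel, he, hM⟩ := exists_el hU bot_le (k := 0) (by simp) hn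
  rw [above_eq_of_el le_sup_left hM, hel.card_above,
    geom_cast_sq (two_le_of_el hU hn hnc hel he hM)]

theorem subs_pred {U : Subgroup G} {n : ℕ} (hU : Nat.card U = p ^ (n + 1)) :
    subs p n U = above p ⊥ U := by
  ext H
  simp only [mem_subs, mem_above, bot_le, true_and, hU, pow_succ']
  exact and_congr_right fun _ =>
    ⟨fun h => by rw [h], fun h => Nat.eq_of_mul_eq_mul_left hp.out.pos h⟩

/-- The recursion for the number of subgroups modulo `p ^ 2`. -/
theorem card_subs_rec {U : Subgroup G} {n k : ℕ} (hU : Nat.card U = p ^ n) (hk : k + 2 ≤ n)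
    (hnc : ¬ IsCyclic U) :
    ((subs p k U).card : ZMod (p ^ 2)) + p = ∑ M ∈ above p ⊥ U, ((subs p k M).card : ZMod (p ^ 2)) := by
  rw [← Nat.cast_sum, sum_subs_above, Nat.cast_sum,
    sum_congr rfl (fun H hH => card_above_add n hU (mem_subs.1 hH).1 (mem_subs.1 hH).2 (by omega)),
    sum_add_distrib, sum_const, nsmul_one, ← mul_sum, ← Nat.cast_sum]
  congr 1
  have hdc : ∑ H ∈ subs p k U, (above (p * p) (H ⊔ frat p U) U).card =
      ∑ N ∈ above (p * p) (frat p U) U, (subs p k N).card := by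
    have key := sum_card_bipartiteAbove_eq_sum_card_bipartiteBelow
      (s := subs p k U) (t := above (p * p) (frat p U) U) (r := fun H N : Subgroup G => H ≤ N)
    refine Eq.trans ?_ (key.trans ?_)
    · refine sum_congr rfl fun H _ => ?_
      congr 1
      ext N
      simp only [mem_bipartiteAbove, mem_above, sup_le_iff]
      exact ⟨fun h => ⟨⟨h.1.2, h.2⟩, h.1.1⟩, fun h => ⟨⟨h.2, h.1.1⟩, h.1.2⟩⟩
    · refine sum_congr rfl fun N hN => ?_
      congr 1
      ext H
      simp only [mem_bipartiteBelow, mem_subs]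
      exact ⟨fun h => ⟨h.2, h.1.2⟩, fun h => ⟨⟨h.1.trans (mem_above.1 hN).2.1, h.2⟩, h.1⟩⟩
  obtain ⟨e, hel, he, hM⟩ := exists_el hU bot_le (k := 0) (by simp) (by omega)
  have he2 := two_le_of_el hU (by omega) hnc hel he hM
  rw [bot_sup_eq] at hel
  obtain ⟨m, rfl⟩ : ∃ m, n = m + 2 := ⟨n - 2, by omega⟩
  rw [hdc, dvd_cast_mul (b := 1) ?_, Nat.cast_one, mul_one]
  rw [Nat.cast_sum, sum_congr rfl (fun N hN => card_subs_cast m N k ?_ (by omega)), sum_const,
    nsmul_one, hel.card_above_sq he2, Nat.cast_one]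
  refine Nat.eq_of_mul_eq_mul_left (Nat.mul_pos hp.out.pos hp.out.pos) ?_
  rw [(mem_above.1 hN).2.2, hU]; ring

theorem card_subs_cyclic {U : Subgroup G} {n k : ℕ} (hU : Nat.card U = p ^ n) (hk : k ≤ n)
    (hc : IsCyclic U) : (subs p k U).card = 1 := by
  haveI := Fintype.ofFinite ↥U
  obtain ⟨K, hK⟩ := Sylow.exists_subgroup_card_pow_prime (G := ↥U) p (n := k)
    (hU ▸ pow_dvd_pow p hk)
  refine card_eq_one.2 ⟨K.map U.subtype, ?_⟩
  ext H
  simp only [mem_subs, Finset.mem_singleton]
  constructor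
  · rintro ⟨hHU, hH⟩
    have key : ∀ L : Subgroup ↥U, Nat.card L = p ^ k →
        (univ.filter fun x : ↥U => x ∈ L) = univ.filter fun x : ↥U => x ^ (p ^ k) = 1 := by
      intro L hL
      refine eq_of_subset_of_card_le (fun x hx => ?_) ?_
      · simp only [mem_filter, Finset.mem_univ, true_and] at hx ⊢
        rw [← hL]
        exact congrArg Subtype.val (pow_card_eq_one' (x := (⟨x, hx⟩ : L)))
      · refine (IsCyclic.card_pow_eq_one_le (pow_pos hp.out.pos k)).trans (le_of_eq ?_)
        rw [← hL, Nat.card_eq_fintype_card, ← Fintype.card_subtype]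
    have h2 : Nat.card (H.subgroupOf U) = p ^ k := by
      rw [Nat.card_congr (subgroupOfEquivOfLe hHU).toEquiv, hH]
    have h3 : H.subgroupOf U = K := by
      ext x
      have := Finset.ext_iff.1 ((key _ h2).trans (key _ hK).symm) x
      simpa using this
    rw [← h3, subgroupOf_map_subtype, inf_of_le_left hHU]
  · rintro rfl
    exact ⟨map_subtype_le _, by rw [card_map_of_injective U.subtype_injective, hK]⟩

/-- For odd `p`, the noncyclic maximal subgroups of a noncyclic group of order at least `p ^ 3`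
number `1` modulo `p`. -/
theorem card_noncyclic_above (hp2 : p ≠ 2) {U : Subgroup G} {n : ℕ} (hU : Nat.card U = p ^ n)
    (hn : 3 ≤ n) (hnc : ¬ IsCyclic U) :
    (((above p ⊥ U).filter fun M : Subgroup G => ¬ IsCyclic M).card : ZMod p) = 1 := by
  have hUp : IsPGroup p U := IsPGroup.of_card hU
  by_cases hex : ∃ M ∈ above p ⊥ U, IsCyclic (M : Subgroup G)
  · obtain ⟨C, hC, hCc⟩ := hex
    obtain ⟨-, hCU, hCcard⟩ := mem_above.1 hC
    have hCi : (C.subgroupOf U).index = p := by
      have h1 := (C.subgroupOf U).index_mul_card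
      rw [Nat.card_congr (subgroupOfEquivOfLe hCU).toEquiv] at h1
      rw [← hCcard] at h1
      exact Nat.eq_of_mul_eq_mul_right Nat.card_pos h1
    have hCc' : IsCyclic (C.subgroupOf U) := (subgroupOfEquivOfLe hCU).isCyclic.2 hCc
    obtain ⟨h1, h2, h3⟩ := Cfsg.Agent.PGroup.omega_of_cyclic_maximal hUp hp2 hnc hCc' hCi
    set W := (closure {x : ↥U | x ^ p = 1}).map U.subtype with hW
    have hWc : Nat.card W = p ^ 2 := by
      rw [hW, card_map_of_injective U.subtype_injective, h3]
    have hWU : W ≤ U := map_subtype_le _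
    suffices heq : ((above p ⊥ U).filter fun M : Subgroup G => ¬ IsCyclic M) = above p W U by
      rw [heq, card_above_cast hU hWU hWc (by omega)]
    ext M
    simp only [mem_filter, mem_above, bot_le, true_and]
    constructor
    · rintro ⟨⟨hMU, hMc⟩, hMn⟩
      refine ⟨?_, hMU, hMc⟩
      obtain ⟨B, -, -, hBp, hBc⟩ := Cfsg.Agent.PGroup.exists_normal_elementary_sq
        (hUp.to_le hMU) hp2 hMn
      have hle : B.map M.subtype ≤ W := by
        rintro _ ⟨b, hb, rfl⟩
        refine ⟨⟨b, hMU b.2⟩, subset_closure ?_, rfl⟩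
        exact Subtype.ext (congrArg Subtype.val (hBp b hb) : _)
      rw [← eq_of_le_of_card_ge hle
        (by rw [hWc, card_map_of_injective M.subtype_injective, hBc])]
      exact map_subtype_le _
    · rintro ⟨hWM, hMU, hMc⟩
      refine ⟨⟨hMU, hMc⟩, fun hcyc => ?_⟩
      haveI : IsCyclic W := Subgroup.isCyclic_of_le hWM
      obtain ⟨w, hw⟩ := IsCyclic.exists_generator (α := W)
      have hwp : w ^ p = 1 := by
        obtain ⟨x, hx, hxw⟩ := w.2
        refine Subtype.ext ?_
        rw [SubmonoidClass.coe_pow, ← hxw, ← map_pow, h1 x hx, map_one]; rfl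
      have := orderOf_eq_card_of_forall_mem_zpowers hw
      have h5 := Nat.le_of_dvd hp.out.pos (orderOf_dvd_of_pow_eq_one hwp)
      rw [this, hWc] at h5
      nlinarith [hp.out.two_le]
  · push Not at hex
    rw [filter_true_of_mem (by simpa using hex), card_above_cast hU bot_le (k := 0) (by simp) (by omega)]

/-- **Kulakoff's theorem**. -/
theorem kulakoff (hp2 : p ≠ 2) (n : ℕ) : ∀ (U : Subgroup G) (k : ℕ), Nat.card U = p ^ n →
    1 ≤ k → k < n → ¬ IsCyclic U → ((subs p k U).card : ZMod (p ^ 2)) = 1 + p := by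
  induction n with
  | zero => intro U k _ _ h; omega
  | succ n ih =>
    intro U k hU hk hkn hnc
    by_cases hkn' : k = n
    · subst hkn'
      rw [subs_pred hU, card_above_bot hU (by omega) hnc]
    have hterm : ∀ M ∈ above p ⊥ U, ((subs p k M).card : ZMod (p ^ 2)) =
        1 + if ¬ IsCyclic M then (p : ZMod (p ^ 2)) else 0 := by
      intro M hM
      by_cases hc : IsCyclic M
      · rw [card_subs_cyclic (card_of_above hU hM) (by omega) hc]; simp [hc]
      · rw [ih M k (card_of_above hU hM) hk (by omega) hc]; simp [hc]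
    have key := card_subs_rec (k := k) hU (by omega) hnc
    rw [sum_congr rfl hterm, sum_add_distrib, sum_const, nsmul_one,
      card_above_bot hU (by omega) hnc, ← sum_filter, sum_const, nsmul_eq_mul] at key
    rw [mul_comm, dvd_cast_mul (b := 1) (by rw [card_noncyclic_above hp2 hU (by omega) hnc,
      Nat.cast_one]), Nat.cast_one, mul_one] at key
    exact add_right_cancel key

/-! ### Subgroups of prime power order of an arbitrary group -/

theorem mem_normalizer_of_map {g : G} {H : Subgroup G}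
    (h : H.map (MulAut.conj g).toMonoidHom = H) : g ∈ normalizer (H : Set G) := by
  rw [mem_normalizer_iff]
  intro y
  constructor
  · intro hy; rw [← h]; exact ⟨y, hy, rfl⟩
  · intro hy
    rw [← h] at hy
    obtain ⟨z, hz, he⟩ := hy
    exact (MulAut.conj g).injective he ▸ hz

theorem map_of_mem_normalizer {g : G} {H : Subgroup G} (h : g ∈ normalizer (H : Set G)) :
    H.map (MulAut.conj g).toMonoidHom = H := by
  refine eq_of_le_of_card_ge ?_ (card_map_of_injective (MulAut.conj g).injective).ge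
  rintro _ ⟨x, hx, rfl⟩
  exact (mem_normalizer_iff.1 h x).1 hx

theorem map_map_conj (a b : G) (H : Subgroup G) :
    (H.map (MulAut.conj b).toMonoidHom).map (MulAut.conj a).toMonoidHom =
      H.map (MulAut.conj (a * b)).toMonoidHom := by
  rw [Subgroup.map_map]; congr 1; ext x; simp

theorem map_conj_one (H : Subgroup G) : H.map (MulAut.conj (1 : G)).toMonoidHom = H :=
  map_of_mem_normalizer (one_mem _)

/-- Fixed point congruence for conjugation of subgroups by a `p`-subgroup. -/
theorem card_modEq_fixed {U : Subgroup G} (hU : IsPGroup p U) (F : Finset (Subgroup G))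
    (hF : ∀ H ∈ F, ∀ u ∈ U, H.map (MulAut.conj u).toMonoidHom ∈ F) :
    (F.card : ZMod p) = (F.filter fun H : Subgroup G => U ≤ normalizer (H : Set G)).card := by
  letI act : MulAction ↥U {H // H ∈ F} :=
    { smul := fun u H => ⟨(H : Subgroup G).map (MulAut.conj (u : G)).toMonoidHom, hF _ H.2 _ u.2⟩
      one_smul := fun H => Subtype.ext (map_conj_one _)
      mul_smul := fun u v H => Subtype.ext (map_map_conj _ _ _).symm }
  have h := hU.card_modEq_card_fixedPoints {H // H ∈ F}
  rw [← ZMod.natCast_eq_natCast_iff, Nat.card_eq_fintype_card, Fintype.card_coe] at h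
  rw [h]
  congr 1
  rw [← Fintype.card_coe, ← Nat.card_eq_fintype_card]
  refine Nat.card_congr
    { toFun := fun H => ⟨H.1.1, mem_filter.2 ⟨H.1.2, fun u hu =>
        mem_normalizer_of_map (congrArg Subtype.val (H.2 ⟨u, hu⟩))⟩⟩
      invFun := fun H => ⟨⟨H.1, (mem_filter.1 H.2).1⟩, fun u => Subtype.ext
        (map_of_mem_normalizer ((mem_filter.1 H.2).2 u.2))⟩
      left_inv := fun H => rfl
      right_inv := fun H => rfl }

/-- Subgroups of `U` of order `p ^ k` normalised by `M` but not contained in it. -/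
def outer (p k : ℕ) (M U : Subgroup G) : Finset (Subgroup G) :=
  (subs p k U).filter fun H : Subgroup G => M ≤ normalizer (H : Set G) ∧ ¬ H ≤ M

theorem card_outer {U M : Subgroup G} {n k : ℕ} (hU : Nat.card U = p ^ n)
    (hM : M ∈ above p ⊥ U) (hk : k < n) : ((outer p k M U).card : ZMod p) = 0 := by
  obtain ⟨m, rfl⟩ : ∃ m, n = m + 1 := ⟨n - 1, by omega⟩
  have hUp : IsPGroup p U := IsPGroup.of_card hU
  obtain ⟨-, hMU, hMc⟩ := mem_above.1 hM
  have hMn : ∀ u ∈ U, M.map (MulAut.conj u).toMonoidHom = M := by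
    have hi : (M.subgroupOf U).index = p := by
      have h1 := (M.subgroupOf U).index_mul_card
      rw [Nat.card_congr (subgroupOfEquivOfLe hMU).toEquiv] at h1
      rw [← hMc] at h1
      exact Nat.eq_of_mul_eq_mul_right Nat.card_pos h1
    haveI hn' : (M.subgroupOf U).Normal := Cfsg.Agent.PGroup.normal_of_index_eq_prime hUp hi
    intro u hu
    refine eq_of_le_of_card_ge ?_ (card_map_of_injective (MulAut.conj u).injective).ge
    rintro _ ⟨x, hx, rfl⟩
    exact hn'.conj_mem ⟨x, hMU hx⟩ hx ⟨u, hu⟩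
  have hclosed : ∀ (V : Subgroup G), (∀ u ∈ U, V.map (MulAut.conj u).toMonoidHom = V) →
      ∀ H ∈ subs p k V, ∀ u ∈ U, H.map (MulAut.conj u).toMonoidHom ∈ subs p k V := by
    intro V hV H hH u hu
    refine mem_subs.2 ⟨(hV u hu) ▸ map_mono (mem_subs.1 hH).1, ?_⟩
    rw [card_map_of_injective (MulAut.conj u).injective, (mem_subs.1 hH).2]
  have hUU : ∀ u ∈ U, U.map (MulAut.conj u).toMonoidHom = U := fun u hu =>
    map_of_mem_normalizer (le_normalizer hu)
  have h1 := card_modEq_fixed hUp _ (hclosed U hUU)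
  have h2 := card_modEq_fixed hUp _ (hclosed M hMn)
  rw [card_subs_cast _ U k hU (by omega)] at h1
  rw [card_subs_cast _ M k (card_of_above hU hM) (by omega)] at h2
  have h3 := card_modEq_fixed hUp (outer p k M U) (fun H hH u hu => by
    obtain ⟨hH1, hH2, hH3⟩ := mem_filter.1 hH
    refine mem_filter.2 ⟨hclosed U hUU H hH1 u hu, ?_, fun hle => hH3 ?_⟩
    · rw [← hMn u hu]
      exact (map_mono hH2).trans (le_normalizer_map _)
    · rw [← hMn u hu] at hle
      exact (map_le_map_iff_of_injective (MulAut.conj u).injective).1 hle)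
  rw [h3]
  have hsplit : ((subs p k U).filter fun H : Subgroup G => U ≤ normalizer (H : Set G)).card =
      ((outer p k M U).filter fun H : Subgroup G => U ≤ normalizer (H : Set G)).card +
      ((subs p k M).filter fun H : Subgroup G => U ≤ normalizer (H : Set G)).card := by
    rw [← card_union_of_disjoint]
    · congr 1
      ext H
      simp only [outer, mem_union, mem_filter, mem_subs]
      constructor
      · rintro ⟨⟨a, b⟩, c⟩
        by_cases hle : H ≤ M
        · exact Or.inr ⟨⟨hle, b⟩, c⟩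
        · exact Or.inl ⟨⟨⟨a, b⟩, hMU.trans c, hle⟩, c⟩
      · rintro (⟨⟨h, -⟩, c⟩ | ⟨⟨a, b⟩, c⟩)
        · exact ⟨h, c⟩
        · exact ⟨⟨a.trans hMU, b⟩, c⟩
    · rw [Finset.disjoint_left]
      intro H ha hb
      simp only [outer, mem_filter, mem_subs] at ha hb
      exact ha.1.2.2 hb.1.1
  rw [hsplit, Nat.cast_add, ← h2] at h1
  exact right_eq_add.1 h1 |>.trans rfl

variable (p) in
/-- Subgroups of order `p ^ k`. -/
def all (k : ℕ) : Finset (Subgroup G) := univ.filter fun H : Subgroup G => Nat.card H = p ^ k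

/-- The number of subgroups of order `p ^ k` agrees modulo `p ^ 2` with that of a Sylow
subgroup. -/
theorem card_all_eq (P : Sylow p G) {n k : ℕ} (hn : Nat.card (P : Subgroup G) = p ^ n)
    (hk : k < n) :
    ((all (G := G) p k).card : ZMod (p ^ 2)) = (subs p k (P : Subgroup G)).card := by
  set U : Subgroup G := (P : Subgroup G) with hUdef
  have hUp : IsPGroup p U := P.isPGroup'
  have hmaxP : ∀ R : Subgroup G, IsPGroup p R → U ≤ R → R = U := fun R hR h => P.is_maximal' hR h
  set T := (all (G := G) p k).filter fun H : Subgroup G => ¬ H ≤ U with hT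
  suffices hT0 : (T.card : ZMod (p ^ 2)) = 0 by
    have h1 : (all (G := G) p k).card = (subs p k U).card + T.card := by
      rw [← card_filter_add_card_filter_not (fun H : Subgroup G => H ≤ U)]
      congr 2
      ext H; simp [all, mem_subs, and_comm]
    rw [h1, Nat.cast_add, hT0, add_zero]
  -- the stabilisers
  let St : Subgroup G → Subgroup G := fun H => U ⊓ normalizer (H : Set G)
  have hfilter : ∀ H ∈ T, Nat.card H = p ^ k ∧ ¬ H ≤ U := fun H hH => by
    simpa [hT, all] using hH
  have hStU : ∀ H ∈ T, St H ≠ U := by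
    intro H hH heq
    obtain ⟨hHc, hHU⟩ := hfilter H hH
    have hUN : U ≤ normalizer (H : Set G) := inf_eq_left.1 heq
    refine hHU ?_
    rw [← hmaxP (U ⊔ H) (hUp.to_sup_of_normal_right' (IsPGroup.of_card hHc) hUN) le_sup_left]
    exact le_sup_right
  set T1 := T.filter fun H : Subgroup G => p * Nat.card (St H) = Nat.card U with hT1
  set T2 := T.filter fun H : Subgroup G => ¬ p * Nat.card (St H) = Nat.card U with hT2
  rw [← card_filter_add_card_filter_not (s := T) (fun H : Subgroup G => p * Nat.card (St H) = Nat.card U),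
    ← hT1, ← hT2, Nat.cast_add]
  have hinv : ∀ H ∈ T, ∀ u ∈ U, H.map (MulAut.conj u).toMonoidHom ∈ T := by
    intro H hH u hu
    obtain ⟨hHc, hHU⟩ := hfilter H hH
    simp only [hT, all, mem_filter, Finset.mem_univ, true_and]
    refine ⟨by rw [card_map_of_injective (MulAut.conj u).injective, hHc], fun hle => hHU ?_⟩
    rw [← map_of_mem_normalizer (le_normalizer hu : u ∈ normalizer (U : Set G))] at hle
    exact (map_le_map_iff_of_injective (MulAut.conj u).injective).1 hle
  have hStconj : ∀ (H : Subgroup G), ∀ u ∈ U,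
      Nat.card (St (H.map (MulAut.conj u).toMonoidHom)) = Nat.card (St H) := by
    intro H u hu
    have : St (H.map (MulAut.conj u).toMonoidHom) = (St H).map (MulAut.conj u).toMonoidHom := by
      simp only [St]
      rw [Subgroup.map_inf _ _ _ (MulAut.conj u).injective,
        map_of_mem_normalizer (le_normalizer hu : u ∈ normalizer (U : Set G)),
        map_equiv_normalizer_eq]
    rw [this, card_map_of_injective (MulAut.conj u).injective]
  have hA : (T2.card : ZMod (p ^ 2)) = 0 := by
    have hinv2 : ∀ H ∈ T2, ∀ u ∈ U, H.map (MulAut.conj u).toMonoidHom ∈ T2 := by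
      intro H hH u hu
      rw [hT2, mem_filter] at hH ⊢
      exact ⟨hinv H hH.1 u hu, by rw [hStconj H u hu]; exact hH.2⟩
    letI act : MulAction ↥U {H // H ∈ T2} :=
      { smul := fun u H => ⟨(H : Subgroup G).map (MulAut.conj (u : G)).toMonoidHom, hinv2 _ H.2 _ u.2⟩
        one_smul := fun H => Subtype.ext (map_conj_one _)
        mul_smul := fun u v H => Subtype.ext (map_map_conj _ _ _).symm }
    rw [ZMod.natCast_eq_zero_iff, ← Fintype.card_coe, ← Nat.card_eq_fintype_card,
      Nat.card_congr (MulAction.selfEquivSigmaOrbits ↥U {H // H ∈ T2}), Nat.card_sigma]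
    refine dvd_sum fun o _ => ?_
    set H := o.out with hH
    have hstab : MulAction.stabilizer ↥U H = (St (H : Subgroup G)).subgroupOf U := by
      ext u
      rw [MulAction.mem_stabilizer_iff, mem_subgroupOf]
      exact ⟨fun h => ⟨u.2, mem_normalizer_of_map (congrArg Subtype.val h)⟩,
        fun h => Subtype.ext (map_of_mem_normalizer h.2)⟩
    rw [Nat.card_congr (MulAction.orbitEquivQuotientStabilizer ↥U H), ← Subgroup.index, hstab]
    obtain ⟨j, hj⟩ := hUp.index ((St (H : Subgroup G)).subgroupOf U)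
    have hj2 : 2 ≤ j := by
      have hmem := mem_filter.1 H.2
      have h1 := ((St (H : Subgroup G)).subgroupOf U).index_mul_card
      rw [Nat.card_congr (subgroupOfEquivOfLe (inf_le_left : St (H : Subgroup G) ≤ U)).toEquiv,
        hj] at h1
      by_contra hlt
      rcases Nat.le_one_iff_eq_zero_or_eq_one.1 (by omega : j ≤ 1) with rfl | rfl
      · rw [pow_zero, one_mul] at h1
        exact hStU _ hmem.1 (eq_of_le_of_card_ge inf_le_left h1.ge)
      · exact hmem.2 (by rw [← h1, pow_one])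
    rw [hj]
    exact pow_dvd_pow p hj2
  rw [hA, add_zero]
  -- orbits of length `p`
  have hmaps : ∀ H ∈ T1, St H ∈ above p ⊥ U := fun H hH =>
    mem_above.2 ⟨bot_le, inf_le_left, (mem_filter.1 hH).2⟩
  rw [card_eq_sum_card_fiberwise hmaps, Nat.cast_sum]
  refine sum_eq_zero fun M hM => ?_
  obtain ⟨-, hMU, hMc⟩ := mem_above.1 hM
  obtain ⟨m, rfl⟩ : ∃ m, n = m + 1 := ⟨n - 1, by omega⟩
  -- the other Sylow subgroups through `M`
  set Qs := (univ.filter fun Q : Subgroup G => M ≤ Q ∧ Nat.card Q = Nat.card U ∧ Q ≠ U) with hQs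
  have hQp : ∀ Q ∈ Qs, IsPGroup p Q := fun Q hQ => by
    have := (mem_filter.1 hQ).2.2.1
    exact IsPGroup.of_card (this.trans hn)
  have hQMn : ∀ Q : Subgroup G, M ≤ Q → Nat.card Q = Nat.card U → Q ≤ normalizer (M : Set G) := by
    intro Q hMQ hQc q hq
    have hQp : IsPGroup p Q := IsPGroup.of_card (hQc.trans hn)
    have hi : (M.subgroupOf Q).index = p := by
      have h1 := (M.subgroupOf Q).index_mul_card
      rw [Nat.card_congr (subgroupOfEquivOfLe hMQ).toEquiv, hQc] at h1
      rw [← hMc] at h1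
      exact Nat.eq_of_mul_eq_mul_right Nat.card_pos h1
    haveI hn' : (M.subgroupOf Q).Normal := Cfsg.Agent.PGroup.normal_of_index_eq_prime hQp hi
    refine mem_normalizer_of_map (eq_of_le_of_card_ge ?_ (card_map_of_injective (MulAut.conj q).injective).ge)
    rintro _ ⟨x, hx, rfl⟩
    exact hn'.conj_mem ⟨x, hMQ hx⟩ hx ⟨q, hq⟩
  have hQclosed : ∀ Q ∈ Qs, ∀ u ∈ U, Q.map (MulAut.conj u).toMonoidHom ∈ Qs := by
    intro Q hQ u hu
    simp only [hQs, mem_filter, Finset.mem_univ, true_and] at hQ ⊢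
    refine ⟨?_, by rw [card_map_of_injective (MulAut.conj u).injective, hQ.2.1], fun he => hQ.2.2 ?_⟩
    · rw [← map_of_mem_normalizer (hQMn U hMU rfl hu)]
      exact map_mono hQ.1
    · rw [← map_of_mem_normalizer (le_normalizer hu : u ∈ normalizer (U : Set G))] at he
      exact map_injective (MulAut.conj u).injective he
  have hQs0 : (Qs.card : ZMod p) = 0 := by
    rw [card_modEq_fixed hUp Qs hQclosed, filter_false_of_mem, card_empty, Nat.cast_zero]
    intro Q hQ hle
    obtain ⟨-, hQc, hne⟩ := (mem_filter.1 hQ).2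
    refine hne (eq_of_le_of_card_ge ?_ hQc.ge)
    rw [← hmaxP (U ⊔ Q) (hUp.to_sup_of_normal_right' (hQp Q hQ) hle) le_sup_left]
    exact le_sup_right
  -- the fibre over `M` decomposes along `Qs`
  have hfib : (T1.filter fun H => St H = M).card = ∑ Q ∈ Qs, (outer p k M Q).card := by
    rw [card_eq_sum_card_fiberwise (f := fun H => M ⊔ H) (t := Qs)]
    · refine sum_congr rfl fun Q hQ => ?_
      obtain ⟨hMQ, hQc, hne⟩ := (mem_filter.1 hQ).2
      congr 1
      ext H
      simp only [mem_filter, hT1, hT, all, outer, mem_subs, Finset.mem_univ, true_and]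
      constructor
      · rintro ⟨⟨⟨⟨hHc, hHU⟩, -⟩, hst⟩, rfl⟩
        exact ⟨⟨le_sup_right, hHc⟩, hst ▸ inf_le_right, fun h => hHU (h.trans hMU)⟩
      · rintro ⟨⟨hHQ, hHc⟩, hMN, hHM⟩
        have hMH : M ⊔ H = Q := by
          obtain ⟨j, hj⟩ := IsPGroup.iff_card.mp ((hQp Q hQ).to_le (sup_le hMQ hHQ))
          refine eq_of_le_of_card_ge (sup_le hMQ hHQ) ?_
          rw [hQc, hn, hj]
          refine Nat.pow_le_pow_right hp.out.pos ?_
          by_contra hlt
          refine hHM ?_
          rw [eq_of_le_of_card_ge (le_sup_left : M ≤ M ⊔ H) ?_]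
          · exact le_sup_right
          · rw [hj, card_of_above hn hM]
            exact Nat.pow_le_pow_right hp.out.pos (by omega)
        have hHU : ¬ H ≤ U := fun h => hne (eq_of_le_of_card_ge (hMH ▸ sup_le hMU h) hQc.ge)
        have hst : St H = M := by
          have hne' : St H ≠ U := hStU H (by simp [hT, all, hHc, hHU])
          obtain ⟨j, hj⟩ := IsPGroup.iff_card.mp (hUp.to_le (inf_le_left : St H ≤ U))
          refine (eq_of_le_of_card_ge (le_inf hMU hMN) ?_).symm
          rw [hj, card_of_above hn hM]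
          refine Nat.pow_le_pow_right hp.out.pos ?_
          by_contra hlt
          refine hne' (eq_of_le_of_card_ge inf_le_left ?_)
          rw [hn, hj]
          exact Nat.pow_le_pow_right hp.out.pos (by omega)
        exact ⟨⟨⟨⟨hHc, hHU⟩, by rw [hst, hMc]⟩, hst⟩, hMH⟩
    · intro H hH
      simp only [coe_filter, Set.mem_ofPred_eq, hT1, hT, all, mem_filter, Finset.mem_univ,
        true_and] at hH
      obtain ⟨⟨⟨hHc, hHU⟩, -⟩, hst⟩ := hH
      simp only [hQs, coe_filter, Finset.mem_univ, true_and, Set.mem_ofPred_eq]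
      have hpg : IsPGroup p ↥(M ⊔ H) := (hUp.to_le hMU).to_sup_of_normal_right'
        (IsPGroup.of_card hHc) (hst ▸ inf_le_right)
      refine ⟨le_sup_left, ?_, fun he => hHU (he ▸ le_sup_right)⟩
      obtain ⟨j, hj⟩ := IsPGroup.iff_card.mp hpg
      obtain ⟨R, hR⟩ := hpg.exists_le_sylow
      have hle : j ≤ m + 1 := by
        have := Subgroup.card_le_of_le hR
        rw [hj, Sylow.card_eq_multiplicity R, ← Sylow.card_eq_multiplicity P] at this
        rw [show Nat.card (P : Subgroup G) = p ^ (m + 1) from hn] at this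
        exact (Nat.pow_le_pow_iff_right hp.out.one_lt).1 this
      have hge : m + 1 ≤ j := by
        by_contra hlt
        refine hHU (le_trans ?_ hMU)
        rw [eq_of_le_of_card_ge (le_sup_left : M ≤ M ⊔ H) ?_]
        · exact le_sup_right
        · rw [hj, card_of_above hn hM]
          exact Nat.pow_le_pow_right hp.out.pos (by omega)
      rw [hj, hn]; congr 1; omega
  rw [hfib]
  have hconst : ∀ Q ∈ Qs, (outer p k M Q).card = (outer p k M U).card := by
    intro Q hQ
    obtain ⟨hMQ, hQc, -⟩ := (mem_filter.1 hQ).2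
    set N := normalizer (M : Set G)
    obtain ⟨S, hS⟩ : ∃ S : Sylow p G, (S : Subgroup G) = Q :=
      ⟨Sylow.ofCard Q (by rw [hQc, hUdef, Sylow.card_eq_multiplicity P]), Sylow.coe_ofCard _ _⟩
    obtain ⟨g, hg⟩ := MulAction.exists_smul_eq ↥N (P.subtype (hQMn U hMU rfl))
      (S.subtype (hS.symm ▸ hQMn Q hMQ hQc))
    rw [Sylow.smul_subtype] at hg
    have hgQ : U.map (MulAut.conj (g : G)).toMonoidHom = Q := by
      rw [← hS, ← Sylow.subtype_injective hg]; rfl
    have hgM : M.map (MulAut.conj (g : G)).toMonoidHom = M := map_of_mem_normalizer g.2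
    refine (card_bij (fun H _ => H.map (MulAut.conj (g : G)).toMonoidHom) ?_ ?_ ?_).symm
    · intro H hH
      simp only [outer, mem_filter, mem_subs] at hH ⊢
      refine ⟨⟨hgQ ▸ map_mono hH.1.1, by rw [card_map_of_injective (MulAut.conj (g : G)).injective, hH.1.2]⟩, ?_,
        fun hle => hH.2.2 ?_⟩
      · rw [← hgM]; exact (map_mono hH.2.1).trans (le_normalizer_map _)
      · rw [← hgM] at hle
        exact (map_le_map_iff_of_injective (MulAut.conj (g : G)).injective).1 hle
    · intro H _ H' _ he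
      exact map_injective (MulAut.conj (g : G)).injective he
    · intro H hH
      refine ⟨H.map (MulAut.conj (g : G)⁻¹).toMonoidHom, ?_, ?_⟩
      · simp only [outer, mem_filter, mem_subs] at hH ⊢
        have hgM' : M.map (MulAut.conj (g : G)⁻¹).toMonoidHom = M :=
          map_of_mem_normalizer (inv_mem g.2)
        have hgU : Q.map (MulAut.conj (g : G)⁻¹).toMonoidHom = U := by
          rw [← hgQ, map_map_conj, inv_mul_cancel, map_conj_one]
        refine ⟨⟨hgU ▸ map_mono hH.1.1, by rw [card_map_of_injective (MulAut.conj (g : G)⁻¹).injective, hH.1.2]⟩, ?_,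
          fun hle => hH.2.2 ?_⟩
        · rw [← hgM']; exact (map_mono hH.2.1).trans (le_normalizer_map _)
        · rw [← hgM'] at hle
          exact (map_le_map_iff_of_injective (MulAut.conj (g : G)⁻¹).injective).1 hle
      · rw [map_map_conj, mul_inv_cancel, map_conj_one]
  rw [sum_congr rfl hconst, sum_const, smul_eq_mul, Nat.cast_mul]
  obtain ⟨a, ha⟩ := (ZMod.natCast_eq_zero_iff _ _).1 hQs0
  obtain ⟨b, hb⟩ := (ZMod.natCast_eq_zero_iff _ _).1 (card_outer hn hM hk)
  rw [← Nat.cast_mul, ZMod.natCast_eq_zero_iff, ha, hb, pow_two]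
  exact mul_dvd_mul (dvd_mul_right p a) (dvd_mul_right p b)

end

end Cfsg.Agent.FGS80.Kulakoff
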