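import Cfsg.Agent.FGS80.Kulakoff
import Cfsg.Agent.FGS82.MaximalClass
import Mathlib

/-!
# Counting subgroups of `2`-groups modulo `4`
-/

set_option autoImplicit false
set_option linter.unusedSectionVars false
set_option linter.style.haveILetI false

namespace Cfsg.Agent.FGS80.Kulakoff

open Subgroup Finset
open scoped commutatorElement Classical

noncomputable section

variable {G : Type*} [Group G] [Finite G]

local instance : Fact (Nat.Prime 2) := ⟨Nat.prime_two⟩
local instance : Fintype (Subgroup G) := Fintype.ofFinite _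

/-- `|U : U'| = 4` and `|U| ≥ 8`. -/
def IsMC (U : Subgroup G) : Prop := 8 ≤ Nat.card U ∧ 4 * Nat.card (⁅U, U⁆ : Subgroup G) = Nat.card U

theorem commutator_le_self (U : Subgroup G) : ⁅U, U⁆ ≤ U := by
  rw [commutator_le]
  intro x hx y hy
  rw [commutatorElement_def]
  exact U.mul_mem (U.mul_mem (U.mul_mem hx hy) (U.inv_mem hx)) (U.inv_mem hy)

theorem map_commutator_subtype (U : Subgroup G) :
    (commutator ↥U).map U.subtype = ⁅U, U⁆ := by
  rw [_root_.commutator_def, map_commutator, ← MonoidHom.range_eq_map, range_subtype]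

theorem card_commutator_subtype (U : Subgroup G) :
    Nat.card (commutator ↥U) = Nat.card (⁅U, U⁆ : Subgroup G) := by
  rw [← map_commutator_subtype, card_map_of_injective U.subtype_injective]

theorem isMC_iff_index {U : Subgroup G} :
    IsMC U ↔ 8 ≤ Nat.card U ∧ (commutator ↥U).index = 4 := by
  refine and_congr_right fun _ => ?_
  have h := (commutator ↥U).card_mul_index
  rw [card_commutator_subtype] at h
  constructor
  · intro h'
    rw [← h', mul_comm 4] at h
    exact Nat.eq_of_mul_eq_mul_left Nat.card_pos h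
  · intro h'
    rw [h'] at h
    omega

theorem isMC_of_mc {U : Subgroup G} (h : FGS82.MC ↥U) : IsMC U := by
  refine isMC_iff_index.2 ⟨?_, FGS82.MC.index_commutator h⟩
  obtain ⟨-, -, k, -, hk, -, hc, -⟩ := h
  rw [hc]
  calc 8 = 2 ^ 3 := rfl
    _ ≤ 2 ^ (k + 1) := Nat.pow_le_pow_right two_pos (by omega)

theorem not_isCyclic_of_isMC {U : Subgroup G} (h : IsMC U) : ¬ IsCyclic U := fun hc => by
  have h0 : (⁅U, U⁆ : Subgroup G) = ⊥ := by
    rw [eq_bot_iff, commutator_le]
    intro x hx y hy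
    rw [Subgroup.mem_bot, commutatorElement_eq_one_iff_commute]
    letI := IsCyclic.commGroup (α := ↥U)
    exact congrArg Subtype.val (mul_comm (⟨x, hx⟩ : U) ⟨y, hy⟩)
  have h1 := h.2
  rw [h0, card_bot] at h1
  have := h.1
  omega

theorem mem_of_index_two {U M : Subgroup G} (hM : M ∈ above 2 ⊥ U) {x y : G} (hx : x ∈ U)
    (hy : y ∈ U) : (x * y ∈ M ↔ (x ∈ M ↔ y ∈ M)) := by
  obtain ⟨-, hMU, hc⟩ := mem_above.1 hM
  have hi : (M.subgroupOf U).index = 2 := by
    have h1 := (M.subgroupOf U).index_mul_card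
    rw [Nat.card_congr (subgroupOfEquivOfLe hMU).toEquiv] at h1
    rw [← hc] at h1
    exact Nat.eq_of_mul_eq_mul_right Nat.card_pos h1
  exact mul_mem_iff_of_index_two (a := (⟨x, hx⟩ : U)) (b := ⟨y, hy⟩) hi

/-- A cyclic maximal subgroup together with the action of an outside element. -/
structure Shape (U : Subgroup G) (a b : G) (k : ℕ) (j t : ℤ) : Prop where
  two_le : 2 ≤ k
  a_mem : a ∈ U
  b_mem : b ∈ U
  order : orderOf a = 2 ^ k
  card_eq : Nat.card U = 2 ^ (k + 1)
  not_mem : b ∉ zpowers a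
  conj : b * a * b⁻¹ = a ^ j
  sq : b * b = a ^ t
  odd : j % 2 = 1
  even : t % 2 = 0

namespace Shape

variable {U : Subgroup G} {a b : G} {k : ℕ} {j t : ℤ}

theorem zpowers_mem (h : Shape U a b k j t) : zpowers a ∈ above 2 ⊥ U :=
  mem_above.2 ⟨bot_le, zpowers_le.2 h.a_mem,
    by rw [Nat.card_zpowers, h.order, h.card_eq, pow_succ, mul_comm]⟩

theorem not_cyclic (h : Shape U a b k j t) : ¬ IsCyclic U := fun hc => by
  obtain ⟨⟨w, hwU⟩, hw⟩ := hc.exists_generator
  have hwo : orderOf w = 2 ^ (k + 1) := by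
    rw [← h.card_eq, ← Subgroup.orderOf_mk w hwU]
    exact orderOf_eq_card_of_forall_mem_zpowers hw
  obtain ⟨i, hi⟩ := mem_zpowers_iff.1 (hw ⟨b, h.b_mem⟩)
  obtain ⟨l, hl⟩ := mem_zpowers_iff.1 (hw ⟨a, h.a_mem⟩)
  have hi' : w ^ i = b := congrArg Subtype.val hi
  have hl' : w ^ l = a := congrArg Subtype.val hl
  have hwa : w ∉ zpowers a := fun hm => h.not_mem (hi' ▸ zpow_mem hm i)
  -- `a` lies in the group of squares, and `b` outside it
  have hli : ∀ r : ℤ, r % 2 = 0 → w ^ r ∈ zpowers a := by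
    intro r hr
    obtain ⟨s, rfl⟩ : (2 : ℤ) ∣ r := by omega
    rw [zpow_mul, zpow_two]
    exact zpow_mem ((mem_of_index_two h.zpowers_mem hwU hwU).2 Iff.rfl) s
  have hiodd : i % 2 = 1 := by
    by_contra hev
    exact h.not_mem (hi' ▸ hli i (by omega))
  have hd : ((2 ^ (k + 1) : ℕ) : ℤ) ∣ 2 * i - t * l := by
    rw [← hwo, orderOf_dvd_iff_zpow_eq_one, zpow_sub, two_mul, zpow_add, hi', h.sq,
      mul_comm t l, zpow_mul, hl', mul_inv_cancel]
  have h4 : (4 : ℤ) ∣ 2 * i - t * l := dvd_trans (by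
    have := h.two_le
    exact_mod_cast (show 2 ^ 2 ∣ 2 ^ (k + 1) from pow_dvd_pow 2 (by omega))) hd
  obtain ⟨s, hs⟩ : (2 : ℤ) ∣ t := by have := h.even; omega
  have hlev : l % 2 = 0 := by
    by_contra hodd
    refine hwa ?_
    -- an odd power of `w` in `zpowers a` puts `w` there
    have e : w = w ^ l * (w ^ (l - 1))⁻¹ := by
      rw [← zpow_neg, ← zpow_add, show l + -(l - 1) = 1 by ring, zpow_one]
    rw [e, hl']
    exact mul_mem (mem_zpowers a) (inv_mem (hli (l - 1) (by omega)))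
  obtain ⟨r, hr⟩ : (2 : ℤ) ∣ l := by omega
  obtain ⟨q, hq⟩ := h4
  subst hs hr
  have : 2 * i = 4 * (q + s * r) := by linarith
  omega

theorem sq_mem (h : Shape U a b k j t) {M : Subgroup G} (hM : M ∈ above 2 ⊥ U) :
    a ^ (2 : ℤ) ∈ M := by
  rw [zpow_two]
  exact (mem_of_index_two hM h.a_mem h.a_mem).2 Iff.rfl

theorem twist (h : Shape U a b k j t) : Shape U a (a * b) k j (1 + j + t) := by
  refine ⟨h.two_le, h.a_mem, U.mul_mem h.a_mem h.b_mem, h.order, h.card_eq, fun hm => h.not_mem ?_,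
    ?_, ?_, h.odd, ?_⟩
  · simpa using (zpowers a).mul_mem ((zpowers a).inv_mem (mem_zpowers a)) hm
  · have e : a * b * a * (a * b)⁻¹ = a * (b * a * b⁻¹) * a⁻¹ := by group
    rw [e, h.conj, ((Commute.refl a).zpow_right j).eq, mul_inv_cancel_right]
  · have e : a * b * (a * b) = a * (b * a * b⁻¹) * (b * b) := by group
    rw [e, h.conj, h.sq, zpow_add, zpow_add, zpow_one]
  · have := h.odd; have := h.even; omega

theorem cyclic_iff (h : Shape U a b k j t) {M : Subgroup G} (hM : M ∈ above 2 ⊥ U) (hb : b ∈ M) :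
    IsCyclic M ↔ t % 4 = 2 := by
  obtain ⟨-, hMU, hMc⟩ := mem_above.1 hM
  have hMk : Nat.card M = 2 ^ k := by
    rw [h.card_eq, pow_succ'] at hMc
    exact Nat.eq_of_mul_eq_mul_left two_pos hMc
  obtain ⟨m, hm⟩ : ∃ m, k = m + 2 := ⟨k - 2, by have := h.two_le; omega⟩
  constructor
  · intro hcyc
    by_contra ht
    obtain ⟨⟨w, hwM⟩, hw⟩ := hcyc.exists_generator
    have hwo : orderOf w = 2 ^ k := by
      rw [← hMk, ← Subgroup.orderOf_mk w hwM]
      exact orderOf_eq_card_of_forall_mem_zpowers hw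
    have hMne : M ≠ zpowers a := fun e => h.not_mem (e ▸ hb)
    have haM : a ∉ M := fun ha => hMne (eq_of_le_of_card_ge (zpowers_le.2 ha)
      (by rw [hMk, Nat.card_zpowers, h.order])).symm
    have hwU : w ∈ U := hMU hwM
    have hwb : w * b⁻¹ ∈ zpowers a := by
      rw [mem_of_index_two h.zpowers_mem hwU (U.inv_mem h.b_mem)]
      refine iff_of_false (fun hwa => h.not_mem ?_) (fun hb' => h.not_mem (by simpa using inv_mem hb'))
      obtain ⟨i, hi⟩ := mem_zpowers_iff.1 (hw ⟨b, hb⟩)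
      have hi' : w ^ i = b := congrArg Subtype.val hi
      exact hi' ▸ zpow_mem hwa i
    obtain ⟨i, hi⟩ := mem_zpowers_iff.1 hwb
    have hie : i % 2 = 0 := by
      by_contra hio
      refine haM ?_
      have h1 : a ^ i ∈ M := hi ▸ M.mul_mem hwM (M.inv_mem hb)
      obtain ⟨s, hs⟩ : (2 : ℤ) ∣ i - 1 := by omega
      have e : a = a ^ i * ((a ^ (2 : ℤ)) ^ s)⁻¹ := by
        rw [← zpow_mul, ← hs, zpow_sub_one]; group
      rw [e]
      exact M.mul_mem h1 (M.inv_mem (M.zpow_mem (h.sq_mem hM) s))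
    have hw2 : w * w = a ^ (i + j * i + t) := by
      have e : w = a ^ i * b := by rw [hi, inv_mul_cancel_right]
      have e2 : a ^ i * b * (a ^ i * b) = a ^ i * (b * a * b⁻¹) ^ i * (b * b) := by
        rw [conj_zpow]; group
      rw [e, e2, h.conj, h.sq, ← zpow_mul, ← zpow_add, ← zpow_add]
    have ht4 : (i + j * i + t) % 4 = 0 := by
      obtain ⟨r, rfl⟩ : (2 : ℤ) ∣ i := by omega
      obtain ⟨r', hr'⟩ : (2 : ℤ) ∣ 1 + j := by have := h.odd; omega
      have e : 2 * r + j * (2 * r) + t = t + 4 * (r * r') := by linear_combination (2 * r) * hr'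
      have := h.even
      omega
    obtain ⟨q, hq⟩ : (4 : ℤ) ∣ i + j * i + t := by omega
    have h1 : w ^ (2 * 2 ^ m) = 1 := by
      rw [pow_mul, pow_two, hw2, hq, ← zpow_natCast, ← zpow_mul]
      rw [← orderOf_dvd_iff_zpow_eq_one, h.order, hm]
      exact ⟨q, by push_cast; ring⟩
    have h2 := orderOf_dvd_of_pow_eq_one h1
    rw [hwo, hm, ← pow_succ', Nat.pow_dvd_pow_iff_le_right one_lt_two] at h2
    omega
  · intro ht
    have hbo : orderOf b = 2 ^ k := by
      obtain ⟨s, hs⟩ : (2 : ℤ) ∣ t := by omega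
      have hso : s % 2 = 1 := by omega
      have h1 : b ^ 2 ^ (m + 2) = 1 := by
        rw [pow_succ', pow_mul, pow_two, h.sq, ← zpow_natCast, ← zpow_mul,
          ← orderOf_dvd_iff_zpow_eq_one, h.order, hm, hs]
        exact ⟨s, by push_cast; ring⟩
      have h2 : ¬ b ^ 2 ^ (m + 1) = 1 := by
        rw [pow_succ', pow_mul, pow_two, h.sq, ← zpow_natCast, ← zpow_mul,
          ← orderOf_dvd_iff_zpow_eq_one, h.order, hm, hs]
        rintro ⟨q, hq⟩
        push_cast at hq
        have : (2 : ℤ) ^ m * (2 * s) = 2 ^ m * (4 * q) := by rw [mul_comm, hq]; ring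
        have := mul_left_cancel₀ (pow_ne_zero _ (two_ne_zero)) this
        omega
      rw [hm]
      exact orderOf_eq_prime_pow h2 h1
    have : zpowers b = M := eq_of_le_of_card_ge (zpowers_le.2 hb)
      (by rw [hMk, Nat.card_zpowers, hbo])
    exact this ▸ inferInstance

theorem exists_three (h : Shape U a b k j t) :
    ∃ M₁ M₂ : Subgroup G, above 2 ⊥ U = {zpowers a, M₁, M₂} ∧ b ∈ M₁ ∧ a * b ∈ M₂ ∧
      zpowers a ≠ M₁ ∧ zpowers a ≠ M₂ ∧ M₁ ≠ M₂ := by
  have hcard : 3 ≤ (above 2 ⊥ U).card := by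
    have h1 := card_above_bot h.card_eq (by omega) h.not_cyclic
    have h2 : (above 2 ⊥ U).card ≡ 3 [MOD 4] := by
      rw [← ZMod.natCast_eq_natCast_iff]
      exact h1.trans rfl
    simp only [Nat.ModEq] at h2
    omega
  have key : ∀ M ∈ above 2 ⊥ U, M = zpowers a ∨ b ∈ M ∨ a * b ∈ M := by
    intro M hM
    by_cases ha : a ∈ M
    · left
      refine (eq_of_le_of_card_ge (zpowers_le.2 ha) ?_).symm
      have h1 := (mem_above.1 hM).2.2
      have h2 := (mem_above.1 h.zpowers_mem).2.2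
      omega
    · right
      by_cases hb : b ∈ M
      · exact Or.inl hb
      · exact Or.inr ((mem_of_index_two hM h.a_mem h.b_mem).2 (iff_of_false ha hb))
  have huniq : ∀ c : G, c ∈ U → c ∉ zpowers a → ∀ M ∈ above 2 ⊥ U, ∀ M' ∈ above 2 ⊥ U,
      c ∈ M → c ∈ M' → M = M' := by
    intro c hcU hc M hM M' hM' hcM hcM'
    have hne : ∀ N ∈ above 2 ⊥ U, c ∈ N → a ∉ N := by
      intro N hN hcN ha
      refine hc ?_
      have h1 := (mem_above.1 hN).2.2
      have h2 := (mem_above.1 h.zpowers_mem).2.2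
      rw [eq_of_le_of_card_ge (zpowers_le.2 ha) (by omega)]
      exact hcN
    refine eq_of_le_of_card_ge (fun x hx => ?_)
      (by have h1 := (mem_above.1 hM).2.2; have h2 := (mem_above.1 hM').2.2; omega)
    have hxU := (mem_above.1 hM).2.1 hx
    by_cases hxa : x ∈ zpowers a
    · obtain ⟨i, rfl⟩ := mem_zpowers_iff.1 hxa
      obtain ⟨s, hs | hs⟩ : ∃ s : ℤ, i = 2 * s ∨ i = 2 * s + 1 := ⟨i / 2, by omega⟩
      · rw [hs, zpow_mul]; exact zpow_mem (h.sq_mem hM') s
      · refine absurd ?_ (hne M hM hcM)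
        rw [hs, zpow_add, zpow_one, zpow_mul] at hx
        simpa using M.mul_mem (M.inv_mem (M.zpow_mem (h.sq_mem hM) s)) hx
    · have hxc : x * c⁻¹ ∈ zpowers a :=
        (mem_of_index_two h.zpowers_mem hxU (U.inv_mem hcU)).2
          (iff_of_false hxa (fun h' => hc (by simpa using inv_mem h')))
      obtain ⟨i, hi⟩ := mem_zpowers_iff.1 hxc
      have hiM : a ^ i ∈ M := hi ▸ M.mul_mem hx (M.inv_mem hcM)
      rw [show x = a ^ i * c by rw [hi, inv_mul_cancel_right]]
      refine M'.mul_mem ?_ hcM'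
      obtain ⟨s, hs | hs⟩ : ∃ s : ℤ, i = 2 * s ∨ i = 2 * s + 1 := ⟨i / 2, by omega⟩
      · rw [hs, zpow_mul]; exact zpow_mem (h.sq_mem hM') s
      · refine absurd ?_ (hne M hM hcM)
        rw [hs, zpow_add, zpow_one, zpow_mul] at hiM
        simpa using M.mul_mem (M.inv_mem (M.zpow_mem (h.sq_mem hM) s)) hiM
  set T1 := (above 2 ⊥ U).filter fun M : Subgroup G => b ∈ M
  set T2 := (above 2 ⊥ U).filter fun M : Subgroup G => a * b ∈ M
  have hle : ∀ c : G, c ∈ U → c ∉ zpowers a →
      ((above 2 ⊥ U).filter fun M : Subgroup G => c ∈ M).card ≤ 1 := fun c hcU hc =>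
    Finset.card_le_one.2 fun M hM M' hM' => huniq c hcU hc M (mem_filter.1 hM).1 M'
      (mem_filter.1 hM').1 (mem_filter.1 hM).2 (mem_filter.1 hM').2
  have hT1 : T1.card ≤ 1 := by convert hle b h.b_mem h.not_mem
  have hT2 : T2.card ≤ 1 := by convert hle (a * b) h.twist.b_mem h.twist.not_mem
  have hsub : above 2 ⊥ U ⊆ insert (zpowers a) (T1 ∪ T2) := fun M hM => by
    rcases key M hM with rfl | hb | hb
    · exact Finset.mem_insert_self _ _
    · exact Finset.mem_insert_of_mem (mem_union_left _ (mem_filter.2 ⟨hM, hb⟩))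
    · exact Finset.mem_insert_of_mem (mem_union_right _ (mem_filter.2 ⟨hM, hb⟩))
  have h3 := (hcard.trans (card_le_card hsub)).trans
    ((card_insert_le _ _).trans (Nat.add_le_add_right (card_union_le _ _) 1))
  have h3' : T1.card + T2.card + 1 ≥ 3 := h3
  obtain ⟨M₁, hM₁⟩ := Finset.card_eq_one.1 (show T1.card = 1 by omega)
  obtain ⟨M₂, hM₂⟩ := Finset.card_eq_one.1 (show T2.card = 1 by omega)
  have hm1 : M₁ ∈ T1 := hM₁ ▸ Finset.mem_singleton_self _
  have hm2 : M₂ ∈ T2 := hM₂ ▸ Finset.mem_singleton_self _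
  have heq : above 2 ⊥ U = {zpowers a, M₁, M₂} := by
    refine Subset.antisymm (fun M hM => ?_) ?_
    · have := hsub hM
      rw [hM₁, hM₂] at this
      simpa [Finset.mem_insert, or_assoc] using this
    · intro M hM
      simp only [Finset.mem_insert, Finset.mem_singleton] at hM
      rcases hM with rfl | rfl | rfl
      exacts [h.zpowers_mem, (mem_filter.1 hm1).1, (mem_filter.1 hm2).1]
  refine ⟨M₁, M₂, heq, (mem_filter.1 hm1).2, (mem_filter.1 hm2).2,
    fun e => h.not_mem (e ▸ (mem_filter.1 hm1).2),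
    fun e => h.twist.not_mem (e ▸ (mem_filter.1 hm2).2), fun e => ?_⟩
  subst e
  rw [heq] at hcard
  have := Finset.card_insert_le (zpowers a) ({M₁, M₁} : Finset (Subgroup G))
  simp at hcard this
  omega

/-- The parity of the number of cyclic maximal subgroups. -/
theorem cyclic_count (h : Shape U a b k j t) :
    (((above 2 ⊥ U).filter fun M : Subgroup G => IsCyclic M).card : ZMod 2) =
      if j % 4 = 3 then 1 else 0 := by
  obtain ⟨M₁, M₂, heq, hb, hab, h1, h2, h12⟩ := h.exists_three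
  have hm : ∀ M ∈ ({zpowers a, M₁, M₂} : Finset (Subgroup G)), M ∈ above 2 ⊥ U := fun M hM =>
    heq ▸ hM
  have e1 := h.cyclic_iff (hm M₁ (by simp)) hb
  have e2 := h.twist.cyclic_iff (hm M₂ (by simp)) hab
  rw [heq, card_filter, Finset.sum_insert (by simp [h1, h2]),
    Finset.sum_insert (by simp [h12]), Finset.sum_singleton, if_pos (inferInstance : IsCyclic (zpowers a))]
  have := h.odd
  have := h.even
  by_cases hj : j % 4 = 3 <;> by_cases ht : t % 4 = 2
  · rw [if_pos hj, if_pos (e1.2 ht), if_pos (e2.2 (by omega))]; rfl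
  · rw [if_pos hj, if_neg (mt e1.1 ht), if_neg (mt e2.1 (by omega))]; rfl
  · rw [if_neg hj, if_pos (e1.2 ht), if_neg (mt e2.1 (by omega))]; rfl
  · rw [if_neg hj, if_neg (mt e1.1 ht), if_pos (e2.2 (by omega))]; rfl

theorem isMC_iff (h : Shape U a b k j t) : IsMC U ↔ j % 4 = 3 := by
  have hUp : IsPGroup 2 U := IsPGroup.of_card h.card_eq
  constructor
  · intro hmc
    by_contra hj
    have hle : (⁅U, U⁆ : Subgroup G) ≤ zpowers (a ^ (4 : ℤ)) := by
      rw [← map_commutator_subtype]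
      have hi : (zpowers (⟨a, h.a_mem⟩ : U)).index = 2 :=
        FGS82.index_zpowers_eq_two ((Subgroup.orderOf_mk a h.a_mem).trans h.order) h.card_eq
      have hb : (⟨b, h.b_mem⟩ : U) ∉ zpowers (⟨a, h.a_mem⟩ : U) := fun hm => h.not_mem (by
        obtain ⟨i, hi⟩ := mem_zpowers_iff.1 hm
        exact mem_zpowers_iff.2 ⟨i, congrArg Subtype.val hi⟩)
      refine (Subgroup.map_mono (FGS82.commutator_le_zpowers (m := 4) (j := j) hi hb
        (Subtype.ext h.conj) (by have := h.odd; omega))).trans ?_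
      rw [MonoidHom.map_zpowers]
      exact le_rfl
    have h1 := Subgroup.card_le_of_le hle
    have h2 := hmc.2
    obtain ⟨m, hm⟩ : ∃ m, k = m + 2 := ⟨k - 2, by have := h.two_le; omega⟩
    rw [Nat.card_zpowers, show (4 : ℤ) = ((4 : ℕ) : ℤ) from rfl, zpow_natCast,
      orderOf_pow_of_dvd (by norm_num) (by rw [h.order, hm, pow_add]; exact ⟨2 ^ m, by ring⟩),
      h.order] at h1
    rw [h.card_eq, hm] at h2
    rw [hm] at h1
    have e : 2 ^ (m + 2) / 4 = 2 ^ m := by rw [pow_add]; exact Nat.mul_div_cancel _ (by norm_num)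
    have e' : 2 ^ (m + 2 + 1) = 8 * 2 ^ m := by rw [pow_add, pow_add]; ring
    have := Nat.two_pow_pos m
    omega
  · intro hj
    exact isMC_of_mc ⟨⟨a, h.a_mem⟩, ⟨b, h.b_mem⟩, k, j, h.two_le,
      (Subgroup.orderOf_mk a h.a_mem).trans h.order, h.card_eq, fun hm => h.not_mem (by
        obtain ⟨i, hi⟩ := mem_zpowers_iff.1 hm
        exact mem_zpowers_iff.2 ⟨i, congrArg Subtype.val hi⟩), Subtype.ext h.conj, hj⟩

theorem all_bad (h : Shape U a b k j t) (hk : 3 ≤ k) (hj : j % 4 = 3) {M : Subgroup G}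
    (hM : M ∈ above 2 ⊥ U) : IsCyclic M ∨ IsMC M := by
  obtain ⟨M₁, M₂, heq, hb, hab, -, -, -⟩ := h.exists_three
  have key : ∀ (c : G) (t : ℤ), Shape U a c k j t → c ∈ M → IsCyclic M ∨ IsMC M := by
    intro c t hc hcM
    by_cases hcyc : IsCyclic M
    · exact Or.inl hcyc
    right
    obtain ⟨-, hMU, hMc⟩ := mem_above.1 hM
    have hMk : Nat.card M = 2 ^ k := by
      rw [h.card_eq, pow_succ'] at hMc
      exact Nat.eq_of_mul_eq_mul_left two_pos hMc
    obtain ⟨m, hm⟩ : ∃ m, k = m + 1 := ⟨k - 1, by omega⟩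
    refine isMC_of_mc ⟨⟨_, h.sq_mem hM⟩, ⟨c, hcM⟩, m, j, by omega, ?_, by rw [hMk, hm], ?_, ?_, hj⟩
    · rw [Subgroup.orderOf_mk, show (2 : ℤ) = ((2 : ℕ) : ℤ) from rfl, zpow_natCast,
        orderOf_pow_of_dvd two_ne_zero (by rw [h.order, hm]; exact dvd_pow_self 2 (by omega)),
        h.order, hm, pow_succ]
      exact Nat.mul_div_cancel _ two_pos
    · intro hm'
      obtain ⟨i, hi⟩ := mem_zpowers_iff.1 hm'
      have hi' : (a ^ (2 : ℤ)) ^ i = c := congrArg Subtype.val hi
      exact hc.not_mem (hi' ▸ zpow_mem (zpow_mem (mem_zpowers a) 2) i)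
    · refine Subtype.ext ?_
      change c * a ^ (2 : ℤ) * c⁻¹ = (a ^ (2 : ℤ)) ^ j
      rw [← conj_zpow, hc.conj, ← zpow_mul, ← zpow_mul, mul_comm]
  rw [heq] at hM
  simp only [Finset.mem_insert, Finset.mem_singleton] at hM
  rcases hM with rfl | rfl | rfl
  · exact Or.inl inferInstance
  · exact key b t h hb
  · exact key _ _ h.twist hab

end Shape

theorem exists_shape {U C : Subgroup G} {n : ℕ} (hU : Nat.card U = 2 ^ n) (hn : 3 ≤ n)
    (hnc : ¬ IsCyclic U) (hC : C ∈ above 2 ⊥ U) (hCc : IsCyclic C) :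
    ∃ (a b : G) (k : ℕ) (j t : ℤ), Shape U a b k j t := by
  obtain ⟨⟨a, haC⟩, hag⟩ := hCc.exists_generator
  obtain ⟨-, hCU, hCcard⟩ := mem_above.1 hC
  obtain ⟨k, rfl⟩ : ∃ k, n = k + 1 := ⟨n - 1, by omega⟩
  have hCk : Nat.card C = 2 ^ k := card_of_above hU hC
  have hao : orderOf a = 2 ^ k := by
    rw [← hCk, ← Subgroup.orderOf_mk a haC]
    exact orderOf_eq_card_of_forall_mem_zpowers hag
  have hCeq : zpowers a = C :=
    eq_of_le_of_card_ge (zpowers_le.2 haC) (by rw [hCk, Nat.card_zpowers, hao])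
  subst hCeq
  obtain ⟨b, hbU, hb⟩ : ∃ b ∈ U, b ∉ zpowers a := by
    by_contra hall
    push Not at hall
    have := Subgroup.card_le_of_le (show U ≤ zpowers a from hall)
    have : 0 < Nat.card (zpowers a) := Nat.card_pos
    omega
  obtain ⟨t, ht⟩ := mem_zpowers_iff.1 ((mem_of_index_two hC hbU hbU).2 Iff.rfl)
  have hconj : b * a * b⁻¹ ∈ zpowers a := by
    rw [mem_of_index_two hC (U.mul_mem hbU (hCU haC)) (U.inv_mem hbU),
      mem_of_index_two hC hbU (hCU haC)]
    exact iff_of_false (fun h => hb (h.2 (mem_zpowers a))) (fun h => hb (by simpa using inv_mem h))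
  obtain ⟨j, hj⟩ := mem_zpowers_iff.1 hconj
  refine ⟨a, b, k, j, t, by omega, hCU haC, hbU, hao, hU, hb, hj.symm, ht.symm, ?_, ?_⟩
  · by_contra hev
    obtain ⟨i, rfl⟩ : (2 : ℤ) ∣ j := by omega
    have h1 : orderOf (b * a * b⁻¹) = 2 ^ k := by
      rw [← hao]; exact (MulAut.conj b).orderOf_eq a
    have h2 : (a ^ (2 * i)) ^ 2 ^ (k - 1) = 1 := by
      rw [← zpow_natCast, ← zpow_mul, ← orderOf_dvd_iff_zpow_eq_one, hao]
      refine ⟨i, ?_⟩
      push_cast
      rw [show (2 : ℤ) * i * 2 ^ (k - 1) = (2 ^ (k - 1) * 2) * i by ring, ← pow_succ,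
        Nat.sub_add_cancel (by omega)]
    have h3 := orderOf_dvd_of_pow_eq_one h2
    rw [hj, h1, Nat.pow_dvd_pow_iff_le_right one_lt_two] at h3
    omega
  · by_contra hodd
    refine hnc ?_
    obtain ⟨s, hs⟩ : (2 : ℤ) ∣ t - 1 := by omega
    have h2 : ∀ r, b ^ 2 ^ (r + 1) = a ^ (t * ((2 ^ r : ℕ) : ℤ)) := fun r => by
      rw [pow_succ', pow_mul, pow_two, ← ht, ← zpow_natCast, ← zpow_mul]
    have hbo : orderOf b = 2 ^ (k + 1) := by
      refine orderOf_eq_prime_pow ?_ ?_
      · obtain ⟨r, hr⟩ : ∃ r, k = r + 1 := ⟨k - 1, by omega⟩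
        rw [hr, h2, ← orderOf_dvd_iff_zpow_eq_one, hao, hr]
        rintro ⟨q, hq⟩
        push_cast at hq
        have : (2 : ℤ) ^ r * t = 2 ^ r * (2 * q) := by rw [mul_comm, hq]; ring
        have := mul_left_cancel₀ (pow_ne_zero _ (two_ne_zero)) this
        omega
      · rw [h2, ← orderOf_dvd_iff_zpow_eq_one, hao]
        exact dvd_mul_left _ _
    have : zpowers b = U := eq_of_le_of_card_ge (zpowers_le.2 hbU)
      (by rw [hU, Nat.card_zpowers, hbo])
    exact this ▸ inferInstance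

theorem shape_of_isMC {U : Subgroup G} {n : ℕ} (hU : Nat.card U = 2 ^ n) (h : IsMC U) :
    ∃ (a b : G) (k : ℕ) (j t : ℤ), Shape U a b k j t := by
  obtain ⟨h8, h4⟩ := isMC_iff_index.1 h
  obtain ⟨a, b, k, j, hk, hao, hcU, hb, hj, hj4⟩ :=
    FGS82.taussky _ le_rfl (IsPGroup.of_card hU) h4 h8
  have hn : n = k + 1 := Nat.pow_right_injective le_rfl (hU.symm.trans hcU)
  refine exists_shape hU (by omega) (not_isCyclic_of_isMC h) (C := zpowers (a : G)) ?_ inferInstance
  exact mem_above.2 ⟨bot_le, zpowers_le.2 a.2,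
    by rw [Nat.card_zpowers, Subgroup.orderOf_coe, hao, hcU, pow_succ']⟩

theorem card_cyclic_above {U : Subgroup G} {n : ℕ} (hU : Nat.card U = 2 ^ n) (hn : 3 ≤ n)
    (hnc : ¬ IsCyclic U) :
    (((above 2 ⊥ U).filter fun M : Subgroup G => IsCyclic M).card : ZMod 2) =
      if IsMC U then 1 else 0 := by
  by_cases hex : ∃ C ∈ above 2 ⊥ U, IsCyclic (C : Subgroup G)
  · obtain ⟨C, hC, hCc⟩ := hex
    obtain ⟨a, b, k, j, t, hs⟩ := exists_shape hU hn hnc hC hCc
    rw [hs.cyclic_count]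
    exact if_congr hs.isMC_iff.symm rfl rfl
  · push Not at hex
    have hmc : ¬ IsMC U := fun h => by
      obtain ⟨a, b, k, j, t, hs⟩ := shape_of_isMC hU h
      exact hex _ hs.zpowers_mem inferInstance
    rw [if_neg hmc, filter_false_of_mem hex, card_empty, Nat.cast_zero]

/-- In a group not of maximal class the maximal subgroups of maximal class are `0` or `4` in
number. -/
theorem card_mc_above {U : Subgroup G} {n : ℕ} (hU : Nat.card U = 2 ^ n) (hn : 4 ≤ n)
    (hnc : ¬ IsCyclic U) (hnmc : ¬ IsMC U) :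
    (((above 2 ⊥ U).filter fun M : Subgroup G => IsMC M).card : ZMod 2) = 0 := by
  by_cases hex : ∃ M ∈ above 2 ⊥ U, IsMC M
  swap
  · push Not at hex
    rw [filter_false_of_mem hex, card_empty, Nat.cast_zero]
  obtain ⟨M, hM, hMC⟩ := hex
  obtain ⟨n, rfl⟩ : ∃ m, n = m + 1 := ⟨n - 1, by omega⟩
  obtain ⟨-, hMU, hMcard⟩ := mem_above.1 hM
  have hMn : Nat.card M = 2 ^ n := card_of_above hU hM
  set K : Subgroup G := ⁅M, M⁆ with hK
  -- `K` is the derived subgroup of `U`, of index eight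
  obtain ⟨e, hel, he, hfr⟩ := exists_el hU bot_le (k := 0) (by simp) (by omega)
  have he2 := two_le_of_el hU (by omega) hnc hel he hfr
  have hUF : (⁅U, U⁆ : Subgroup G) ≤ ⊥ ⊔ frat 2 U := commutator_le.2 hel.comm_mem
  have hKU : K ≤ ⁅U, U⁆ := commutator_mono hMU hMU
  have hU8 : 8 ≤ Nat.card U := by rw [hU]; exact le_trans (by norm_num) (Nat.pow_le_pow_right two_pos (show 3 ≤ n + 1 by omega))
  have h4d : 4 * Nat.card (⁅U, U⁆ : Subgroup G) ∣ Nat.card U := by
    rw [← hel.card_eq, mul_comm 4]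
    exact Nat.mul_dvd_mul (Subgroup.card_dvd_of_le hUF) (pow_dvd_pow 2 he2)
  have hKeq : K = ⁅U, U⁆ := by
    refine eq_of_le_of_card_ge hKU ?_
    by_contra hlt
    obtain ⟨c, hc⟩ := Subgroup.card_dvd_of_le hKU
    obtain ⟨d, hd⟩ := h4d
    rw [← hMcard, ← hMC.2, ← hK, hc] at hd
    have hKpos : 0 < Nat.card K := Nat.card_pos
    have h2 : 2 = c * d := Nat.eq_of_mul_eq_mul_left (show 0 < 4 * Nat.card K by omega)
      (by linarith)
    rcases Nat.prime_two.eq_one_or_self_of_dvd c ⟨d, h2⟩ with rfl | rfl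
    · exact hlt (by rw [hc, mul_one])
    · refine hnmc ⟨hU8, ?_⟩
      rw [← hMcard, ← hMC.2, ← hK, hc]; ring
  obtain ⟨a, b, k, j, t, hs⟩ := shape_of_isMC hMn hMC
  have hMT : FGS82.MC ↥M := FGS82.taussky _ le_rfl (IsPGroup.of_card hMn)
    (isMC_iff_index.1 hMC).2 hMC.1
  have hK2 : K = zpowers (a ^ (2 : ℤ)) := by
    have hj4 := hs.isMC_iff.1 hMC
    rw [hK, ← map_commutator_subtype, FGS82.MC.commutator_eq (a := (⟨a, hs.a_mem⟩ : M))
      (b := ⟨b, hs.b_mem⟩) (k := k) (j := j) ((Subgroup.orderOf_mk a hs.a_mem).trans hs.order)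
      hs.card_eq (fun hm => hs.not_mem (by
        obtain ⟨i, hi⟩ := mem_zpowers_iff.1 hm
        exact mem_zpowers_iff.2 ⟨i, congrArg Subtype.val hi⟩)) (Subtype.ext hs.conj) hj4,
      MonoidHom.map_zpowers]
    rfl
  have hKn : ∀ u ∈ U, ∀ x ∈ K, u * x * u⁻¹ ∈ K := by
    intro u hu x hx
    rw [hKeq] at hx ⊢
    exact conj_mem_of_comm hx (commutator_mem_commutator hu (commutator_le_self U hx))
  set K₂ : Subgroup G := zpowers (a ^ (4 : ℤ)) with hK₂
  have hK₂K : K₂ ≤ K := by
    rw [hK2, hK₂, zpowers_le]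
    exact mem_zpowers_iff.2 ⟨2, by rw [← zpow_mul]; norm_num⟩
  have hnot : a ^ (2 : ℤ) ∉ K₂ := by
    intro hm
    obtain ⟨q, hq⟩ := mem_zpowers_iff.1 hm
    have h1 : a ^ (2 - 4 * q) = 1 := by rw [zpow_sub, zpow_mul, hq, mul_inv_cancel]
    have h2 := orderOf_dvd_iff_zpow_eq_one.2 h1
    rw [hs.order] at h2
    have h4 : (4 : ℤ) ∣ 2 - 4 * q := dvd_trans (by
      exact_mod_cast (show 2 ^ 2 ∣ 2 ^ k from pow_dvd_pow 2 hs.two_le)) h2
    omega
  have hcase : ∀ x ∈ K, ∃ l : ℤ, x = (a ^ (2 : ℤ)) ^ l := fun x hx => by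
    rw [hK2] at hx
    obtain ⟨l, hl⟩ := mem_zpowers_iff.1 hx
    exact ⟨l, hl.symm⟩
  have hK₂even : ∀ l : ℤ, (a ^ (2 : ℤ)) ^ l ∈ K₂ ↔ l % 2 = 0 := by
    intro l
    constructor
    · intro hm
      by_contra hodd
      refine hnot ?_
      obtain ⟨r, hr⟩ : (2 : ℤ) ∣ l - 1 := by omega
      have e1 : a ^ (2 : ℤ) = (a ^ (2 : ℤ)) ^ l * ((a ^ (4 : ℤ)) ^ r)⁻¹ := by
        rw [← zpow_mul, ← zpow_mul, ← zpow_neg, ← zpow_add]; congr 1; omega
      rw [e1]
      exact K₂.mul_mem hm (K₂.inv_mem (mem_zpowers_iff.2 ⟨r, rfl⟩))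
    · intro he
      exact mem_zpowers_iff.2 ⟨l / 2, by rw [← zpow_mul, ← zpow_mul]; congr 1; omega⟩
  have hK₂mul : ∀ x ∈ K, ∀ y ∈ K, (x * y ∈ K₂ ↔ (x ∈ K₂ ↔ y ∈ K₂)) := by
    intro x hx y hy
    obtain ⟨l, rfl⟩ := hcase x hx
    obtain ⟨m, rfl⟩ := hcase y hy
    rw [← zpow_add, hK₂even, hK₂even, hK₂even]
    omega
  have hconjK₂ : ∀ u ∈ U, ∀ x ∈ K, (u * x * u⁻¹ ∈ K₂ ↔ x ∈ K₂) := by
    have one : ∀ u ∈ U, ∀ x ∈ K₂, u * x * u⁻¹ ∈ K₂ := by
      intro u hu x hx
      obtain ⟨q, rfl⟩ := mem_zpowers_iff.1 hx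
      obtain ⟨l, hl⟩ := hcase _ (hKn u hu (a ^ (2 : ℤ)) (hK2 ▸ mem_zpowers _))
      rw [show (a ^ (4 : ℤ)) ^ q = (a ^ (2 : ℤ)) ^ (2 * q) by
        rw [← zpow_mul, ← zpow_mul]; congr 1; ring, ← conj_zpow, hl, ← zpow_mul, hK₂even]
      rw [← mul_assoc, mul_comm l 2, mul_assoc]
      omega
    intro u hu x hx
    refine ⟨fun h => ?_, one u hu x⟩
    simpa [mul_assoc] using one u⁻¹ (U.inv_mem hu) _ h
  -- the commutator pairing
  let P : G → G → Prop := fun x y => ⁅x, y⁆ ∈ K₂
  have hcK : ∀ x ∈ U, ∀ y ∈ U, ⁅x, y⁆ ∈ K := fun x hx y hy =>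
    hKeq ▸ commutator_mem_commutator hx hy
  have Psymm : ∀ x y : G, P x y ↔ P y x := fun x y => by
    simp only [P, ← commutatorElement_inv x y, inv_mem_iff]
  have Pmul : ∀ x ∈ U, ∀ y ∈ U, ∀ z ∈ U, (P (x * y) z ↔ (P x z ↔ P y z)) := by
    intro x hx y hy z hz
    have e1 : ⁅x * y, z⁆ = (x * ⁅y, z⁆ * x⁻¹) * ⁅x, z⁆ := by
      simp only [commutatorElement_def]; group
    simp only [P]
    rw [e1, hK₂mul _ (hKn x hx _ (hcK y hy z hz)) _ (hcK x hx z hz), hconjK₂ x hx _ (hcK y hy z hz)]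
    exact Iff.comm
  have Psq : ∀ x ∈ U, ∀ z ∈ U, P (x * x) z := fun x hx z hz => (Pmul x hx x hx z hz).2 Iff.rfl
  have Pone : ∀ z : G, P 1 z := fun z => by simp [P]
  have Pinv : ∀ x ∈ U, ∀ z ∈ U, (P x⁻¹ z ↔ P x z) := by
    intro x hx z hz
    have h1 := Pmul x hx x⁻¹ (U.inv_mem hx) z hz
    rw [mul_inv_cancel] at h1
    exact (h1.1 (Pone z)).symm
  have haU : a ∈ U := hMU hs.a_mem
  have hbU : b ∈ U := hMU hs.b_mem
  have hab : ¬ P a b := by
    intro h
    have hle : K ≤ K₂ := by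
      rw [hK, commutator_le]
      intro x hx y hy
      have hgen : ∀ z ∈ U, P a z → P b z → ∀ x ∈ M, P x z := by
        intro z hz h1 h2 x hx
        have hai : ∀ i : ℤ, P (a ^ i) z := fun i => by
          induction i using Int.induction_on with
          | zero => simp [P]
          | succ i ih => rw [zpow_add_one, Pmul _ (U.zpow_mem haU _) _ haU z hz]; exact iff_of_true ih h1
          | pred i ih =>
            rw [zpow_sub_one, Pmul _ (U.zpow_mem haU _) _ (U.inv_mem haU) z hz, Pinv a haU z hz]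
            exact iff_of_true ih h1
        by_cases hxa : x ∈ zpowers a
        · obtain ⟨i, rfl⟩ := mem_zpowers_iff.1 hxa
          exact hai i
        · obtain ⟨i, hi⟩ := mem_zpowers_iff.1 ((mem_of_index_two hs.zpowers_mem hx
            (M.inv_mem hs.b_mem)).2 (iff_of_false hxa
              (fun h' => hs.not_mem (by simpa using inv_mem h'))))
          rw [show x = a ^ i * b by rw [hi, inv_mul_cancel_right],
            Pmul _ (U.zpow_mem haU _) b hbU z hz]
          exact iff_of_true (hai i) h2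
      have haa : P a a := by simp [P]
      have hbb : P b b := by simp [P]
      exact hgen y (hMU hy) ((Psymm a y).2 (hgen a haU haa ((Psymm a b).1 h) y hy))
        ((Psymm b y).2 (hgen b hbU h hbb y hy)) x hx
    exact hnot (hle (hK2 ▸ mem_zpowers _))
  -- squares lie in `K`
  have hsqK : ∀ x ∈ U, x * x ∈ K := by
    intro x hx
    have hxM : x * x ∈ M := (mem_of_index_two hM hx hx).2 Iff.rfl
    have hxa : x * x ∈ zpowers a := by
      by_contra hna
      obtain ⟨i, hi⟩ := mem_zpowers_iff.1 ((mem_of_index_two hs.zpowers_mem hxM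
        (M.inv_mem hs.b_mem)).2 (iff_of_false hna
          (fun h' => hs.not_mem (by simpa using inv_mem h'))))
      have h1 := Psq x hx a haU
      rw [show x * x = a ^ i * b by rw [hi, inv_mul_cancel_right],
        Pmul _ (U.zpow_mem haU _) b hbU a haU] at h1
      refine hab ((Psymm a b).2 (h1.1 ?_))
      have : Commute (a ^ i) a := (Commute.refl a).zpow_left i
      simp [P, commutatorElement_eq_one_iff_commute.2 this]
    obtain ⟨i, hi⟩ := mem_zpowers_iff.1 hxa
    obtain ⟨r, hr | hr⟩ : ∃ r : ℤ, i = 2 * r ∨ i = 2 * r + 1 := ⟨i / 2, by omega⟩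
    · rw [← hi, hr, zpow_mul, hK2]; exact zpow_mem (mem_zpowers _) r
    · exfalso
      have h1 := Psq x hx b hbU
      rw [← hi, hr, zpow_add, zpow_one, Pmul _ (U.zpow_mem haU _) a haU b hbU] at h1
      refine hab (h1.1 ?_)
      rw [two_mul, zpow_add]
      exact Psq _ (U.zpow_mem haU _) b hbU
  have hKmem : ∀ N ∈ above 2 ⊥ U, K ≤ N := fun N hN =>
    (hKeq.le.trans hUF).trans (hfr N hN)
  have hKc8 : Nat.card K * 2 ^ 3 = Nat.card U := by
    rw [← hMcard, ← hMC.2]; ring
  have hEl : El 2 3 K U := ⟨hKU.trans (commutator_le_self U),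
    fun x hx => by rw [pow_two]; exact hsqK x hx, hcK, hKc8⟩
  -- the radical of the pairing
  obtain ⟨z, hzU, hzM, hza, hzb⟩ : ∃ z ∈ U, z ∉ M ∧ P z a ∧ P z b := by
    obtain ⟨c, hcU, hcM⟩ : ∃ c ∈ U, c ∉ M := by
      by_contra hall
      push Not at hall
      have := Subgroup.card_le_of_le (show U ≤ M from hall)
      omega
    have hmul : ∀ u ∈ M, c * u ∉ M := fun u hu h => hcM (by simpa using M.mul_mem h (M.inv_mem hu))
    have haa : P a a := by simp [P]
    have hbb : P b b := by simp [P]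
    have hba : ¬ P b a := fun h => hab ((Psymm b a).1 h)
    by_cases h1 : P c a <;> by_cases h2 : P c b
    · exact ⟨c, hcU, hcM, h1, h2⟩
    · refine ⟨c * a, U.mul_mem hcU haU, hmul a hs.a_mem, ?_, ?_⟩
      · rw [Pmul c hcU a haU a haU]; exact iff_of_true h1 haa
      · rw [Pmul c hcU a haU b hbU]; exact iff_of_false h2 hab
    · refine ⟨c * b, U.mul_mem hcU hbU, hmul b hs.b_mem, ?_, ?_⟩
      · rw [Pmul c hcU b hbU a haU]; exact iff_of_false h1 hba
      · rw [Pmul c hcU b hbU b hbU]; exact iff_of_true h2 hbb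
    · refine ⟨c * (a * b), U.mul_mem hcU (U.mul_mem haU hbU),
        hmul _ (M.mul_mem hs.a_mem hs.b_mem), ?_, ?_⟩
      · rw [Pmul c hcU _ (U.mul_mem haU hbU) a haU, Pmul a haU b hbU a haU]
        exact iff_of_false h1 (fun h => hba (h.1 haa))
      · rw [Pmul c hcU _ (U.mul_mem haU hbU) b hbU, Pmul a haU b hbU b hbU]
        exact iff_of_false h2 (fun h => hab (h.2 hbb))
  have hzM' : ∀ m ∈ M, P z m := by
    intro m hm
    have hai : ∀ i : ℤ, P (a ^ i) z := fun i => by
      induction i using Int.induction_on with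
      | zero => simp [P]
      | succ i ih =>
        rw [zpow_add_one, Pmul _ (U.zpow_mem haU _) _ haU z hzU]
        exact iff_of_true ih ((Psymm z a).1 hza)
      | pred i ih =>
        rw [zpow_sub_one, Pmul _ (U.zpow_mem haU _) _ (U.inv_mem haU) z hzU, Pinv a haU z hzU]
        exact iff_of_true ih ((Psymm z a).1 hza)
    rw [Psymm]
    by_cases hma : m ∈ zpowers a
    · obtain ⟨i, rfl⟩ := mem_zpowers_iff.1 hma
      exact hai i
    · obtain ⟨i, hi⟩ := mem_zpowers_iff.1 ((mem_of_index_two hs.zpowers_mem hm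
        (M.inv_mem hs.b_mem)).2 (iff_of_false hma
          (fun h' => hs.not_mem (by simpa using inv_mem h'))))
      rw [show m = a ^ i * b by rw [hi, inv_mul_cancel_right],
        Pmul _ (U.zpow_mem haU _) b hbU z hzU]
      exact iff_of_true (hai i) ((Psymm z b).1 hzb)
  -- maximal subgroups of maximal class are those avoiding `z`
  have hiff : ∀ N ∈ above 2 ⊥ U, (IsMC N ↔ z ∉ N) := by
    intro N hN
    obtain ⟨-, hNU, hNc⟩ := mem_above.1 hN
    have hN4 : Nat.card N = 4 * Nat.card K := by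
      rw [← hKc8] at hNc; omega
    have hN' : (⁅N, N⁆ : Subgroup G) ≤ K := hKeq ▸ commutator_mono hNU hNU
    constructor
    · intro hmc hzN
      -- the image of `N ∩ M` has order two
      have hle : (⁅N, N⁆ : Subgroup G) ≤ K₂ := by
        have hNM : Nat.card ↥(N ⊓ M) = 2 * Nat.card K := by
          have h1 : ((N ⊓ M).subgroupOf N).index = 2 := by
            refine Subgroup.index_eq_two_iff.2 ⟨⟨z, hzN⟩, fun x => ?_⟩
            simp only [mem_subgroupOf, Subgroup.mem_inf, Subgroup.coe_mul, x.2, N.mul_mem x.2 hzN, true_and]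
            rw [mem_of_index_two hM (hNU x.2) hzU]
            simp only [hzM, iff_false]
            by_cases hxM : (x : G) ∈ M <;> simp [xor_iff_not_iff, hxM]
          have h2 := ((N ⊓ M).subgroupOf N).card_mul_index
          rw [h1, Nat.card_congr (subgroupOfEquivOfLe (inf_le_left : N ⊓ M ≤ N)).toEquiv, hN4] at h2
          omega
        have hmm : ∀ m ∈ N ⊓ M, ∀ m' ∈ N ⊓ M, P m m' := by
          intro m hm m' hm'
          by_cases hmK : m ∈ K
          · obtain ⟨l, rfl⟩ := hcase m hmK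
            rw [← zpow_mul, two_mul, zpow_add]
            exact Psq _ (U.zpow_mem haU _) m' (hNU hm'.1)
          have hgen : K ⊔ zpowers m = N ⊓ M := by
            refine eq_of_le_of_card_ge (sup_le (le_inf (hKmem N hN) (hKmem M hM))
              (zpowers_le.2 hm)) ?_
            rw [hNM, (mem_lines.1 (hEl.lines_mem (hNU hm.1) hmK)).2.2]
          have hm'cases : m' ∈ K ∨ m' * m⁻¹ ∈ K := by
            by_cases hm'K : m' ∈ K
            · exact Or.inl hm'K
            right
            have hK' : K ∈ above 2 ⊥ (N ⊓ M) := mem_above.2 ⟨bot_le,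
              le_inf (hKmem N hN) (hKmem M hM), hNM.symm⟩
            rw [mem_of_index_two hK' hm' (inv_mem hm)]
            exact iff_of_false hm'K (fun h => hmK (by simpa using K.inv_mem h))
          rw [Psymm]
          rcases hm'cases with h | h
          · obtain ⟨l, rfl⟩ := hcase m' h
            rw [← zpow_mul, two_mul, zpow_add]
            exact Psq _ (U.zpow_mem haU _) m (hNU hm.1)
          · obtain ⟨l, hl⟩ := hcase _ h
            rw [show m' = (a ^ (2 : ℤ)) ^ l * m by rw [← hl, inv_mul_cancel_right],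
              Pmul _ (U.zpow_mem (U.zpow_mem haU _) _) m (hNU hm.1) m (hNU hm.1)]
            refine iff_of_true ?_ (by simp [P])
            rw [← zpow_mul, two_mul, zpow_add]
            exact Psq _ (U.zpow_mem haU _) m (hNU hm.1)
        rw [commutator_le]
        intro x hx y hy
        have hall : ∀ x ∈ N, ∀ m ∈ N ⊓ M, P x m := by
          intro x hx m hm
          by_cases hxM : x ∈ M
          · exact hmm x ⟨hx, hxM⟩ m hm
          · have h1 : x * z⁻¹ ∈ M := (mem_of_index_two hM (hNU hx) (U.inv_mem hzU)).2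
              (iff_of_false hxM (fun h' => hzM (by simpa using M.inv_mem h')))
            rw [show x = x * z⁻¹ * z by group, Pmul _ (hMU h1) z hzU m (hNU hm.1)]
            exact iff_of_true (hmm _ ⟨N.mul_mem hx (N.inv_mem hzN), h1⟩ m hm) (hzM' m hm.2)
        by_cases hyM : y ∈ M
        · exact hall x hx y ⟨hy, hyM⟩
        · have h1 : y * z⁻¹ ∈ M := (mem_of_index_two hM (hNU hy) (U.inv_mem hzU)).2
            (iff_of_false hyM (fun h' => hzM (by simpa using M.inv_mem h')))
          show P x y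
          rw [Psymm, show y = y * z⁻¹ * z by group, Pmul _ (hMU h1) z hzU x (hNU hx)]
          refine iff_of_true ((Psymm _ _).1 (hall x hx _ ⟨N.mul_mem hy (N.inv_mem hzN), h1⟩)) ?_
          by_cases hxM : x ∈ M
          · exact hzM' x hxM
          · have h2 : x * z⁻¹ ∈ M := (mem_of_index_two hM (hNU hx) (U.inv_mem hzU)).2
              (iff_of_false hxM (fun h' => hzM (by simpa using M.inv_mem h')))
            rw [Psymm, show x = x * z⁻¹ * z by group, Pmul _ (hMU h2) z hzU z hzU]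
            exact iff_of_true ((Psymm _ _).1 (hzM' _ h2)) (by simp [P])
      have heq : K = ⁅N, N⁆ := by
        refine (eq_of_le_of_card_ge hN' ?_).symm
        have := hmc.2
        omega
      exact hnot (hle (heq ▸ hK2 ▸ mem_zpowers _))
    · intro hzN
      refine ⟨by rw [hN4, hMC.2]; exact hMC.1, ?_⟩
      suffices h : K ≤ ⁅N, N⁆ by rw [← le_antisymm h hN', hN4]
      have pick : ∀ x ∈ M, ∃ x' ∈ N, P z x' ∧ ∀ y ∈ U, P z y → (P x' y ↔ P x y) := by
        intro x hx
        by_cases hxN : x ∈ N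
        · exact ⟨x, hxN, hzM' x hx, fun _ _ _ => Iff.rfl⟩
        · refine ⟨x * z, (mem_of_index_two hN (hMU hx) hzU).2 (iff_of_false hxN hzN), ?_,
            fun y hy hzy => ?_⟩
          · rw [Psymm, Pmul x (hMU hx) z hzU z hzU]
            exact iff_of_true ((Psymm _ _).1 (hzM' x hx)) (by simp [P])
          · rw [Pmul x (hMU hx) z hzU y hy]
            simp [hzy]
      obtain ⟨a', ha', hza', haP⟩ := pick a hs.a_mem
      obtain ⟨b', hb', hzb', hbP⟩ := pick b hs.b_mem
      have hnP : ¬ P a' b' := by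
        rw [haP b' (hNU hb') hzb', Psymm, hbP a haU hza, Psymm]
        exact hab
      obtain ⟨l, hl⟩ := hcase _ (hN' (commutator_mem_commutator ha' hb'))
      have hlo : l % 2 = 1 := by
        by_contra hev
        refine hnP ?_
        show ⁅a', b'⁆ ∈ K₂
        rw [hl, hK₂even]
        omega
      obtain ⟨u, v, huv⟩ : IsCoprime l ((2 : ℤ) ^ k) :=
        IsCoprime.pow_right (⟨1, -(l / 2), by omega⟩ : IsCoprime l 2)
      have ha2 : a ^ (2 : ℤ) = ⁅a', b'⁆ ^ u := by
        have h1 : a ^ ((2 : ℤ) ^ k) = 1 := by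
          rw [← orderOf_dvd_iff_zpow_eq_one, hs.order]; simp
        rw [hl, ← zpow_mul, ← zpow_mul, show (2 : ℤ) * (l * u) = 2 - (2 : ℤ) ^ k * (2 * v) by
          linear_combination 2 * huv, zpow_sub, zpow_mul a ((2 : ℤ) ^ k), h1, one_zpow, inv_one,
          mul_one]
      rw [hK2, zpowers_le, ha2]
      exact zpow_mem (commutator_mem_commutator ha' hb') u
  have hzK : z ∉ K := fun h => hzM (hKmem M hM h)
  have hall : above 2 ⊥ U = above 2 K U := by
    ext N
    exact ⟨fun h => mem_above.2 ⟨hKmem N h, (mem_above.1 h).2⟩,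
      fun h => mem_above.2 ⟨bot_le, (mem_above.1 h).2⟩⟩
  have hzcount : ((above 2 ⊥ U).filter fun N : Subgroup G => z ∈ N) =
      above 2 (K ⊔ zpowers z) U := by
    ext N
    simp only [mem_filter, hall, mem_above, sup_le_iff, zpowers_le]
    tauto
  have hcount := Finset.card_filter_add_card_filter_not
    (s := above 2 ⊥ U) (fun N : Subgroup G => z ∈ N)
  rw [hzcount, (hEl.lower (hEl.lines_mem hzU hzK)).card_above, ← filter_congr hiff, hall,
    hEl.card_above] at hcount
  simp only [geom, sum_range_succ, sum_range_zero] at hcount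
  rw [hall]
  convert (show ((4 : ℕ) : ZMod 2) = 0 from rfl) using 2
  convert Nat.add_left_cancel hcount
  norm_num

/-- The number of subgroups of order `2 ^ k` of a noncyclic `2`-group modulo `4`. -/
theorem kulakoff_two (n : ℕ) : ∀ (U : Subgroup G) (k : ℕ), Nat.card U = 2 ^ n → 1 ≤ k → k < n →
    ¬ IsCyclic U →
    ((subs 2 k U).card : ZMod (2 ^ 2)) = if IsMC U ∧ k + 2 ≤ n then 1 else 3 := by
  induction n with
  | zero => intro U k _ _ h; omega
  | succ n ih =>
    intro U k hU hk hkn hnc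
    have h3 := card_above_bot (p := 2) hU (by omega) hnc
    by_cases hkn' : k = n
    · subst hkn'
      rw [subs_pred hU, h3, if_neg (fun h => by omega)]
      rfl
    let B : Subgroup G → Prop := fun M => IsCyclic M ∨ (IsMC M ∧ k + 2 ≤ n)
    have hterm : ∀ M ∈ above 2 ⊥ U, ((subs 2 k M).card : ZMod (2 ^ 2)) =
        3 - if B M then 2 else 0 := by
      intro M hM
      by_cases hc : IsCyclic M
      · rw [card_subs_cyclic (card_of_above hU hM) (by omega) hc, if_pos (Or.inl hc)]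
        rfl
      · rw [ih M k (card_of_above hU hM) hk (by omega) hc]
        by_cases hb : IsMC M ∧ k + 2 ≤ n
        · rw [if_pos hb, if_pos (show B M from Or.inr hb)]; rfl
        · rw [if_neg hb, if_neg (show ¬ B M from not_or.2 ⟨hc, hb⟩), sub_zero]
    have hB : ((filter B (above 2 ⊥ U)).card : ZMod 2) = if IsMC U then 1 else 0 := by
      have hcyc := card_cyclic_above hU (by omega) hnc
      by_cases hk3 : k + 2 ≤ n
      · by_cases hmc : IsMC U
        · obtain ⟨a, b, k', j, t, hs⟩ := shape_of_isMC hU hmc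
          have hk' : n + 1 = k' + 1 := Nat.pow_right_injective le_rfl (hU.symm.trans hs.card_eq)
          rw [if_pos hmc, filter_true_of_mem (fun M hM =>
            (hs.all_bad (by omega) (hs.isMC_iff.1 hmc) hM).imp id fun h => ⟨h, hk3⟩)]
          obtain ⟨M₁, M₂, heq, -, -, h1, h2, h12⟩ := hs.exists_three
          rw [heq, card_insert_of_notMem (by simp [h1, h2]), card_pair h12]
          rfl
        · rw [if_neg hmc] at hcyc ⊢
          have hmcc := card_mc_above hU (by omega) hnc hmc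
          have e : filter B (above 2 ⊥ U) =
              (filter (fun M : Subgroup G => IsCyclic M) (above 2 ⊥ U)) ∪
                (filter (fun M : Subgroup G => IsMC M) (above 2 ⊥ U)) := by
            ext M
            simp only [B, mem_filter, Finset.mem_union, hk3, and_true]
            tauto
          rw [e, card_union_of_disjoint (disjoint_filter.2 fun M _ h h' =>
            not_isCyclic_of_isMC h' h), Nat.cast_add, hcyc, hmcc, add_zero]
      · rw [← hcyc, filter_congr (q := fun M : Subgroup G => IsCyclic M)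
          (fun M _ => by simp [B, hk3])]
    have key := card_subs_rec (p := 2) (k := k) hU (by omega) hnc
    rw [sum_congr rfl hterm, sum_sub_distrib, sum_const, nsmul_eq_mul, h3, ← sum_filter,
      sum_const, nsmul_eq_mul] at key
    by_cases hmc : IsMC U
    · rw [if_pos hmc] at hB
      rw [if_pos ⟨hmc, by omega⟩]
      have h22 := dvd_cast_mul (p := 2) (b := 1) (hB.trans Nat.cast_one.symm)
      have h4 : (4 : ZMod (2 ^ 2)) = 0 := rfl
      simp only [Nat.cast_ofNat, Nat.cast_one, Nat.cast_zero] at key h22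
      linear_combination key - h22 + h4
    · rw [if_neg hmc] at hB
      rw [if_neg (fun h => hmc h.1)]
      have h22 := dvd_cast_mul (p := 2) (b := 0) (hB.trans Nat.cast_zero.symm)
      have h4 : (4 : ZMod (2 ^ 2)) = 0 := rfl
      simp only [Nat.cast_ofNat, Nat.cast_one, Nat.cast_zero] at key h22
      linear_combination key - h22 + h4

end

end Cfsg.Agent.FGS80.Kulakoff
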