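import Mathlib.NumberTheory.GaussSum
import Mathlib.NumberTheory.LegendreSymbol.QuadraticReciprocity
import Mathlib.NumberTheory.LegendreSymbol.AddCharacter
import Mathlib.NumberTheory.LSeries.PrimesInAP
import Mathlib.NumberTheory.Cyclotomic.Gal
import Mathlib.FieldTheory.Galois.Basic
import Mathlib.Tactic

/-!
# `-1` is a sum of two squares in `ℚ(√5, ζ_r)`

`r ≥ 7` prime. An auxiliary prime `ℓ ≡ 3 (mod 20)` which is a non-square modulo `r` is a sum of two
squares in `ℚ(√5)`; Gauss' identity `4 Φ_ℓ = Y² + ℓ Z²` telescopes along the powers of `ℓ` and makes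
`-1` a value of `u² + ℓ v²`.
-/

set_option autoImplicit false
set_option linter.style.haveILetI false

namespace Cfsg.Agent.FGS80.LevelTwo

open Polynomial

/-- Gauss' identity, in evaluated form: values of `4 (1 + t + ⋯ + t ^ (l-1))` are `u² + l v²`. -/
theorem gauss_identity (l : ℕ) [Fact l.Prime] (hl : l % 4 = 3) :
    ∃ Y Z : ℚ[X], Y ^ 2 + C (l : ℚ) * Z ^ 2 = 4 * ∑ i ∈ Finset.range l, X ^ i := by
  classical
  haveI : NeZero l := ⟨(Fact.out : l.Prime).ne_zero⟩
  haveI : Fintype (ZMod l) := inferInstance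
  let L := CyclotomicField l ℚ
  haveI : IsCyclotomicExtension {l} ℚ L := CyclotomicField.isCyclotomicExtension l ℚ
  haveI : FiniteDimensional ℚ L := IsCyclotomicExtension.finiteDimensional {l} ℚ L
  haveI : IsGalois ℚ L := IsCyclotomicExtension.isGalois {l} ℚ L
  set ζ := IsCyclotomicExtension.zeta l ℚ L
  have hζ : IsPrimitiveRoot ζ l := IsCyclotomicExtension.zeta_spec l ℚ L
  have hl2 : ringChar (ZMod l) ≠ 2 := by rw [ZMod.ringChar_zmod_n]; omega
  let χ := quadraticChar (ZMod l)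
  let χL : MulChar (ZMod l) L := χ.ringHomComp (Int.castRingHom L)
  let ψ : AddChar (ZMod l) L := AddChar.zmodChar l hζ.pow_eq_one
  have hψ : ψ.IsPrimitive := AddChar.zmodChar_primitive_of_primitive_root l hζ
  have hχ1 : χL ≠ 1 := by
    rw [MulChar.ringHomComp_ne_one_iff Int.cast_injective]
    exact quadraticChar_ne_one hl2
  have hχq : χL.IsQuadratic := (quadraticChar_isQuadratic (ZMod l)).comp _
  set g := gaussSum χL ψ with hg
  have hneg : χ (-1) = -1 := by
    rw [quadraticChar_neg_one hl2, ZMod.card, ZMod.χ₄_nat_three_mod_four hl]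
  have hg2 : g ^ 2 = -(l : L) := by
    rw [hg, gaussSum_sq hχ1 hχq hψ, ZMod.card]
    show ((χ (-1) : ℤ) : L) * _ = _
    rw [hneg]; push_cast; ring
  have hg0 : g ≠ 0 := fun h => by
    rw [h, zero_pow two_ne_zero, eq_comm, neg_eq_zero, Nat.cast_eq_zero] at hg2
    exact (Fact.out : l.Prime).ne_zero hg2
  let fac : ZMod l → L[X] := fun k => X - C (ψ k)
  let R := Finset.univ.filter fun k : ZMod l => χ k = 1
  let N := Finset.univ.filter fun k : ZMod l => χ k = -1
  set A := ∏ k ∈ R, fac k with hA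
  set B := ∏ k ∈ N, fac k with hB
  have hAB : A * B = ∑ i ∈ Finset.range l, X ^ i := by
    have h1 : R ∪ N = Finset.univ.erase (0 : ZMod l) := by
      ext k
      simp only [R, N, Finset.mem_union, Finset.mem_filter, Finset.mem_univ, true_and,
        Finset.mem_erase, and_true]
      refine ⟨fun h hk => ?_, fun hk => quadraticChar_dichotomy hk⟩
      rw [hk, MulChar.map_zero] at h
      omega
    have h2 : Disjoint R N := Finset.disjoint_left.2 fun k hk hk' => by
      simp only [R, N, Finset.mem_filter] at hk hk'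
      omega
    rw [hA, hB, ← Finset.prod_union h2, h1]
    have h3 : (X : L[X]) ^ l - 1 = ∏ k : ZMod l, fac k := by
      rw [X_pow_sub_one_eq_prod (Fact.out : l.Prime).pos hζ]
      symm
      refine Finset.prod_bij (fun k _ => ψ k) (fun k _ => ?_) (fun k _ k' _ h => ?_)
        (fun x hx => ?_) (fun k _ => rfl)
      · rw [mem_nthRootsFinset (Fact.out : l.Prime).pos]
        rw [← AddChar.map_nsmul_eq_pow, nsmul_eq_mul, ZMod.natCast_self, zero_mul,
          AddChar.map_zero_eq_one]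
      · have h' : ζ ^ k.val = ζ ^ k'.val := h
        exact ZMod.val_injective l (hζ.pow_inj k.val_lt k'.val_lt h')
      · rw [mem_nthRootsFinset (Fact.out : l.Prime).pos] at hx
        obtain ⟨i, hi, rfl⟩ := hζ.eq_pow_of_pow_eq_one hx
        exact ⟨(i : ZMod l), Finset.mem_univ _, AddChar.zmodChar_apply' hζ.pow_eq_one i⟩
    have h4 : fac 0 = (X : L[X]) - 1 := by
      show X - C (ψ 0) = _
      rw [AddChar.map_zero_eq_one, map_one]
    rw [← Finset.mul_prod_erase Finset.univ fac (Finset.mem_univ (0 : ZMod l)), h4,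
      ← mul_geom_sum] at h3
    exact (mul_left_cancel₀ (show (X : L[X]) - 1 ≠ 0 by simpa using X_sub_C_ne_zero (1 : L)) h3).symm
  -- Galois action
  have hσ : ∀ σ : L ≃ₐ[ℚ] L, ∃ t : (ZMod l)ˣ, ∀ k : ZMod l, σ (ψ k) = ψ ((t : ZMod l) * k) := by
    intro σ
    have h := hζ.map_of_injective σ.injective
    obtain ⟨i, hi, he⟩ := hζ.eq_pow_of_pow_eq_one h.pow_eq_one
    have hicop : i.Coprime l := (hζ.pow_iff_coprime (Fact.out : l.Prime).pos i).1 (he ▸ h)
    refine ⟨ZMod.unitOfCoprime i hicop, fun k => ?_⟩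
    rw [ZMod.coe_unitOfCoprime]
    show σ (ζ ^ k.val) = _
    rw [map_pow, ← he, ← pow_mul]
    show _ = ψ ((i : ZMod l) * k)
    conv_rhs => rw [← ZMod.natCast_zmod_val k, ← Nat.cast_mul]
    exact (AddChar.zmodChar_apply' hζ.pow_eq_one _).symm
  set Yp := A + B with hY
  set Zp := (A - B) * C g⁻¹ with hZ
  have hfix : ∀ σ : L ≃ₐ[ℚ] L, Yp.map (σ : L →+* L) = Yp ∧ Zp.map (σ : L →+* L) = Zp := by
    intro σ
    obtain ⟨t, ht⟩ := hσ σ
    have hmapfac : ∀ S : Finset (ZMod l), (∏ k ∈ S, fac k).map (σ : L →+* L) =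
        ∏ k ∈ S.image fun k => (t : ZMod l) * k, fac k := by
      intro S
      rw [Polynomial.map_prod, Finset.prod_image fun a _ b _ h => t.isUnit.mul_left_cancel h]
      refine Finset.prod_congr rfl fun k _ => ?_
      show (X - C (ψ k)).map _ = X - C _
      rw [Polynomial.map_sub, map_X, map_C]
      exact congrArg (fun x => X - C x) (ht k)
    have himg : ∀ e : ℤ, ((Finset.univ.filter fun k : ZMod l => χ k = e).image
        fun k => (t : ZMod l) * k) = Finset.univ.filter fun k : ZMod l => χ k = χ t * e := by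
      intro e
      ext k
      simp only [Finset.mem_image, Finset.mem_filter, Finset.mem_univ, true_and]
      constructor
      · rintro ⟨a, ha, rfl⟩; rw [map_mul, ha]
      · intro hk
        refine ⟨((t⁻¹ : (ZMod l)ˣ) : ZMod l) * k, ?_, Units.mul_inv_cancel_left t k⟩
        rw [map_mul, hk, ← mul_assoc, ← map_mul, Units.inv_mul, map_one, one_mul]
    have hgσ : σ g = ((χ t : ℤ) : L) * g := by
      have h1 : σ g = gaussSum χL (AddChar.mulShift ψ (t : ZMod l)) := by
        simp only [hg, gaussSum, map_sum, map_mul, AddChar.mulShift_apply]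
        refine Finset.sum_congr rfl fun a _ => ?_
        rw [ht a]
        show σ ((χ a : ℤ) : L) * _ = ((χ a : ℤ) : L) * _
        rw [map_intCast]
      have h2 : ((χ t : ℤ) : L) * σ g = g := by
        rw [h1, hg]; exact gaussSum_mulShift χL ψ t
      have h3 : ((χ t : ℤ) : L) * ((χ t : ℤ) : L) = 1 := by
        rw [← Int.cast_mul, ← pow_two, quadraticChar_sq_one t.ne_zero, Int.cast_one]
      calc σ g = ((χ t : ℤ) : L) * ((χ t : ℤ) : L) * σ g := by rw [h3, one_mul]
        _ = _ := by rw [mul_assoc, h2]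
    rcases quadraticChar_dichotomy (a := (t : ZMod l)) t.ne_zero with h | h <;>
      change χ t = _ at h
    · have hA' : A.map (σ : L →+* L) = A := by
        rw [hA, hmapfac, himg, h, one_mul]
      have hB' : B.map (σ : L →+* L) = B := by
        rw [hB, hmapfac, himg, h, one_mul]
      refine ⟨by rw [hY, Polynomial.map_add, hA', hB'], ?_⟩
      rw [hZ, Polynomial.map_mul, Polynomial.map_sub, hA', hB', map_C]
      show _ * C (σ g⁻¹) = _
      rw [map_inv₀, hgσ, h, Int.cast_one, one_mul]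
    · have hA' : A.map (σ : L →+* L) = B := by
        rw [hA, hmapfac, himg, h, mul_one]
      have hB' : B.map (σ : L →+* L) = A := by
        rw [hB, hmapfac, himg, h, neg_mul_neg, one_mul]
      refine ⟨by rw [hY, Polynomial.map_add, hA', hB', add_comm], ?_⟩
      rw [hZ, Polynomial.map_mul, Polynomial.map_sub, hA', hB', map_C]
      show _ * C (σ g⁻¹) = _
      rw [map_inv₀, hgσ, h]
      push_cast
      rw [neg_one_mul, inv_neg, map_neg]
      ring
  have hlift : ∀ P : L[X], (∀ σ : L ≃ₐ[ℚ] L, P.map (σ : L →+* L) = P) →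
      ∃ P₀ : ℚ[X], P₀.map (algebraMap ℚ L) = P := by
    intro P hP
    refine (Polynomial.lifts_iff_coeff_lifts P).2 fun n => ?_
    rw [IsGalois.mem_range_algebraMap_iff_fixed]
    intro σ
    have := congrArg (fun Q => Q.coeff n) (hP σ)
    simpa [coeff_map] using this
  obtain ⟨Y, hYe⟩ := hlift Yp fun σ => (hfix σ).1
  obtain ⟨Z, hZe⟩ := hlift Zp fun σ => (hfix σ).2
  refine ⟨Y, Z, Polynomial.map_injective _ (algebraMap ℚ L).injective ?_⟩
  rw [Polynomial.map_add, Polynomial.map_mul, Polynomial.map_pow, Polynomial.map_pow,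
    hYe, hZe, map_C, map_natCast, Polynomial.map_mul, Polynomial.map_sum,
    Polynomial.map_ofNat]
  simp only [Polynomial.map_pow, map_X]
  rw [← hAB, hY, hZ, mul_pow, ← map_pow, inv_pow, hg2]
  have hc : C (l : L) * C ((-(l : L))⁻¹) = -1 := by
    rw [← map_mul, inv_neg, mul_neg, mul_inv_cancel₀ (Nat.cast_ne_zero.2 (Fact.out : l.Prime).ne_zero),
      map_neg, map_one]
  linear_combination (A - B) ^ 2 * hc

/-- A prime `l ≡ 3 (mod 20)` is a sum of two squares in a field containing `√5`. -/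
theorem prime_sum_sq {K : Type*} [Field K] [CharZero K] (w : K) (hw : w * w = 5) (l : ℕ)
    [Fact l.Prime] (hl : l % 20 = 3) : ∃ a b : K, (l : K) = a * a + b * b := by
  classical
  haveI : NeZero l := ⟨(Fact.out : l.Prime).ne_zero⟩
  have hl2 : ringChar (ZMod l) ≠ 2 := by rw [ZMod.ringChar_zmod_n]; omega
  haveI : Fact (Nat.Prime 5) := ⟨by norm_num⟩
  have h5 : ¬ IsSquare ((5 : ℕ) : ZMod l) := by
    rw [← ZMod.exists_sq_eq_prime_iff_of_mod_four_eq_one (p := 5) (q := l) (by norm_num) (by omega)]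
    rw [show ((l : ℕ) : ZMod 5) = 3 by
      rw [← ZMod.natCast_mod, show l % 5 = 3 by omega]; rfl]
    have h3 : ¬ IsSquare (3 : ZMod 5) := by decide +revert
    exact h3
  have h50 : ((5 : ℕ) : ZMod l) ≠ 0 := fun h => h5 (by rw [h]; exact IsSquare.zero)
  have hs : IsSquare (-((5 : ℕ) : ZMod l)) := by
    rw [← quadraticChar_one_iff_isSquare (neg_ne_zero.2 h50), neg_eq_neg_one_mul, map_mul,
      quadraticChar_neg_one hl2, ZMod.card, ZMod.χ₄_nat_three_mod_four (by omega),
      quadraticChar_neg_one_iff_not_isSquare.2 h5]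
    norm_num
  obtain ⟨s, hs⟩ := hs
  set n := Nat.sqrt l
  have hn1 : n * n < l := by
    refine lt_of_le_of_ne (Nat.sqrt_le l) fun h => ?_
    exact (Fact.out : l.Prime).not_isSquare ⟨n, h.symm⟩
  have hn2 : l < (n + 1) * (n + 1) := Nat.lt_succ_sqrt l
  obtain ⟨p, q, hpq, he⟩ := Fintype.exists_ne_map_eq_of_card_lt
    (fun p : Fin (n + 1) × Fin (n + 1) => ((p.1 : ℕ) : ZMod l) - s * ((p.2 : ℕ) : ZMod l))
    (by simp only [Fintype.card_prod, Fintype.card_fin, ZMod.card]; exact hn2)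
  set x : ℤ := ((p.1 : ℕ) : ℤ) - (q.1 : ℕ) with hx
  set y : ℤ := ((p.2 : ℕ) : ℤ) - (q.2 : ℕ) with hy
  have hxy : (x : ZMod l) = s * (y : ZMod l) := by
    rw [hx, hy]; push_cast
    linear_combination he
  have hdvd : (l : ℤ) ∣ x * x + 5 * (y * y) := by
    rw [← ZMod.intCast_zmod_eq_zero_iff_dvd]
    push_cast at hs ⊢
    rw [hxy]
    linear_combination -(y : ZMod l) * y * hs
  obtain ⟨k, hk⟩ := hdvd
  have hbx : x * x ≤ (n : ℤ) * n := by
    have := p.1.isLt; have := q.1.isLt
    have h1 : -(n : ℤ) ≤ x ∧ x ≤ n := by rw [hx]; omega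
    nlinarith
  have hby : y * y ≤ (n : ℤ) * n := by
    have := p.2.isLt; have := q.2.isLt
    have h1 : -(n : ℤ) ≤ y ∧ y ≤ n := by rw [hy]; omega
    nlinarith
  have hn1' : (n : ℤ) * n < l := by exact_mod_cast hn1
  have hkl : k ≤ 5 := by
    by_contra h
    have : (l : ℤ) * 6 ≤ (l : ℤ) * k := mul_le_mul_of_nonneg_left (by omega) (by omega)
    nlinarith
  have hk0 : 0 < k := by
    by_contra h
    have : (l : ℤ) * k ≤ 0 := mul_nonpos_of_nonneg_of_nonpos (by omega) (by omega)
    have hx0 : x = 0 := by nlinarith [mul_self_nonneg x, mul_self_nonneg y]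
    have hy0 : y = 0 := by nlinarith [mul_self_nonneg x, mul_self_nonneg y]
    refine hpq (Prod.ext (Fin.ext ?_) (Fin.ext ?_)) <;> omega
  have hval : (l : K) * (k : K) = (x : K) * x + ((y : K) * w) * ((y : K) * w) := by
    have h : ((x * x + 5 * (y * y) : ℤ) : K) = (((l : ℤ) * k : ℤ) : K) := by rw [hk]
    push_cast at h
    linear_combination -h - (y : K) * y * hw
  have hsum : ∃ a b : K, (k : K) = a * a + b * b := by
    rcases (by omega : k = 1 ∨ k = 2 ∨ k = 3 ∨ k = 4 ∨ k = 5) with rfl | rfl | rfl | rfl | rfl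
    · exact ⟨1, 0, by norm_num⟩
    · exact ⟨1, 1, by norm_num⟩
    · exact ⟨(1 + w) / 2, (1 - w) / 2, by push_cast; linear_combination -(1 / 2 : K) * hw⟩
    · exact ⟨2, 0, by norm_num⟩
    · exact ⟨2, 1, by norm_num⟩
  obtain ⟨a, b, hab⟩ := hsum
  have hkK : (k : K) ≠ 0 := Int.cast_ne_zero.2 (by omega)
  refine ⟨((x : K) * a + (y : K) * w * b) / k, ((x : K) * b - (y : K) * w * a) / k, ?_⟩
  field_simp
  linear_combination (k : K) * hval + ((x : K) * x + (y : K) * w * ((y : K) * w)) * hab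

/-- The auxiliary prime. -/
theorem exists_aux_prime {r : ℕ} [Fact r.Prime] (hr : 7 ≤ r) :
    ∃ l : ℕ, l.Prime ∧ l % 20 = 3 ∧ (l : ZMod r) ^ (r / 2) = -1 := by
  have hr2 : ringChar (ZMod r) ≠ 2 := by rw [ZMod.ringChar_zmod_n]; omega
  obtain ⟨c, hc⟩ := quadraticChar_exists_neg_one hr2
  have hc0 : c ≠ 0 := fun h => by rw [h, MulChar.map_zero] at hc; omega
  have hcop : Nat.Coprime 20 r := by
    rw [Nat.coprime_comm, (Fact.out : r.Prime).coprime_iff_not_dvd]
    intro h
    have h' := Nat.le_of_dvd (by norm_num) h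
    have key : ∀ d < 21, d ∣ 20 → 7 ≤ d → d = 10 ∨ d = 20 := by decide
    rcases key r (by omega) h hr with he | he <;>
      exact absurd ((Fact.out : r.Prime)) (by rw [he]; norm_num)
  haveI : NeZero (20 * r) := ⟨by positivity⟩
  let e := ZMod.chineseRemainder hcop
  let a : ZMod (20 * r) := e.symm (3, c)
  have hu : IsUnit a := by
    have h3 : IsUnit (3 : ZMod 20) := IsUnit.of_mul_eq_one (7 : ZMod 20) (by decide)
    exact (Prod.isUnit_iff.2 ⟨h3, hc0.isUnit⟩).map e.symm
  obtain ⟨l, -, hl, hla⟩ := Nat.forall_exists_prime_gt_and_eq_mod hu 0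
  have h := congrArg e hla
  simp only [a, RingEquiv.apply_symm_apply, map_natCast] at h
  have h20 : (l : ZMod 20) = 3 := congrArg Prod.fst h
  have hrc : (l : ZMod r) = c := congrArg Prod.snd h
  refine ⟨l, hl, ?_, ?_⟩
  · have := congrArg ZMod.val h20
    rwa [ZMod.val_natCast] at this
  · rw [hrc]
    have h1 := quadraticChar_eq_pow_of_char_ne_two' hr2 c
    rw [hc, ZMod.card] at h1
    push_cast at h1
    exact h1.symm

/-- **`-1` is a sum of two squares in `ℚ(√5, ζ_r)`.** -/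
theorem neg_one_sum_sq {K : Type*} [Field K] [CharZero K] {r : ℕ} (hr : r.Prime) (h7 : 7 ≤ r)
    {ζ w : K} (hζ : IsPrimitiveRoot ζ r) (hw : w * w = 5) : ∃ a b : K, a * a + b * b = -1 := by
  classical
  haveI : Fact r.Prime := ⟨hr⟩
  obtain ⟨l, hl, hl20, hlr⟩ := exists_aux_prime (r := r) h7
  haveI : Fact l.Prime := ⟨hl⟩
  obtain ⟨Y, Z, hYZ⟩ := gauss_identity l (by omega)
  let M : K → Prop := fun z => ∃ u v : K, z = u * u + (l : K) * (v * v)
  have hmul : ∀ z z', M z → M z' → M (z * z') := by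
    rintro _ _ ⟨u, v, rfl⟩ ⟨u', v', rfl⟩
    exact ⟨u * u' + l * (v * v'), u * v' - v * u', by ring⟩
  have hlr0 : (l : ZMod r) ≠ 0 := fun h => by
    rw [h, zero_pow (by omega)] at hlr
    simp at hlr
  have hne : ∀ i, ζ ^ l ^ i - 1 ≠ 0 := by
    intro i h
    rw [sub_eq_zero, hζ.pow_eq_one_iff_dvd, ← ZMod.natCast_eq_zero_iff, Nat.cast_pow] at h
    exact hlr0 (eq_zero_of_pow_eq_zero h)
  have hstep : ∀ i, M ((ζ ^ l ^ (i + 1) - 1) / (ζ ^ l ^ i - 1)) := by
    intro i
    set t := ζ ^ l ^ i with ht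
    have h1 : ζ ^ l ^ (i + 1) = t ^ l := by rw [ht, ← pow_mul, ← pow_succ]
    rw [h1, ← geom_sum_eq (sub_ne_zero.1 (hne i))]
    have h2 := congrArg (aeval t) hYZ
    simp only [map_add, map_mul, map_pow, aeval_C, map_natCast, map_ofNat, map_sum, aeval_X] at h2
    exact ⟨aeval t Y / 2, aeval t Z / 2, by field_simp; linear_combination -h2⟩
  have hprod : ∀ i, M ((ζ ^ l ^ i - 1) / (ζ - 1)) := by
    intro i
    induction i with
    | zero =>
      refine ⟨1, 0, ?_⟩
      have := hne 0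
      rw [pow_zero, pow_one] at this ⊢
      rw [div_self this]; ring
    | succ i ih =>
      convert hmul _ _ (hstep i) ih using 1
      rw [div_mul_div_cancel₀ (hne i)]
  have hk : ζ ^ l ^ (r / 2) = ζ ^ (r - 1) := by
    apply pow_eq_pow_of_modEq _ hζ.pow_eq_one
    rw [← ZMod.natCast_eq_natCast_iff, Nat.cast_pow, hlr, Nat.cast_sub (by omega)]
    simp
  have hζ0 : ζ ≠ 0 := hζ.ne_zero hr.ne_zero
  have hζ1 : ζ - 1 ≠ 0 := by
    have := hne 0
    rwa [pow_zero, pow_one] at this
  have hinv : ζ ^ (r - 1) = ζ⁻¹ := by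
    refine eq_inv_of_mul_eq_one_left ?_
    rw [← pow_succ, Nat.sub_add_cancel hr.pos, hζ.pow_eq_one]
  have hM : M (-ζ⁻¹) := by
    have h := hprod (r / 2)
    rw [hk, hinv] at h
    convert h using 1
    field_simp
    ring
  obtain ⟨h, hh⟩ := hr.odd_of_ne_two (by omega)
  have hsq : ζ = ζ ^ (h + 1) * ζ ^ (h + 1) := by
    rw [← pow_add, show h + 1 + (h + 1) = r + 1 by omega, pow_succ, hζ.pow_eq_one, one_mul]
  have hMz : M ζ := ⟨ζ ^ (h + 1), 0, by rw [mul_zero, mul_zero, add_zero, ← hsq]⟩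
  obtain ⟨u, v, huv⟩ := hmul _ _ hM hMz
  rw [neg_mul, inv_mul_cancel₀ hζ0] at huv
  obtain ⟨a, b, hab⟩ := prime_sum_sq w hw l hl20
  by_cases hu : 1 + u * u = 0
  · exact ⟨u, 0, by linear_combination hu⟩
  -- `-(1 + u²) = l v²` is a sum of two squares
  refine ⟨(a * v * u + b * v) / (1 + u * u), (a * v - b * v * u) / (1 + u * u), ?_⟩
  have key : (a * v * u + b * v) * (a * v * u + b * v) + (a * v - b * v * u) * (a * v - b * v * u) =
      -1 * ((1 + u * u) * (1 + u * u)) := by
    linear_combination -(1 + u * u) * huv - (1 + u * u) * (v * v) * hab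
  rw [div_mul_div_comm, div_mul_div_comm, ← add_div, div_eq_iff (mul_ne_zero hu hu)]
  exact key

end Cfsg.Agent.FGS80.LevelTwo
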