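import Cfsg.Agent.Lib.Transfer.Frobenius
import Cfsg.Agent.FGS80.Basic
import Cfsg.Agent.Lib.Transfer.Hall
import Cfsg.Agent.Lib.Fitting
import Cfsg.Agent.Lib.Coprime.SchurZassenhaus

/-!
# Groups whose proper subgroups of order divisible by `p` are nilpotent
-/

set_option autoImplicit false

namespace Cfsg.Agent.FGS80

variable {G : Type*} [Group G]

/-- Elements of coprime order in a nilpotent subgroup commute. -/
theorem commute_of_isNilpotent [Finite G] {H : Subgroup G} (hH : Group.IsNilpotent H) {x y : G}
    (hx : x ∈ H) (hy : y ∈ H) (hxy : (orderOf x).Coprime (orderOf y)) : Commute x y := by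
  have := Transfer.nilpotent_commute_of_coprime hH (x := (⟨x, hx⟩ : H)) (y := ⟨y, hy⟩)
    (by rwa [Subgroup.orderOf_mk, Subgroup.orderOf_mk])
  exact congrArg Subtype.val this

theorem card_sup_le [Finite G] {N H : Subgroup G} (hH : H ≤ Subgroup.normalizer (N : Set G)) :
    Nat.card (N ⊔ H : Subgroup G) ≤ Nat.card N * Nat.card H := by
  rw [← Nat.card_prod]
  refine Nat.card_le_card_of_surjective
    (fun nh : N × H => (⟨nh.1 * nh.2, Subgroup.mul_mem_sup nh.1.2 nh.2.2⟩ : (N ⊔ H : Subgroup G)))
    fun x => ?_
  obtain ⟨n, hn, h, hh, hx⟩ := Coprime.exists_mul_of_mem_sup hH x.2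
  exact ⟨(⟨n, hn⟩, ⟨h, hh⟩), Subtype.ext (by simpa using hx.symm)⟩

/-- A normal `p`-complement that is not of prime-power order is centralised by a Sylow
`p`-subgroup, so that subgroup is normal. -/
theorem normal_sylow_of_complement [Finite G] {p : ℕ} [hp : Fact p.Prime] (hpG : p ∣ Nat.card G)
    (h : ∀ H : Subgroup G, H ≠ ⊤ → p ∣ Nat.card H → Group.IsNilpotent H)
    {K : Subgroup G} [K.Normal] (P : Sylow p G) (hK : K.IsComplement' (P : Subgroup G))
    (hnq : ∀ q : ℕ, q.Prime → ¬ IsPGroup q K) : (P : Subgroup G).Normal := by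
  have hcard := hK.card_mul
  have hpP : p ∣ Nat.card (P : Subgroup G) := P.dvd_card_of_dvd_card hpG
  have hpK : (Nat.card K).Coprime p := by
    refine (hp.out.coprime_iff_not_dvd.mpr fun hd => ?_).symm
    rw [← hK.index_eq_card] at hd
    exact P.not_dvd_index hd
  have hle : K ≤ Subgroup.centralizer ((P : Subgroup G) : Set G) := by
    refine Subgroup.subgroupOf_eq_top.mp (Subgroup.eq_top_of_card_eq _
      (Nat.dvd_antisymm (Subgroup.card_subgroup_dvd_card _)
        ((Nat.dvd_iff_prime_pow_dvd_dvd _ _).mpr fun q n hq hqn => ?_)))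
    rcases Nat.eq_zero_or_pos n with rfl | hn
    · simp
    have : Fact q.Prime := ⟨hq⟩
    obtain ⟨S⟩ : Nonempty (Sylow q K) := inferInstance
    set Q := (S : Subgroup K).map K.subtype with hQ
    have hQK : Q ≤ K := Subgroup.map_subtype_le _
    have hfr : Subgroup.normalizer (Q : Set G) ⊔ K = ⊤ := Sylow.normalizer_sup_eq_top S
    set N := Subgroup.normalizer (Q : Set G) with hN
    obtain ⟨R⟩ : Nonempty (Sylow p N) := inferInstance
    set R' := (R : Subgroup N).map N.subtype with hR'
    have hRN : R' ≤ Subgroup.normalizer (Q : Set G) := Subgroup.map_subtype_le _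
    -- `R'` is a Sylow `p`-subgroup of `G`
    have hpidx : ¬ p ∣ N.index := by
      intro hd
      have h1 : N.index ∣ Nat.card K := by
        refine dvd_trans ?_ (Subgroup.relIndex_dvd_card (H := N) (K := K))
        rw [← relIndex_sup_of_normal N K, hfr, Subgroup.relIndex_top_right]
      exact hp.out.ne_one (Nat.eq_one_of_dvd_coprimes hpK (hd.trans h1) dvd_rfl)
    have hRidx : ¬ p ∣ R'.index := by
      rw [hR', Subgroup.index_map_subtype]
      exact hp.out.not_dvd_mul R.not_dvd_index hpidx
    let R₀ : Sylow p G := (R.isPGroup'.map N.subtype).toSylow hRidx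
    have hcardR : Nat.card R' = Nat.card (P : Subgroup G) := Sylow.card_eq_multiplicity R₀ |>.trans
      (Sylow.card_eq_multiplicity P).symm
    have hne : Q ⊔ R' ≠ ⊤ := by
      intro htop
      have h1 := card_sup_le hRN
      rw [htop, Subgroup.card_top, ← hcard, hcardR] at h1
      have h2 : Q = K := Subgroup.eq_of_le_of_card_ge hQK
        (Nat.le_of_mul_le_mul_right h1 Nat.card_pos)
      exact hnq q hq (h2 ▸ S.isPGroup'.map K.subtype)
    have hnil := h _ hne (dvd_trans (hcardR ▸ hpP) (Subgroup.card_dvd_of_le le_sup_right))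
    obtain ⟨m, hm⟩ := (R₀.isPGroup').exists_card_eq
    obtain ⟨g, hg⟩ := MulAction.exists_smul_eq G R₀ P
    have hqdvd : q ^ n ∣ Nat.card (S : Subgroup K) := S.pow_dvd_card_of_pow_dvd_card hqn
    refine hqdvd.trans ?_
    rw [← Subgroup.card_map_of_injective (K := (S : Subgroup K)) K.subtype_injective, ← hQ,
      ← Subgroup.card_map_of_injective (K := Q) (f := (MulAut.conj g).toMonoidHom)
        (MulAut.conj g).injective,
      ← Subgroup.card_map_of_injective
        (K := (Subgroup.centralizer ((P : Subgroup G) : Set G)).subgroupOf K) K.subtype_injective,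
      Subgroup.subgroupOf_map_subtype]
    refine Subgroup.card_dvd_of_le ?_
    rintro _ ⟨x, hx, rfl⟩
    refine ⟨Subgroup.mem_centralizer_iff.mpr fun y hy => ?_,
      Subgroup.Normal.conj_mem inferInstance x (hQK hx) g⟩
    rw [← hg] at hy
    obtain ⟨r, hr, rfl⟩ := hy
    have hco : (orderOf r).Coprime (orderOf x) := by
      refine Nat.Coprime.coprime_dvd_left (Subgroup.orderOf_dvd_natCard _ hr)
        (Nat.Coprime.coprime_dvd_right (Subgroup.orderOf_dvd_natCard _ (hQK hx)) ?_)
      show (Nat.card (R₀ : Subgroup G)).Coprime (Nat.card K)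
      rw [hm]
      exact (hpK.pow_right m).symm
    have hc := commute_of_isNilpotent hnil (le_sup_right (a := Q) (show r ∈ R' from hr))
      (le_sup_left (b := R') hx) hco
    exact (congrArg (MulAut.conj g) hc.eq).trans (map_mul _ _ _) |> fun e =>
      (map_mul (MulAut.conj g) r x).symm.trans e
  refine Subgroup.normalizer_eq_top_iff.mp (top_le_iff.mp ?_)
  rw [← hK.sup_eq_top, sup_le_iff]
  exact ⟨hle.trans (Subgroup.centralizer_le_normalizer _), Subgroup.le_normalizer⟩

/-- If `O_p(G) = 1` and every proper subgroup of order divisible by `p` is nilpotent, then `G` has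
a normal `p`-complement. -/
theorem hasNormalPComplement_of_nilpotent [Finite G] {p : ℕ} [hp : Fact p.Prime]
    (h : ∀ H : Subgroup G, H ≠ ⊤ → p ∣ Nat.card H → Group.IsNilpotent H)
    (hcore : Cfsg.pCore p G = ⊥) : Cfsg.HasNormalPComplement p G := by
  refine Transfer.hasNormalPComplement_of_normalizer_centralizer (default : Sylow p G)
    fun Q hQ hQ0 g hg hgp => ?_
  have hQp : IsPGroup p Q := (default : Sylow p G).2.to_le hQ
  have hne : Subgroup.normalizer (Q : Set G) ≠ ⊤ := fun htop =>
    hQ0 (le_bot_iff.mp (hcore ▸ le_sSup ⟨Subgroup.normalizer_eq_top_iff.mp htop, hQp⟩))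
  have hdvd : p ∣ Nat.card (Subgroup.normalizer (Q : Set G)) :=
    ((hQp.card_eq_or_dvd).resolve_left fun h1 => hQ0 (Subgroup.card_eq_one.mp h1)).trans
      (Subgroup.card_dvd_of_le Subgroup.le_normalizer)
  refine Subgroup.mem_centralizer_iff.mpr fun y hy => ?_
  obtain ⟨m, hm⟩ := hQp ⟨y, hy⟩
  refine commute_of_isNilpotent (h _ hne hdvd) (Subgroup.le_normalizer hy) hg
    (Nat.Coprime.coprime_dvd_left (orderOf_dvd_of_pow_eq_one (congrArg Subtype.val hm : y ^ p ^ m = 1))
      (hgp.pow_right m).symm)

universe u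

/-- If every proper subgroup of order divisible by some prime `p ∣ #G` is nilpotent, `G` is
solvable. -/
theorem isSolvable_of_nilpotent_dvd : ∀ (n : ℕ) (G : Type u) [Group G] [Finite G],
    Nat.card G = n → ∀ p : ℕ, p.Prime → p ∣ n →
    (∀ H : Subgroup G, H ≠ ⊤ → p ∣ Nat.card H → Group.IsNilpotent H) → Group.IsSolvable G := by
  intro n
  induction n using Nat.strong_induction_on with
  | _ n ih =>
    intro G _ _ hn p hp hpn h
    have : Fact p.Prime := ⟨hp⟩
    subst hn
    obtain ⟨P⟩ : Nonempty (Sylow p G) := inferInstance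
    rcases eq_or_ne (Cfsg.pCore p G) ⊥ with hcore | hcore
    · obtain ⟨K, hKn, hK⟩ := (Transfer.hasNormalPComplement_iff_exists P).mp
        (hasNormalPComplement_of_nilpotent h hcore)
      by_cases hq : ∃ q : ℕ, q.Prime ∧ IsPGroup q K
      · obtain ⟨q, hq, hKq⟩ := hq
        have : Fact q.Prime := ⟨hq⟩
        have := hKq.isNilpotent
        obtain ⟨m, hm⟩ := P.isPGroup'.exists_card_eq
        have hQp : IsPGroup p (G ⧸ K) := IsPGroup.of_card
          (show Nat.card (G ⧸ K) = p ^ m by rw [← hm]; exact hK.symm.index_eq_card)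
        have := hQp.isNilpotent
        exact (Group.isSolvable_iff_subgroup_quotient K).mpr ⟨inferInstance, inferInstance⟩
      · have hPn := normal_sylow_of_complement hpn h P hK fun q hq' hKq => hq ⟨q, hq', hKq⟩
        have hb : (P : Subgroup G) = ⊥ :=
          le_bot_iff.mp (hcore ▸ le_sSup ⟨hPn, P.isPGroup'⟩)
        have := P.dvd_card_of_dvd_card hpn
        rw [hb, Subgroup.card_bot] at this
        exact absurd this hp.not_dvd_one
    · have hZn : (Cfsg.pCore p G).Normal := Fitting.pCore_normal p
      set Z := Cfsg.pCore p G with hZ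
      have hZnil : Group.IsNilpotent Z := (Fitting.pCore_isPGroup p).isNilpotent
      have hlt : Nat.card (G ⧸ Z) < Nat.card G := by
        rw [Subgroup.card_eq_card_quotient_mul_card_subgroup Z]
        exact lt_mul_of_one_lt_right Nat.card_pos ((Subgroup.one_lt_card_iff_ne_bot Z).mpr hcore)
      suffices hq : Group.IsSolvable (G ⧸ Z) from
        (Group.isSolvable_iff_subgroup_quotient Z).mpr ⟨inferInstance, hq⟩
      set π := QuotientGroup.mk' Z with hπ
      have hπs : Function.Surjective π := QuotientGroup.mk'_surjective Z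
      by_cases hpq : p ∣ Nat.card (G ⧸ Z)
      · refine ih _ hlt (G ⧸ Z) rfl p hp hpq fun H hH hpH => ?_
        rw [← Subgroup.map_comap_eq_self_of_surjective hπs H]
        refine Fitting.isNilpotent_map π (h _ (fun htop => hH ?_) (hpH.trans ?_))
        · rw [← Subgroup.map_comap_eq_self_of_surjective hπs H, htop,
            Subgroup.map_top_of_surjective π hπs]
        · conv_lhs => rw [← Subgroup.map_comap_eq_self_of_surjective hπs H]
          exact Subgroup.card_dvd_of_surjective (π.subgroupMap _) (π.subgroupMap_surjective _)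
      · rcases eq_or_ne (Nat.card (G ⧸ Z)) 1 with h1 | h1
        · have : Subsingleton (G ⧸ Z) := (Nat.card_eq_one_iff_unique.mp h1).1
          exact Group.isSolvable_of_comm fun a b => Subsingleton.elim _ _
        obtain ⟨r, hr, hrd⟩ := Nat.exists_prime_and_dvd h1
        refine ih _ hlt (G ⧸ Z) rfl r hr hrd fun H hH _ => ?_
        rw [← Subgroup.map_comap_eq_self_of_surjective hπs H]
        refine Fitting.isNilpotent_map π (h _ (fun htop => hH ?_) ?_)
        · rw [← Subgroup.map_comap_eq_self_of_surjective hπs H, htop,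
            Subgroup.map_top_of_surjective π hπs]
        · refine dvd_trans ?_ (Subgroup.card_dvd_of_le
            (show Z ≤ H.comap π from fun z hz => by
              rw [Subgroup.mem_comap, hπ, QuotientGroup.mk'_apply,
                (QuotientGroup.eq_one_iff z).mpr hz]
              exact H.one_mem))
          exact ((Fitting.pCore_isPGroup p).card_eq_or_dvd).resolve_left
            fun h1 => hcore (Subgroup.card_eq_one.mp h1)

end Cfsg.Agent.FGS80
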