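import Mathlib

/-!
# Normalisers in a simple group of order `1092`

Every nontrivial proper subgroup of a simple group of order `1092 = 2²·3·7·13` has a maximal
normaliser.
-/

set_option autoImplicit false
set_option linter.style.haveILetI false

namespace Cfsg.Agent.FGS80.Order1092

open Subgroup

variable {G : Type*} [Group G] [Finite G]

/-- A subgroup of order `p ^ e` with `|G| = p ^ e * m`, `p ∤ m`, is a Sylow subgroup. -/
theorem card_sylow {p e m : ℕ} [hp : Fact p.Prime] (hG : Nat.card G = p ^ e * m) (hm : ¬ p ∣ m)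
    (P : Sylow p G) : Nat.card (P : Subgroup G) = p ^ e := by
  obtain ⟨k, hk⟩ := IsPGroup.iff_card.1 P.isPGroup'
  have h := (P : Subgroup G).card_mul_index
  rw [hG, hk] at h
  have h1 : p ^ k ∣ p ^ e * m := ⟨_, h.symm⟩
  have h2 : p ^ e ∣ p ^ k * (P : Subgroup G).index := ⟨_, h⟩
  rw [hk]
  exact Nat.dvd_antisymm
    ((Nat.Coprime.pow_left k (hp.out.coprime_iff_not_dvd.2 hm)).dvd_of_dvd_mul_right h1)
    ((Nat.Coprime.pow_left e (hp.out.coprime_iff_not_dvd.2 P.not_dvd_index)).dvd_of_dvd_mul_right h2)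

/-- The number of Sylow subgroups divides the cofactor. -/
theorem card_sylow_dvd {p e m : ℕ} [hp : Fact p.Prime] (hG : Nat.card G = p ^ e * m) (hm : ¬ p ∣ m)
    (P : Sylow p G) : Nat.card (Sylow p G) ∣ m := by
  have h := (P : Subgroup G).card_mul_index
  rw [hG, card_sylow hG hm P] at h
  rw [← Nat.eq_of_mul_eq_mul_left (pow_pos hp.out.pos e) h]
  exact P.card_dvd_index

variable [IsSimpleGroup G] (hG : Nat.card G = 1092)
include hG

theorem normalizer_ne_top {H : Subgroup G} (h1 : H ≠ ⊥) (h2 : H ≠ ⊤) :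
    normalizer (H : Set G) ≠ ⊤ := fun h => by
  rcases (normalizer_eq_top_iff.1 h).eq_bot_or_eq_top with h' | h'
  exacts [h1 h', h2 h']

theorem index_ge {H : Subgroup G} (hH : H ≠ ⊤) : 13 ≤ H.index := by
  have hcore : H.normalCore = ⊥ := by
    rcases (H.normalCore_normal).eq_bot_or_eq_top with h | h
    · exact h
    · exact absurd (top_le_iff.1 (h ▸ H.normalCore_le)) hH
  rw [normalCore_eq_ker] at hcore
  have hinj := (MonoidHom.ker_eq_bot_iff _).1 hcore
  have hd := Subgroup.card_dvd_of_injective _ hinj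
  rw [hG, Nat.card_perm] at hd
  have h13 : 13 ∣ (Nat.card (G ⧸ H)).factorial := dvd_trans (by norm_num) hd
  exact (Nat.Prime.dvd_factorial (by norm_num)).1 h13

theorem card_le {H : Subgroup G} (hH : H ≠ ⊤) : Nat.card H ≤ 84 := by
  have h1 := H.card_mul_index
  have h2 := index_ge hG hH
  rw [hG] at h1
  by_contra h
  have : 85 * 13 ≤ Nat.card H * H.index := Nat.mul_le_mul (by omega) h2
  omega

theorem card_dvd (H : Subgroup G) : Nat.card H ∣ 1092 := hG ▸ card_subgroup_dvd_card H

/-- A group of order `1092` is not `p`-nilpotent. -/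
theorem not_normalizer_le_centralizer {p e m : ℕ} [Fact p.Prime] (hm : 1092 = p ^ e * m)
    (hpm : ¬ p ∣ m) (he : 1 < p ^ e) (hm1 : m ≠ 1) (P : Sylow p G) :
    ¬ normalizer (P : Set G) ≤ centralizer (P : Set G) := fun h => by
  have hc := MonoidHom.ker_transferSylow_isComplement' P h
  have h1 := card_sylow (hG.trans hm) hpm P
  have h2 := hc.card_mul
  rw [h1, hG] at h2
  rcases (MonoidHom.transferSylow P h).normal_ker.eq_bot_or_eq_top with h' | h' <;>
    rw [h'] at h2
  · rw [card_bot, one_mul] at h2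
    refine hm1 ?_
    rw [← h2] at hm
    exact Nat.eq_of_mul_eq_mul_left (by omega) (hm.symm.trans (mul_one _).symm)
  · rw [card_top, hG] at h2
    omega

theorem sylow_not_normal {p e m : ℕ} [Fact p.Prime] (hm : 1092 = p ^ e * m)
    (hpm : ¬ p ∣ m) (he : 1 < p ^ e) (hm1 : m ≠ 1) (P : Sylow p G) : Nat.card (Sylow p G) ≠ 1 := by
  intro h
  have hs := P.card_eq_index_normalizer
  rw [h] at hs
  have h1 := card_sylow (hG.trans hm) hpm P
  rcases (normalizer_eq_top_iff.1 (Subgroup.index_eq_one.1 hs.symm)).eq_bot_or_eq_top with h' | h' <;>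
    rw [h'] at h1
  · rw [card_bot] at h1; omega
  · rw [card_top, hG] at h1
    refine hm1 ?_
    rw [← h1] at hm
    omega

theorem norm13 {R : Subgroup G} (hR : Nat.card R = 13) :
    Nat.card (normalizer (R : Set G)) = 78 := by
  haveI : Fact (Nat.Prime 13) := ⟨by norm_num⟩
  let P : Sylow 13 G := Sylow.ofCard R (by
    rw [hR, hG, show (1092 : ℕ) = 13 ^ 1 * 84 by norm_num,
      Nat.factorization_mul (by norm_num) (by norm_num)]
    simp [(show Nat.Prime 13 by norm_num).factorization_self,
      Nat.factorization_eq_zero_of_not_dvd (show ¬ 13 ∣ 84 by norm_num)])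
  have hd := card_sylow_dvd (p := 13) (e := 1) (m := 84) hG (by norm_num) P
  have h1 := sylow_not_normal hG (p := 13) (e := 1) (m := 84) (by norm_num) (by norm_num)
    (by norm_num) (by norm_num) P
  have hmod := card_sylow_modEq_one 13 G
  have key : ∀ d ∈ Nat.divisors 84, d % 13 = 1 → d = 1 ∨ d = 14 := by decide
  have h14 := (key _ (Nat.mem_divisors.2 ⟨hd, by norm_num⟩) hmod).resolve_left h1
  have hidx := P.card_eq_index_normalizer
  have hP : (P : Subgroup G) = R := Sylow.coe_ofCard _ _
  rw [h14] at hidx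
  have h2 := (normalizer (R : Set G)).card_mul_index
  rw [← hP] at h2 ⊢
  rw [show ((P : Set G)) = ((P : Subgroup G) : Set G) from rfl] at hidx
  rw [← hidx, hG] at h2
  omega

theorem norm7 {R : Subgroup G} (hR : Nat.card R = 7) :
    Nat.card (normalizer (R : Set G)) = 14 := by
  haveI : Fact (Nat.Prime 7) := ⟨by norm_num⟩
  let P : Sylow 7 G := Sylow.ofCard R (by
    rw [hR, hG, show (1092 : ℕ) = 7 ^ 1 * 156 by norm_num,
      Nat.factorization_mul (by norm_num) (by norm_num)]
    simp [(show Nat.Prime 7 by norm_num).factorization_self,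
      Nat.factorization_eq_zero_of_not_dvd (show ¬ 7 ∣ 156 by norm_num)])
  have hd := card_sylow_dvd (p := 7) (e := 1) (m := 156) hG (by norm_num) P
  have h1 := sylow_not_normal hG (p := 7) (e := 1) (m := 156) (by norm_num) (by norm_num)
    (by norm_num) (by norm_num) P
  have hmod := card_sylow_modEq_one 7 G
  have key : ∀ d ∈ Nat.divisors 156, d % 7 = 1 → d = 1 ∨ d = 78 := by decide
  have h14 := (key _ (Nat.mem_divisors.2 ⟨hd, by norm_num⟩) hmod).resolve_left h1
  have hidx := P.card_eq_index_normalizer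
  have hP : (P : Subgroup G) = R := Sylow.coe_ofCard _ _
  rw [h14] at hidx
  have h2 := (normalizer (R : Set G)).card_mul_index
  rw [← hP] at h2 ⊢
  rw [show ((P : Set G)) = ((P : Subgroup G) : Set G) from rfl] at hidx
  rw [← hidx, hG] at h2
  omega

/-- A subgroup `H` of order divisible by `p` with few Sylow subgroups normalises one of order `p`. -/
theorem exists_normal_of_unique {p : ℕ} [hp : Fact p.Prime] {H : Subgroup G} (hdvd : p ∣ Nat.card H)
    (hsq : ¬ p ^ 2 ∣ 1092) (key : ∀ d : ℕ, d * p ∣ Nat.card H → d % p = 1 → d = 1) :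
    ∃ R : Subgroup G, R ≤ H ∧ Nat.card R = p ∧ H ≤ normalizer (R : Set G) := by
  obtain ⟨m, hm⟩ := hdvd
  have hpm : ¬ p ∣ m := by
    rintro ⟨c, rfl⟩
    exact hsq ((dvd_trans ⟨c, by ring⟩ (hm ▸ card_dvd hG H : p * (p * c) ∣ 1092)))
  obtain ⟨S⟩ : Nonempty (Sylow p ↥H) := inferInstance
  have hm' : Nat.card H = p ^ 1 * m := by rw [pow_one, hm]
  have hd := card_sylow_dvd hm' hpm S
  have h1 : Nat.card (Sylow p ↥H) = 1 := by
    refine key _ (by rw [hm, mul_comm p]; exact Nat.mul_dvd_mul_right hd p) ?_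
    have h := card_sylow_modEq_one p ↥H
    rw [Nat.ModEq, Nat.one_mod_eq_one.2 hp.out.ne_one] at h
    exact h
  have hnorm : (S : Subgroup ↥H).Normal := by
    rw [← normalizer_eq_top_iff, ← index_eq_one]
    exact S.card_eq_index_normalizer.symm.trans h1
  refine ⟨(S : Subgroup ↥H).map H.subtype, map_subtype_le _, ?_, ?_⟩
  · rw [card_map_of_injective H.subtype_injective, card_sylow hm' hpm S, pow_one]
  · intro x hx
    rw [mem_normalizer_iff]
    intro y
    constructor
    · rintro ⟨s, hs, rfl⟩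
      exact ⟨⟨x, hx⟩ * s * ⟨x, hx⟩⁻¹, hnorm.conj_mem s hs _, rfl⟩
    · rintro ⟨s, hs, he⟩
      exact ⟨⟨x, hx⟩⁻¹ * s * ⟨x, hx⟩⁻¹⁻¹, hnorm.conj_mem s hs _, by
        simp only [map_mul, map_inv, inv_inv, coe_subtype] at he ⊢
        rw [he]; group⟩

theorem trichotomy {H : Subgroup G} (hH : H ≠ ⊤) :
    Nat.card H ∣ 12 ∨
    (∃ R : Subgroup G, R ≤ H ∧ Nat.card R = 7 ∧ H ≤ normalizer (R : Set G)) ∨
    (∃ R : Subgroup G, R ≤ H ∧ Nat.card R = 13 ∧ H ≤ normalizer (R : Set G)) := by
  have hle := card_le hG hH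
  have hd := card_dvd hG H
  by_cases h13 : 13 ∣ Nat.card H
  · right; right
    haveI : Fact (Nat.Prime 13) := ⟨by norm_num⟩
    refine exists_normal_of_unique hG h13 (by norm_num) fun d hdd hmod => ?_
    have := Nat.le_of_dvd Nat.card_pos hdd
    omega
  by_cases h7 : 7 ∣ Nat.card H
  · right; left
    haveI : Fact (Nat.Prime 7) := ⟨by norm_num⟩
    refine exists_normal_of_unique hG h7 (by norm_num) fun d hdd hmod => ?_
    have h1 := Nat.le_of_dvd Nat.card_pos hdd
    have h2 : d ∈ Nat.divisors 156 := by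
      refine Nat.mem_divisors.2 ⟨Nat.dvd_of_mul_dvd_mul_right (by norm_num : 0 < 7) ?_, by norm_num⟩
      exact hdd.trans hd
    have key : ∀ d ∈ Nat.divisors 156, d ≤ 12 → d % 7 = 1 → d = 1 := by decide
    exact key d h2 (by omega) hmod
  left
  have key : ∀ d ∈ Nat.divisors 1092, ¬ 13 ∣ d → ¬ 7 ∣ d → d ∣ 12 := by decide +kernel
  exact key _ (Nat.mem_divisors.2 ⟨hd, by norm_num⟩) h13 h7

/-- Orders of proper subgroups. -/
theorem card_cases {H : Subgroup G} (hH : H ≠ ⊤) :
    Nat.card H ∣ 12 ∨ Nat.card H ∣ 14 ∨ Nat.card H ∣ 78 := by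
  rcases trichotomy hG hH with h | ⟨R, -, hR, hle⟩ | ⟨R, -, hR, hle⟩
  · exact Or.inl h
  · exact Or.inr (Or.inl (norm7 hG hR ▸ card_dvd_of_le hle))
  · exact Or.inr (Or.inr (norm13 hG hR ▸ card_dvd_of_le hle))

theorem norm3 {R : Subgroup G} (hR : Nat.card R = 3) :
    Nat.card (normalizer (R : Set G)) = 12 := by
  haveI : Fact (Nat.Prime 3) := ⟨by norm_num⟩
  let P : Sylow 3 G := Sylow.ofCard R (by
    rw [hR, hG, show (1092 : ℕ) = 3 ^ 1 * 364 by norm_num,
      Nat.factorization_mul (by norm_num) (by norm_num)]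
    simp [(show Nat.Prime 3 by norm_num).factorization_self,
      Nat.factorization_eq_zero_of_not_dvd (show ¬ 3 ∣ 364 by norm_num)])
  have hP : (P : Subgroup G) = R := Sylow.coe_ofCard _ _
  have hburn := not_normalizer_le_centralizer hG (p := 3) (e := 1) (m := 364) (by norm_num)
    (by norm_num) (by norm_num) (by norm_num) P
  rw [show ((P : Set G)) = ((P : Subgroup G) : Set G) from rfl, hP] at hburn
  set N := normalizer (R : Set G)
  have hN : N ≠ ⊤ := normalizer_ne_top hG (fun h => by rw [h, card_bot] at hR; omega)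
    (fun h => by rw [h, card_top, hG] at hR; omega)
  have h3 : 3 ∣ Nat.card N := hR ▸ card_dvd_of_le le_normalizer
  have hmod : N.index % 3 = 1 := by
    have h := card_sylow_modEq_one 3 G
    have hi := P.card_eq_index_normalizer
    rw [show ((P : Set G)) = ((P : Subgroup G) : Set G) from rfl, hP] at hi
    rw [hi] at h
    exact h
  have hmul := N.card_mul_index
  rw [hG] at hmul
  rcases trichotomy hG hN with h | ⟨T, -, hT, hle⟩ | ⟨T, hTN, hT, hle⟩
  · have key : ∀ d ∈ Nat.divisors 12, 3 ∣ d → 1092 / d % 3 = 1 → d = 3 ∨ d = 12 := by decide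
    have hidx : N.index = 1092 / Nat.card N := by
      rw [← hmul, Nat.mul_div_cancel_left _ Nat.card_pos]
    rcases key _ (Nat.mem_divisors.2 ⟨h, by norm_num⟩) h3 (hidx ▸ hmod) with h' | h'
    · refine absurd ?_ hburn
      have hNR : R = N := eq_of_le_of_card_ge le_normalizer (by omega)
      change N ≤ centralizer (R : Set G)
      rw [← hNR]
      intro x hx y hy
      haveI : IsCyclic R := isCyclic_of_prime_card hR
      letI := IsCyclic.commGroup (α := ↥R)
      exact congrArg Subtype.val (mul_comm (⟨y, hy⟩ : R) ⟨x, hx⟩)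
    · exact h'
  · have := card_dvd_of_le hle
    rw [norm7 hG hT] at this
    have := h3.trans this
    omega
  · -- `R` and `T` centralise each other and generate `N`
    exfalso
    have h78 : Nat.card N ∣ 78 := norm13 hG hT ▸ card_dvd_of_le hle
    have h13 : 13 ∣ Nat.card N := hT ▸ card_dvd_of_le hTN
    have key : ∀ d ∈ Nat.divisors 78, 3 ∣ d → 13 ∣ d → 1092 / d % 3 = 1 → d = 39 := by decide
    have hidx : N.index = 1092 / Nat.card N := by
      rw [← hmul, Nat.mul_div_cancel_left _ Nat.card_pos]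
    have h39 := key _ (Nat.mem_divisors.2 ⟨h78, by norm_num⟩) h3 h13 (hidx ▸ hmod)
    have hdisj : R ⊓ T = ⊥ := by
      refine inf_eq_bot_of_coprime ?_
      rw [hR, hT]; norm_num
    have hcomm : ∀ r ∈ R, ∀ t ∈ T, r * t = t * r := by
      intro r hr t ht
      have hmem : r * t * r⁻¹ * t⁻¹ ∈ R ⊓ T := by
        refine ⟨?_, ?_⟩
        · have h1 : t * r⁻¹ * t⁻¹ ∈ R :=
            (mem_normalizer_iff.1 (hTN ht) r⁻¹).1 (R.inv_mem hr)
          simpa [mul_assoc] using R.mul_mem hr h1
        · have h1 : r * t * r⁻¹ ∈ T :=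
            (mem_normalizer_iff.1 (hle (le_normalizer hr)) t).1 ht
          exact T.mul_mem h1 (T.inv_mem ht)
      rw [hdisj, mem_bot, mul_inv_eq_one, mul_inv_eq_iff_eq_mul] at hmem
      exact hmem
    refine hburn ?_
    have hle2 : R ⊔ T ≤ N := sup_le le_normalizer hTN
    have heq : R ⊔ T = N := by
      refine eq_of_le_of_card_ge hle2 ?_
      rw [h39]
      refine Nat.le_of_dvd Nat.card_pos (Nat.Coprime.mul_dvd_of_dvd_of_dvd (m := 3) (n := 13)
        (by norm_num) (hR ▸ card_dvd_of_le le_sup_left) (hT ▸ card_dvd_of_le le_sup_right))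
    change N ≤ centralizer (R : Set G)
    rw [← heq]
    refine sup_le (fun x hx y hy => ?_) (fun x hx y hy => hcomm y hy x hx)
    haveI : IsCyclic R := isCyclic_of_prime_card hR
    letI := IsCyclic.commGroup (α := ↥R)
    exact congrArg Subtype.val (mul_comm (⟨y, hy⟩ : R) ⟨x, hx⟩)

theorem norm4 {V : Subgroup G} (hV : Nat.card V = 4) :
    Nat.card (normalizer (V : Set G)) = 12 ∧
      ∀ u ∈ V, ∀ w ∈ V, u ≠ 1 → w ≠ 1 → ∃ g : G, g * u * g⁻¹ = w := by
  haveI : Fact (Nat.Prime 2) := ⟨Nat.prime_two⟩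
  have hf : (2 : ℕ) ^ (Nat.card G).factorization 2 = 4 := by
    rw [hG, show (1092 : ℕ) = 2 ^ 2 * 273 by norm_num,
      Nat.factorization_mul (by norm_num) (by norm_num)]
    rw [Finsupp.add_apply, Nat.factorization_pow, Finsupp.smul_apply,
      Nat.prime_two.factorization_self,
      Nat.factorization_eq_zero_of_not_dvd (show ¬ 2 ∣ 273 by norm_num)]
    norm_num
  let P : Sylow 2 G := Sylow.ofCard V (by rw [hV, hf])
  have hP : (P : Subgroup G) = V := Sylow.coe_ofCard _ _
  have hburn := not_normalizer_le_centralizer hG (p := 2) (e := 2) (m := 273) (by norm_num)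
    (by norm_num) (by norm_num) (by norm_num) P
  rw [show ((P : Set G)) = ((P : Subgroup G) : Set G) from rfl, hP] at hburn
  set N := normalizer (V : Set G)
  have hN : N ≠ ⊤ := normalizer_ne_top hG (fun h => by rw [h, card_bot] at hV; omega)
    (fun h => by rw [h, card_top, hG] at hV; omega)
  have h4 : 4 ∣ Nat.card N := hV ▸ card_dvd_of_le le_normalizer
  have hVc : ∀ x ∈ V, ∀ y ∈ V, x * y = y * x := fun x hx y hy =>
    congrArg Subtype.val ((IsPGroup.isMulCommutative_of_card_eq_prime_sq (p := 2) (G := ↥V)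
      (by rw [hV]; norm_num)).is_comm.comm (⟨x, hx⟩ : V) ⟨y, hy⟩)
  have h12 : Nat.card N = 12 := by
    have key : ∀ d : ℕ, (d ∣ 12 ∨ d ∣ 14 ∨ d ∣ 78) → 4 ∣ d → d = 4 ∨ d = 12 := by
      intro d hd h4
      rcases hd with h | h | h
      · have k : ∀ d ∈ Nat.divisors 12, 4 ∣ d → d = 4 ∨ d = 12 := by decide
        exact k d (Nat.mem_divisors.2 ⟨h, by norm_num⟩) h4
      · have := h4.trans h; omega
      · have := h4.trans h; omega
    rcases key _ (card_cases hG hN) h4 with h | h
    · refine absurd ?_ hburn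
      have hNV : V = N := eq_of_le_of_card_ge le_normalizer (by omega)
      change N ≤ centralizer (V : Set G)
      rw [← hNV]
      exact fun x hx y hy => hVc y hy x hx
    · exact h
  refine ⟨h12, ?_⟩
  -- an element of order three permutes the involutions transitively
  haveI : Fact (Nat.Prime 3) := ⟨by norm_num⟩
  obtain ⟨⟨x, hxN⟩, hx⟩ := exists_prime_orderOf_dvd_card' (G := ↥N) 3 (by rw [h12]; norm_num)
  rw [Subgroup.orderOf_mk] at hx
  have hx3 : x ^ 3 = 1 := hx ▸ pow_orderOf_eq_one x
  have hnc : ∃ v ∈ V, x * v * x⁻¹ ≠ v := by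
    by_contra hall
    push Not at hall
    refine hburn ?_
    have hle : V ⊔ zpowers x ≤ N := sup_le le_normalizer (zpowers_le.2 hxN)
    have heq : V ⊔ zpowers x = N := by
      refine eq_of_le_of_card_ge hle ?_
      rw [h12]
      exact Nat.le_of_dvd Nat.card_pos (Nat.Coprime.mul_dvd_of_dvd_of_dvd (m := 4) (n := 3)
        (by norm_num) (hV ▸ card_dvd_of_le le_sup_left)
        ((hx ▸ Nat.card_zpowers x : Nat.card (zpowers x) = 3) ▸ card_dvd_of_le le_sup_right))
    change N ≤ centralizer (V : Set G)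
    rw [← heq]
    refine sup_le (fun a ha b hb => hVc b hb a ha) (zpowers_le.2 fun v hv => ?_)
    exact (mul_inv_eq_iff_eq_mul.1 (hall v hv)).symm
  obtain ⟨v, hv, hvne⟩ := hnc
  set f : G → G := fun y => x * y * x⁻¹ with hfdef
  have hfV : ∀ y ∈ V, f y ∈ V := fun y hy => (mem_normalizer_iff.1 hxN y).1 hy
  have hf3 : f (f (f v)) = v := by
    have : f (f (f v)) = x ^ 3 * v * (x ^ 3)⁻¹ := by
      simp only [hfdef, pow_succ, pow_zero, one_mul, mul_inv_rev, mul_assoc]
    rw [this, hx3]; group
  have hinj : Function.Injective f := fun a b h => by simpa [hfdef] using h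
  have hf1 : f 1 = 1 := by simp [hfdef]
  have hv1 : v ≠ 1 := fun h => hvne (by rw [h]; group)
  have h2 : f (f v) ≠ v := fun h => hvne (by
    show f v = v
    conv_rhs => rw [← hf3, h])
  have hset : ({1, v, f v, f (f v)} : Set G) = (V : Set G) := by
    refine Set.eq_of_subset_of_ncard_le ?_ ?_ (Set.toFinite _)
    · intro y hy
      simp only [Set.mem_insert_iff, Set.mem_singleton_iff] at hy
      rcases hy with rfl | rfl | rfl | rfl
      exacts [V.one_mem, hv, hfV v hv, hfV _ (hfV v hv)]
    · rw [← Nat.card_coe_set_eq, show Nat.card ↥(V : Set G) = 4 from hV,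
        Set.ncard_insert_of_notMem, Set.ncard_insert_of_notMem, Set.ncard_pair]
      · exact fun h => hvne (hinj h).symm
      · simp only [Set.mem_insert_iff, Set.mem_singleton_iff, not_or]
        exact ⟨fun h => hvne h.symm, fun h => h2 h.symm⟩
      · simp only [Set.mem_insert_iff, Set.mem_singleton_iff, not_or]
        refine ⟨hv1.symm, fun h => hv1 (hinj (hf1.trans h)).symm, fun h => hv1 ?_⟩
        exact (hinj (hinj (show f (f 1) = f (f v) by rw [hf1, hf1]; exact h))).symm
  have hto : ∀ u ∈ V, u ≠ 1 → ∃ g : G, g * v * g⁻¹ = u := by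
    intro u hu hu1
    have h : u ∈ ({1, v, f v, f (f v)} : Set G) := hset ▸ hu
    simp only [Set.mem_insert_iff, Set.mem_singleton_iff] at h
    rcases h with h | h | h | h
    · exact absurd h hu1
    · exact ⟨1, by simp [h]⟩
    · exact ⟨x, h.symm⟩
    · exact ⟨x * x, by rw [h]; simp only [hfdef]; group⟩
  intro u hu w hw hu1 hw1
  obtain ⟨g, hg⟩ := hto u hu hu1
  obtain ⟨k, hk⟩ := hto w hw hw1
  exact ⟨k * g⁻¹, by rw [← hg, ← hk]; group⟩

/-- All involutions are conjugate, with centralisers of order divisible by twelve. -/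
theorem twelve_dvd_centralizer {t : G} (ht : orderOf t = 2) :
    12 ∣ Nat.card (centralizer ({t} : Set G)) := by
  haveI : Fact (Nat.Prime 2) := ⟨Nat.prime_two⟩
  haveI : Fact (Nat.Prime 3) := ⟨by norm_num⟩
  -- an involution centralising a subgroup of order three
  obtain ⟨g, hg⟩ := exists_prime_orderOf_dvd_card' (G := G) 3 (by rw [hG]; norm_num)
  have hR : Nat.card (zpowers g) = 3 := by rw [Nat.card_zpowers, hg]
  have hN := norm3 hG hR
  set N := normalizer (zpowers g : Set G)
  obtain ⟨W, hW⟩ := Sylow.exists_subgroup_card_pow_prime (G := ↥N) 2 (n := 2) (by rw [hN]; norm_num)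
  set V := W.map N.subtype with hVdef
  have hV : Nat.card V = 4 := by rw [hVdef, card_map_of_injective N.subtype_injective, hW]; norm_num
  have hVN : V ≤ N := map_subtype_le _
  have hg3 : g ^ 3 = 1 := hg ▸ pow_orderOf_eq_one g
  have hcases : ∀ v ∈ V, v * g * v⁻¹ = g ∨ v * g * v⁻¹ = g⁻¹ := by
    intro v hv
    obtain ⟨i, hi⟩ := mem_zpowers_iff.1 ((mem_normalizer_iff.1 (hVN hv) g).1 (mem_zpowers g))
    rw [zpow_eq_zpow_emod' i hg3] at hi
    have h1 : 0 ≤ i % 3 := Int.emod_nonneg _ (by norm_num)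
    have h2 : i % 3 < 3 := Int.emod_lt_of_pos _ (by norm_num)
    rcases (by omega : i % 3 = 0 ∨ i % 3 = 1 ∨ i % 3 = 2) with h | h | h
    · exfalso
      rw [show ((3 : ℕ) : ℤ) = 3 from rfl, h, zpow_zero] at hi
      have : g = 1 := conj_eq_one_iff.1 hi.symm
      rw [this, orderOf_one] at hg
      omega
    · left; rw [← hi, show ((3 : ℕ) : ℤ) = 3 from rfl, h, zpow_one]
    · right
      rw [← hi, show ((3 : ℕ) : ℤ) = 3 from rfl, h, eq_inv_iff_mul_eq_one]
      rw [show (2 : ℤ) = ((2 : ℕ) : ℤ) from rfl, zpow_natCast, ← pow_succ, hg3]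
  obtain ⟨s, hsV, hs1, hsg⟩ : ∃ s ∈ V, s ≠ 1 ∧ s * g * s⁻¹ = g := by
    by_contra hall
    push Not at hall
    have hinv : ∀ v ∈ V, v ≠ 1 → v * g * v⁻¹ = g⁻¹ := fun v hv h1 =>
      (hcases v hv).resolve_left (hall v hv h1)
    haveI : Nontrivial V := (Finite.one_lt_card_iff_nontrivial).1 (by omega)
    obtain ⟨⟨a, ha⟩, ha'⟩ := exists_ne (1 : V)
    have ha1 : a ≠ 1 := fun h => ha' (Subtype.ext h)
    obtain ⟨b, hb, hb1, hab⟩ : ∃ b ∈ V, b ≠ 1 ∧ a * b ≠ 1 := by
      by_contra hall'
      push Not at hall'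
      have hsub : (V : Set G) ⊆ {1, a⁻¹} := by
        intro b hb
        by_cases h : b = 1
        · exact Or.inl h
        · exact Or.inr (eq_inv_of_mul_eq_one_right (hall' b hb h))
      have := Set.ncard_le_ncard hsub (Set.toFinite _)
      rw [← Nat.card_coe_set_eq, show Nat.card ↥(V : Set G) = 4 from hV] at this
      have := this.trans (Set.ncard_insert_le _ _)
      simp at this
    refine hall (a * b) (V.mul_mem ha hb) hab ?_
    have e : a * b * g * (a * b)⁻¹ = a * (b * g * b⁻¹) * a⁻¹ := by group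
    rw [e, hinv b hb hb1]
    have e2 : a * g⁻¹ * a⁻¹ = (a * g * a⁻¹)⁻¹ := by group
    rw [e2, hinv a ha ha1, inv_inv]
  have hVc : ∀ x ∈ V, ∀ y ∈ V, x * y = y * x := fun x hx y hy =>
    congrArg Subtype.val ((IsPGroup.isMulCommutative_of_card_eq_prime_sq (p := 2) (G := ↥V)
      (by rw [hV]; norm_num)).is_comm.comm (⟨x, hx⟩ : V) ⟨y, hy⟩)
  have hCs : 12 ∣ Nat.card (centralizer ({s} : Set G)) := by
    refine Nat.Coprime.mul_dvd_of_dvd_of_dvd (m := 4) (n := 3) (by norm_num) ?_ ?_
    · rw [← hV]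
      exact card_dvd_of_le fun x hx => mem_centralizer_singleton_iff.2 (hVc x hx s hsV)
    · rw [← hR]
      exact card_dvd_of_le (zpowers_le.2 (mem_centralizer_singleton_iff.2
        (mul_inv_eq_iff_eq_mul.1 hsg).symm))
  -- move `t` into `V`
  have hsq : s * s = 1 := by
    by_contra hss
    obtain ⟨k, hk⟩ := (norm4 hG hV).2 s hsV (s * s) (V.mul_mem hsV hsV) hs1 hss
    have h1 : orderOf (s * s) = orderOf s := by
      rw [← hk]; exact (MulAut.conj k).orderOf_eq s
    rw [← pow_two, orderOf_pow' s two_ne_zero] at h1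
    have h4 : orderOf s ∣ 4 := by
      have := orderOf_dvd_natCard (⟨s, hsV⟩ : V)
      rwa [Subgroup.orderOf_mk, hV] at this
    have key : ∀ d ∈ Nat.divisors 4, d / Nat.gcd d 2 = d → d = 1 := by decide
    exact hs1 (orderOf_eq_one_iff.1 (key _ (Nat.mem_divisors.2 ⟨h4, by norm_num⟩) h1))
  obtain ⟨T, hT⟩ := (IsPGroup.of_card (n := 1) (by rw [Nat.card_zpowers, ht, pow_one]) :
    IsPGroup 2 (zpowers t)).exists_le_sylow
  obtain ⟨hf4, -⟩ : Nat.card (T : Subgroup G) = 4 ∧ True :=
    ⟨card_sylow (e := 2) (m := 273) (hG.trans (by norm_num)) (by norm_num) T, trivial⟩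
  obtain ⟨P, hP⟩ : ∃ P : Sylow 2 G, (P : Subgroup G) = V := by
    refine ⟨Sylow.ofCard V ?_, Sylow.coe_ofCard _ _⟩
    rw [hV, ← hf4, T.card_eq_multiplicity]
  obtain ⟨k, hk⟩ := MulAction.exists_smul_eq G T P
  have ht' : k * t * k⁻¹ ∈ V := by
    rw [← hP, ← hk, Sylow.coe_subgroup_smul]
    exact ⟨t, hT (mem_zpowers t), rfl⟩
  have ht1 : k * t * k⁻¹ ≠ 1 := fun h => by
    rw [conj_eq_one_iff.1 h, orderOf_one] at ht
    omega
  obtain ⟨l, hl⟩ := (norm4 hG hV).2 _ ht' s hsV ht1 hs1
  have hmap : (centralizer ({t} : Set G)).map (MulAut.conj (l * k)).toMonoidHom =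
      centralizer ({s} : Set G) := by
    have es : s = l * k * t * (l * k)⁻¹ := by rw [← hl]; group
    ext y
    constructor
    · rintro ⟨c, hc, rfl⟩
      rw [SetLike.mem_coe, mem_centralizer_singleton_iff] at hc
      rw [mem_centralizer_singleton_iff, es]
      simp only [MulEquiv.coe_toMonoidHom, MulAut.conj_apply]
      calc l * k * c * (l * k)⁻¹ * (l * k * t * (l * k)⁻¹) = l * k * (c * t) * (l * k)⁻¹ := by group
        _ = l * k * (t * c) * (l * k)⁻¹ := by rw [hc]
        _ = _ := by group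
    · intro hy
      rw [mem_centralizer_singleton_iff, es] at hy
      refine ⟨(l * k)⁻¹ * y * (l * k), mem_centralizer_singleton_iff.2 ?_, by simp; group⟩
      calc (l * k)⁻¹ * y * (l * k) * t
          = (l * k)⁻¹ * (y * (l * k * t * (l * k)⁻¹)) * (l * k) := by group
        _ = (l * k)⁻¹ * (l * k * t * (l * k)⁻¹ * y) * (l * k) := by rw [hy]
        _ = _ := by group
  rw [← card_map_of_injective (K := centralizer ({t} : Set G))
    (f := (MulAut.conj (l * k)).toMonoidHom) (MulAut.conj (l * k)).injective]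
  exact (congrArg (fun X : Subgroup G => Nat.card X) hmap) ▸ hCs

theorem isCoatom_of_twelve {N : Subgroup G} (hN : N ≠ ⊤) (h12 : 12 ∣ Nat.card N) : IsCoatom N := by
  refine ⟨hN, fun M hM => ?_⟩
  by_contra hMt
  have hd := h12.trans (card_dvd_of_le hM.le)
  refine hM.ne (eq_of_le_of_card_ge hM.le ?_)
  rcases card_cases hG hMt with h | h | h
  · exact (Nat.le_of_dvd (by norm_num) h).trans (Nat.le_of_dvd Nat.card_pos h12)
  · have := hd.trans h; omega
  · have := hd.trans h; omega

/-- **Normalisers in a simple group of order 1092 are maximal.** -/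
theorem isCoatom_normalizer {H : Subgroup G} (h1 : H ≠ ⊥) (h2 : H ≠ ⊤) :
    IsCoatom (normalizer (H : Set G)) := by
  have hNt := normalizer_ne_top hG h1 h2
  -- in the two Sylow cases the normaliser is the Sylow normaliser
  have big : ∀ (R : Subgroup G) (p : ℕ), p.Prime → Nat.card R = p →
      Nat.card (normalizer (R : Set G)) ∣ 1092 → ¬ p ^ 2 ∣ 1092 →
      normalizer (R : Set G) ≤ normalizer (H : Set G) → R ≤ H →
      (∀ M : Subgroup G, M ≠ ⊤ → R ≤ M → ∃ T : Subgroup G, T ≤ M ∧ Nat.card T = p ∧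
        M ≤ normalizer (T : Set G)) → IsCoatom (normalizer (H : Set G)) := by
    intro R p hp hR _ hsq hle hRH huniq
    refine ⟨hNt, fun M hM => ?_⟩
    by_contra hMt
    obtain ⟨T, hTM, hT, hMle⟩ := huniq M hMt (hRH.trans (le_normalizer.trans hM.le))
    -- `T = R` as the unique subgroup of order `p` of `M`
    have hTR : T = R := by
      haveI : Fact p.Prime := ⟨hp⟩
      have hRM : R ≤ normalizer (T : Set G) := (hRH.trans (le_normalizer.trans hM.le)).trans hMle
      by_contra hne
      refine hsq ?_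
      -- `R ⊔ T` is a `p`-group properly containing `T`
      obtain ⟨k, hk⟩ := IsPGroup.iff_card.1 (IsPGroup.to_sup_of_normal_right'
        (IsPGroup.of_card (n := 1) (by rw [hR, pow_one]))
        (IsPGroup.of_card (n := 1) (by rw [hT, pow_one])) hRM)
      have hk2 : 2 ≤ k := by
        by_contra hlt
        have hk1 : p ^ k ≤ p := (Nat.pow_le_pow_right hp.pos (by omega)).trans_eq (pow_one p)
        have e1 : T = R ⊔ T := eq_of_le_of_card_ge le_sup_right (by omega)
        have e2 : R = R ⊔ T := eq_of_le_of_card_ge le_sup_left (by omega)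
        exact hne (e1.trans e2.symm)
      rw [← hG]
      exact ((pow_dvd_pow p hk2).trans hk.symm.dvd).trans (card_subgroup_dvd_card _)
    exact absurd ((hTR ▸ hMle).trans hle) (not_le_of_gt hM)
  rcases trichotomy hG h2 with h | ⟨R, hRH, hR, hle⟩ | ⟨R, hRH, hR, hle⟩
  · refine isCoatom_of_twelve hG hNt ?_
    have key : ∀ d ∈ Nat.divisors 12, d = 1 ∨ d = 2 ∨ d = 3 ∨ d = 4 ∨ d = 6 ∨ d = 12 := by decide
    rcases key _ (Nat.mem_divisors.2 ⟨h, by norm_num⟩) with hc | hc | hc | hc | hc | hc
    · exact absurd (eq_bot_of_card_eq _ hc) h1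
    · haveI : Fact (Nat.Prime 2) := ⟨Nat.prime_two⟩
      obtain ⟨⟨t, htH⟩, ht⟩ := exists_prime_orderOf_dvd_card' (G := ↥H) 2 (by rw [hc])
      rw [Subgroup.orderOf_mk] at ht
      have hH : zpowers t = H :=
        eq_of_le_of_card_ge (zpowers_le.2 htH) (by rw [Nat.card_zpowers, ht, hc])
      refine (twelve_dvd_centralizer hG ht).trans (card_dvd_of_le ?_)
      rw [← hH, ← centralizer_closure, ← zpowers_eq_closure]
      exact centralizer_le_normalizer _
    · rw [norm3 hG hc]
    · rw [(norm4 hG hc).1]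
    · haveI : Fact (Nat.Prime 3) := ⟨by norm_num⟩
      obtain ⟨R, hRH, hR, hle⟩ := exists_normal_of_unique hG (p := 3) (H := H) (by rw [hc]; norm_num)
        (by norm_num) (fun d hd hmod => by
          rw [hc] at hd
          have := Nat.le_of_dvd (by norm_num) hd
          omega)
      have hN := norm3 hG hR
      rw [← hN]
      refine card_dvd_of_le fun x hx => ?_
      have hidx : (H.subgroupOf (normalizer (R : Set G))).index = 2 := by
        have h' := (H.subgroupOf (normalizer (R : Set G))).card_mul_index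
        rw [Nat.card_congr (subgroupOfEquivOfLe hle).toEquiv, hc, hN] at h'
        omega
      exact (normal_subgroupOf_iff_le_normalizer hle).1 (normal_of_index_eq_two hidx) hx
    · exact hc ▸ card_dvd_of_le le_normalizer
  · refine big R 7 (by norm_num) hR (card_dvd hG _) (by norm_num) ?_ hRH ?_
    · have h14 := norm7 hG hR
      have hd7 : 7 ∣ Nat.card H := hR ▸ card_dvd_of_le hRH
      have hd14 : Nat.card H ∣ 14 := h14 ▸ card_dvd_of_le hle
      have key : ∀ d ∈ Nat.divisors 14, 7 ∣ d → d = 7 ∨ d = 14 := by decide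
      rcases key _ (Nat.mem_divisors.2 ⟨hd14, by norm_num⟩) hd7 with hc | hc
      · rw [eq_of_le_of_card_ge hRH (by omega)]
      · rw [← eq_of_le_of_card_ge hle (by omega)]
        exact le_normalizer
    · intro M hM hRM
      haveI : Fact (Nat.Prime 7) := ⟨by norm_num⟩
      refine exists_normal_of_unique hG (hR ▸ card_dvd_of_le hRM) (by norm_num) fun d hd hmod => ?_
      have h1 := Nat.le_of_dvd Nat.card_pos hd
      have h2 := card_le hG hM
      have h3 : d ∈ Nat.divisors 156 := Nat.mem_divisors.2 ⟨Nat.dvd_of_mul_dvd_mul_right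
        (by norm_num : 0 < 7) (hd.trans (card_dvd hG M)), by norm_num⟩
      have key : ∀ d ∈ Nat.divisors 156, d ≤ 12 → d % 7 = 1 → d = 1 := by decide
      exact key d h3 (by omega) hmod
  · refine big R 13 (by norm_num) hR (card_dvd hG _) (by norm_num) ?_ hRH ?_
    · -- commutators of the normaliser centralise `R`, which is self-centralising
      haveI : IsCyclic R := by
        haveI : Fact (Nat.Prime 13) := ⟨by norm_num⟩
        exact isCyclic_of_prime_card hR
      have hRC : centralizer (R : Set G) ≤ R := by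
        have h78 := norm13 hG hR
        have hRCle : R ≤ centralizer (R : Set G) := fun x hx y hy => by
          letI := IsCyclic.commGroup (α := ↥R)
          exact congrArg Subtype.val (mul_comm (⟨y, hy⟩ : R) ⟨x, hx⟩)
        have hd : Nat.card (centralizer (R : Set G)) ∣ 78 :=
          h78 ▸ card_dvd_of_le (centralizer_le_normalizer _)
        have no2 : ¬ 2 ∣ Nat.card (centralizer (R : Set G)) := fun h2' => by
          haveI : Fact (Nat.Prime 2) := ⟨Nat.prime_two⟩
          obtain ⟨⟨t, htC⟩, ht⟩ :=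
            exists_prime_orderOf_dvd_card' (G := ↥(centralizer (R : Set G))) 2 h2'
          rw [Subgroup.orderOf_mk] at ht
          have h12 := twelve_dvd_centralizer hG ht
          have h13 : 13 ∣ Nat.card (centralizer ({t} : Set G)) :=
            hR ▸ card_dvd_of_le fun r hr => mem_centralizer_singleton_iff.2 (htC r hr)
          have hne : centralizer ({t} : Set G) ≠ ⊤ := fun h => by
            have hz : centralizer ({t} : Set G) ≤ normalizer (zpowers t : Set G) := by
              rw [← centralizer_closure, ← zpowers_eq_closure]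
              exact centralizer_le_normalizer _
            refine normalizer_ne_top hG (H := zpowers t) (fun hb => ?_) (fun hb => ?_)
              (top_le_iff.1 (h ▸ hz))
            · have := Nat.card_zpowers t; rw [hb, card_bot, ht] at this; omega
            · have := Nat.card_zpowers t; rw [hb, card_top, hG, ht] at this; omega
          rcases card_cases hG hne with h | h | h
          · have := h13.trans h; omega
          · have := h12.trans h; omega
          · have := h12.trans h; omega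
        have no3 : ¬ 3 ∣ Nat.card (centralizer (R : Set G)) := fun h3 => by
          haveI : Fact (Nat.Prime 3) := ⟨by norm_num⟩
          obtain ⟨⟨g, hgC⟩, hg⟩ :=
            exists_prime_orderOf_dvd_card' (G := ↥(centralizer (R : Set G))) 3 h3
          rw [Subgroup.orderOf_mk] at hg
          have hle' : R ≤ normalizer (zpowers g : Set G) := by
            refine le_trans ?_ (centralizer_le_normalizer _)
            rw [zpowers_eq_closure, centralizer_closure]
            exact fun r hr => mem_centralizer_singleton_iff.2 (hgC r hr)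
          have := card_dvd_of_le hle'
          rw [hR, norm3 hG (by rw [Nat.card_zpowers, hg])] at this
          omega
        have key : ∀ d ∈ Nat.divisors 78, ¬ 2 ∣ d → ¬ 3 ∣ d → d ≤ 13 := by decide
        exact (eq_of_le_of_card_ge hRCle
          (hR ▸ key _ (Nat.mem_divisors.2 ⟨hd, by norm_num⟩) no2 no3)).ge
      intro n hn
      rw [mem_normalizer_iff]
      have conjmem : ∀ n ∈ normalizer (R : Set G), ∀ h ∈ H, n * h * n⁻¹ ∈ H := by
        intro n hn h hh
        -- `n` and `h` act on the cyclic group `R` by powers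
        have hpow : ∀ m ∈ normalizer (R : Set G), ∃ i : ℤ, ∀ r ∈ R, m * r * m⁻¹ = r ^ i := by
          intro m hm
          obtain ⟨⟨r₀, hr₀⟩, hgen⟩ := IsCyclic.exists_generator (α := R)
          obtain ⟨i, hi⟩ := mem_zpowers_iff.1
            (hgen ⟨m * r₀ * m⁻¹, (mem_normalizer_iff.1 hm r₀).1 hr₀⟩)
          have hi' : r₀ ^ i = m * r₀ * m⁻¹ := congrArg Subtype.val hi
          refine ⟨i, fun r hr => ?_⟩
          obtain ⟨j, hj⟩ := mem_zpowers_iff.1 (hgen ⟨r, hr⟩)
          have hj' : r₀ ^ j = r := congrArg Subtype.val hj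
          rw [← hj', ← conj_zpow, ← hi', ← zpow_mul, ← zpow_mul, mul_comm]
        obtain ⟨i, hi⟩ := hpow n hn
        obtain ⟨j, hj⟩ := hpow h (hle hh)
        have hc : n * h * n⁻¹ * h⁻¹ ∈ centralizer (R : Set G) := by
          intro r hr
          have hmem : ∀ k : ℤ, r ^ k ∈ R := fun k => R.zpow_mem hr k
          have hnm : n⁻¹ ∈ normalizer (R : Set G) := inv_mem hn
          obtain ⟨i', hi'⟩ := hpow _ hnm
          obtain ⟨j', hj'⟩ := hpow _ (inv_mem (hle hh))
          have e1 : n * h * n⁻¹ * h⁻¹ * r * (n * h * n⁻¹ * h⁻¹)⁻¹ = r := by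
            have a1 := hj' r hr
            have a2 := hi' _ (hmem j')
            have a3 := hj _ (R.zpow_mem (hmem j') i')
            have a4 := hi _ (R.zpow_mem (R.zpow_mem (hmem j') i') j)
            calc n * h * n⁻¹ * h⁻¹ * r * (n * h * n⁻¹ * h⁻¹)⁻¹
                = n * (h * (n⁻¹ * (h⁻¹ * r * h⁻¹⁻¹) * n⁻¹⁻¹) * h⁻¹) * n⁻¹ := by group
              _ = (((r ^ j') ^ i') ^ j) ^ i := by rw [a1, a2, a3, a4]
              _ = (((r ^ j') ^ j) ^ i') ^ i := by
                  simp only [← zpow_mul]; ring_nf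
              _ = r := by
                  have hjj : (r ^ j') ^ j = r := by
                    rw [← hj _ (hmem j'), ← hj' r hr]; group
                  rw [hjj]
                  rw [← hi _ (hmem i'), ← hi' r hr]; group
          exact (mul_inv_eq_iff_eq_mul.1 e1).symm
        have := H.mul_mem (hRH (hRC hc)) hh
        simpa using this
      refine fun x => ⟨conjmem n hn x, fun hx => ?_⟩
      simpa [mul_assoc] using conjmem n⁻¹ (inv_mem hn) _ hx
    · intro M hM hRM
      haveI : Fact (Nat.Prime 13) := ⟨by norm_num⟩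
      refine exists_normal_of_unique hG (hR ▸ card_dvd_of_le hRM) (by norm_num) fun d hd hmod => ?_
      have h1 := Nat.le_of_dvd Nat.card_pos hd
      have h2 := card_le hG hM
      omega

end Cfsg.Agent.FGS80.Order1092
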