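import Cfsg.Prelude.Def_HallClasses
import Mathlib

/-! Overgroups of Sylow subgroups and pronormality in group extensions. -/

set_option autoImplicit false

namespace Cfsg.Agent.FGS80.Pronormal

open Subgroup

variable {G : Type*} [Group G]

/-- `g K g⁻¹`. -/
def cj (g : G) (K : Subgroup G) : Subgroup G := K.map (MulAut.conj g).toMonoidHom

theorem mem_cj {g y : G} {K : Subgroup G} : y ∈ cj g K ↔ g⁻¹ * y * g ∈ K := by
  constructor
  · rintro ⟨k, hk, rfl⟩; simpa [mul_assoc] using hk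
  · exact fun h => ⟨_, h, by simp [mul_assoc]⟩

theorem cj_mul (a b : G) (K : Subgroup G) : cj (a * b) K = cj a (cj b K) := by
  ext y; simp only [mem_cj, mul_inv_rev, mul_assoc]

theorem cj_one (K : Subgroup G) : cj 1 K = K := by ext y; simp [mem_cj]

theorem cj_mono {g : G} {K L : Subgroup G} (h : K ≤ L) : cj g K ≤ cj g L := Subgroup.map_mono h

theorem cj_inf (g : G) (K L : Subgroup G) : cj g (K ⊓ L) = cj g K ⊓ cj g L := by
  ext y; simp [mem_cj, mem_inf]

theorem cj_sup (g : G) (K L : Subgroup G) : cj g (K ⊔ L) = cj g K ⊔ cj g L := Subgroup.map_sup _ _ _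

theorem cj_normal (g : G) (A : Subgroup G) [hA : A.Normal] : cj g A = A := by
  ext y
  rw [mem_cj]
  refine ⟨fun h => ?_, fun h => hA.conj_mem' y h g⟩
  simpa [mul_assoc] using hA.conj_mem _ h g

theorem cj_eq_iff {g : G} {K : Subgroup G} : cj g K = K ↔ g ∈ normalizer (K : Set G) := by
  rw [mem_normalizer_iff'', SetLike.ext_iff]
  exact forall_congr' fun y => by rw [mem_cj]; exact Iff.comm

theorem cj_self {g : G} {K : Subgroup G} (hg : g ∈ K) : cj g K = K :=
  cj_eq_iff.2 (le_normalizer hg)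

theorem cj_inv_eq {g : G} {K : Subgroup G} (h : cj g K = K) : cj g⁻¹ K = K :=
  cj_eq_iff.2 (Subgroup.inv_mem _ (cj_eq_iff.1 h))

theorem cj_le_of_mem {g : G} {K L : Subgroup G} (hg : g ∈ L) (h : K ≤ L) : cj g K ≤ L :=
  (cj_mono h).trans (cj_self hg).le

theorem map_cj {H : Type*} [Group H] (f : G →* H) (g : G) (K : Subgroup G) :
    (cj g K).map f = cj (f g) (K.map f) := by
  simp only [cj, map_map]
  congr 1
  ext x
  simp

theorem isPronormal_of_map {H : Type*} [Group H] (f : G →* H) (K : Subgroup G) (hk : f.ker ≤ K)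
    (h : Cfsg.IsPronormal (K.map f)) : Cfsg.IsPronormal K := by
  intro g
  obtain ⟨x, hx, e⟩ := h (f g)
  change x ∈ K.map f ⊔ cj (f g) (K.map f) at hx
  rw [← map_cj f g K, ← Subgroup.map_sup] at hx
  obtain ⟨y, hy, rfl⟩ := hx
  refine ⟨y, hy, map_injective_of_ker_le f ?_ ?_ ?_⟩
  · exact (cj_normal g f.ker).symm.le.trans (cj_mono hk)
  · exact (cj_normal y f.ker).symm.le.trans (cj_mono hk)
  · change (cj g K).map f = (cj y K).map f
    rw [map_cj, map_cj]; exact e

theorem isPronormal_map {H : Type*} [Group H] (f : G →* H) (hf : Function.Surjective f)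
    (K : Subgroup G) (h : Cfsg.IsPronormal K) : Cfsg.IsPronormal (K.map f) := by
  intro g
  obtain ⟨g, rfl⟩ := hf g
  obtain ⟨x, hx, e⟩ := h g
  refine ⟨f x, ?_, ?_⟩
  · change f x ∈ K.map f ⊔ cj (f g) (K.map f)
    rw [← map_cj f g K, ← Subgroup.map_sup]; exact mem_map_of_mem f hx
  · change cj (f g) (K.map f) = cj (f x) (K.map f)
    rw [← map_cj, ← map_cj]; exact congrArg _ e

theorem isPronormal_of_map_subtype {N : Subgroup G} (K : Subgroup ↥N)
    (h : Cfsg.IsPronormal (K.map N.subtype)) : Cfsg.IsPronormal K := by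
  intro g
  obtain ⟨x, hx, e⟩ := h (N.subtype g)
  change x ∈ K.map N.subtype ⊔ cj (N.subtype g) (K.map N.subtype) at hx
  rw [← map_cj N.subtype g K, ← Subgroup.map_sup] at hx
  obtain ⟨y, hy, rfl⟩ := hx
  refine ⟨y, hy, map_injective N.subtype_injective ?_⟩
  change (cj g K).map N.subtype = (cj y K).map N.subtype
  rw [map_cj, map_cj]; exact e

theorem exists_of_map {H : Type*} [Group H] (f : H →* G) (K : Subgroup H)
    (h : Cfsg.IsPronormal K) (n : H) :
    ∃ y ∈ K.map f ⊔ cj (f n) (K.map f), cj (f n) (K.map f) = cj y (K.map f) := by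
  obtain ⟨y, hy, e⟩ := h n
  refine ⟨f y, ?_, ?_⟩
  · rw [← map_cj, ← Subgroup.map_sup]; exact mem_map_of_mem f hy
  · rw [← map_cj, ← map_cj]; exact congrArg (Subgroup.map f) e

theorem exists_in_subgroup {N K : Subgroup G} (hKN : K ≤ N)
    (h : Cfsg.IsPronormal (K.subgroupOf N)) {n : G} (hn : n ∈ N) :
    ∃ y ∈ K ⊔ cj n K, cj n K = cj y K := by
  have hK : (K.subgroupOf N).map N.subtype = K :=
    (subgroupOf_map_subtype K N).trans (inf_of_le_left hKN)
  have := exists_of_map N.subtype _ h ⟨n, hn⟩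
  rw [hK] at this
  exact this

theorem reduce {K : Subgroup G} {g x : G} (hx : x ∈ K ⊔ cj g K)
    (h : ∃ y ∈ K ⊔ cj (x⁻¹ * g) K, cj (x⁻¹ * g) K = cj y K) :
    ∃ y ∈ K ⊔ cj g K, cj g K = cj y K := by
  obtain ⟨y, hy, e⟩ := h
  have hle : K ⊔ cj (x⁻¹ * g) K ≤ K ⊔ cj g K :=
    sup_le le_sup_left (by rw [cj_mul]; exact cj_le_of_mem (Subgroup.inv_mem _ hx) le_sup_right)
  refine ⟨x * y, Subgroup.mul_mem _ hx (hle hy), ?_⟩
  rw [cj_mul x y, ← e, ← cj_mul, mul_inv_cancel_left]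

theorem isPronormal_cj {K : Subgroup G} (g : G) (h : Cfsg.IsPronormal K) :
    Cfsg.IsPronormal (cj g K) :=
  isPronormal_map (MulAut.conj g).toMonoidHom (MulAut.conj g).surjective K h

variable [Finite G] {p : ℕ} [Fact p.Prime]

/-- `T` is a maximal `p`-subgroup of `A`. -/
def MaxP (p : ℕ) (A T : Subgroup G) : Prop :=
  T ≤ A ∧ IsPGroup p T ∧ ∀ R : Subgroup G, R ≤ A → IsPGroup p R → T ≤ R → R = T

omit [Finite G] [Fact p.Prime] in
theorem maxP_of_sylow {A : Subgroup G} (P : Sylow p ↥A) :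
    MaxP p A ((P : Subgroup ↥A).map A.subtype) := by
  refine ⟨map_subtype_le _, P.isPGroup'.map _, fun R hR hp h => ?_⟩
  have h2 : (P : Subgroup ↥A) ≤ R.subgroupOf A := map_le_iff_le_comap.1 h
  rw [← P.is_maximal' (hp.comap_of_injective _ A.subtype_injective) h2]
  exact ((subgroupOf_map_subtype R A).trans (inf_of_le_left hR)).symm

omit [Finite G] [Fact p.Prime] in
theorem MaxP.conj {A T : Subgroup G} [A.Normal] (h : MaxP p A T) (g : G) :
    MaxP p A (cj g T) := by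
  refine ⟨(cj_mono h.1).trans (cj_normal g A).le, h.2.1.map _, fun R hR hp hle => ?_⟩
  have h3 : cj g⁻¹ R = T := h.2.2 _ ((cj_mono hR).trans (cj_normal g⁻¹ A).le) (hp.map _) (by
    have := cj_mono (g := g⁻¹) hle
    rwa [← cj_mul, inv_mul_cancel, cj_one] at this)
  rw [← h3, ← cj_mul, mul_inv_cancel, cj_one]

theorem MaxP.exists_conj {A T T' B : Subgroup G} (hT : MaxP p A T) (hT' : MaxP p A T')
    (hBA : B ≤ A) (hTB : T ≤ B) (hTB' : T' ≤ B) : ∃ c ∈ B, T' = cj c T := by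
  have key : ∀ T : Subgroup G, MaxP p A T → T ≤ B →
      ∃ P : Sylow p ↥B, (P : Subgroup ↥B).map B.subtype = T := by
    intro T hT hTB
    obtain ⟨P, hP⟩ := (hT.2.1.comap_of_injective B.subtype B.subtype_injective).exists_le_sylow
    exact ⟨P, hT.2.2 _ ((map_subtype_le _).trans hBA) (P.isPGroup'.map _)
      (fun t ht => ⟨⟨t, hTB ht⟩, hP ht, rfl⟩)⟩
  obtain ⟨P, hP⟩ := key T hT hTB
  obtain ⟨P', hP'⟩ := key T' hT' hTB'
  obtain ⟨c, rfl⟩ := MulAction.exists_smul_eq ↥B P P'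
  refine ⟨c, c.2, ?_⟩
  rw [← hP, ← hP', ← coe_subtype, ← map_cj B.subtype c]
  rfl

omit [Finite G] [Fact p.Prime] in
theorem sylow_inf_eq {A T : Subgroup G} [A.Normal] (hT : MaxP p A T) {Q : Sylow p G}
    (h : T ≤ Q) : (Q : Subgroup G) ⊓ A = T :=
  hT.2.2 _ inf_le_right (Q.isPGroup'.to_le inf_le_left) (le_inf h hT.1)

theorem sylow_le_normalizer {A T : Subgroup G} [A.Normal] (hT : MaxP p A T) {Q : Sylow p G}
    (h : T ≤ Q) : (Q : Subgroup G) ≤ normalizer (T : Set G) := fun q hq => by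
  rw [← cj_eq_iff, ← sylow_inf_eq hT h, cj_inf, cj_self hq, cj_normal]

/-- The criterion, sufficiency. -/
theorem isPronormal_of_extension (A : Subgroup G) [A.Normal]
    (hA : ∀ K : Subgroup ↥A, (∃ P : Sylow p ↥A, (P : Subgroup ↥A) ≤ K) → Cfsg.IsPronormal K)
    (hQ : ∀ K : Subgroup (G ⧸ A),
      (∃ P : Sylow p (G ⧸ A), (P : Subgroup (G ⧸ A)) ≤ K) → Cfsg.IsPronormal K)
    (T : Subgroup G) (hT : MaxP p A T) [(T.subgroupOf (normalizer (T : Set G))).Normal]
    (hN : ∀ K : Subgroup (↥(normalizer (T : Set G)) ⧸ T.subgroupOf (normalizer (T : Set G))),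
      (∃ P : Sylow p (↥(normalizer (T : Set G)) ⧸ T.subgroupOf (normalizer (T : Set G))),
        (P : Subgroup _) ≤ K) → Cfsg.IsPronormal K)
    (hnorm : ∀ K : Subgroup G, (∃ P : Sylow p G, (P : Subgroup G) ≤ K) →
      (normalizer (K : Set G)).map (QuotientGroup.mk' A) =
        normalizer ((K.map (QuotientGroup.mk' A) : Subgroup (G ⧸ A)) : Set (G ⧸ A))) :
    ∀ K : Subgroup G, (∃ P : Sylow p G, (P : Subgroup G) ≤ K) → Cfsg.IsPronormal K := by
  suffices h : ∀ (K : Subgroup G) (Q : Sylow p G), (Q : Subgroup G) ≤ K → T ≤ Q →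
      Cfsg.IsPronormal K by
    rintro K ⟨P, hPK⟩
    obtain ⟨Q, hQ⟩ := hT.2.1.exists_le_sylow
    obtain ⟨g, rfl⟩ := MulAction.exists_smul_eq G P Q
    have := isPronormal_cj g⁻¹ (h (cj g K) (g • P) (cj_mono hPK) hQ)
    rwa [← cj_mul, inv_mul_cancel, cj_one] at this
  intro K Q hQK hTQ g
  set π := QuotientGroup.mk' A
  have hπ : Function.Surjective π := QuotientGroup.mk'_surjective A
  obtain ⟨xb, hxb, exb⟩ := hQ (K.map π) ⟨Q.mapSurjective hπ, map_mono hQK⟩ (π g)
  change xb ∈ K.map π ⊔ cj (π g) (K.map π) at hxb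
  rw [← map_cj π g K, ← Subgroup.map_sup] at hxb
  obtain ⟨x, hx, rfl⟩ := hxb
  refine reduce hx ?_
  have hg1 : π (x⁻¹ * g) ∈ (normalizer (K : Set G)).map π := by
    rw [hnorm K ⟨Q, hQK⟩, ← cj_eq_iff, map_mul, map_inv, cj_mul]
    change cj (π x)⁻¹ (cj (π g) (K.map π)) = _
    rw [show cj (π g) (K.map π) = cj (π x) (K.map π) from exb, ← cj_mul, inv_mul_cancel, cj_one]
  obtain ⟨n, hn, hn'⟩ := hg1
  obtain ⟨a, ha, hga⟩ : ∃ a ∈ A, x⁻¹ * g = a * n := by
    refine ⟨x⁻¹ * g * n⁻¹, ?_, by group⟩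
    rw [← QuotientGroup.eq_one_iff]
    change π _ = 1
    rw [map_mul, map_inv, hn', mul_inv_cancel]
  rw [hga, cj_mul, cj_eq_iff.2 hn]
  -- now the conjugating element lies in `A`
  set B := K ⊓ A with hB
  have hTB : T ≤ B := le_inf (hTQ.trans hQK) hT.1
  have hBA : B ≤ A := inf_le_right
  obtain ⟨P0, hP0⟩ := (hT.2.1.comap_of_injective A.subtype A.subtype_injective).exists_le_sylow
  have hP0T : (P0 : Subgroup ↥A).map A.subtype = T := hT.2.2 _ (map_subtype_le _)
    (P0.isPGroup'.map _) (fun t ht => ⟨⟨t, hT.1 ht⟩, hP0 ht, rfl⟩)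
  have hBpro : Cfsg.IsPronormal (B.subgroupOf A) := hA _ ⟨P0, fun t ht =>
    hTB (hP0T ▸ mem_map_of_mem A.subtype ht)⟩
  obtain ⟨b, hb, eb⟩ := exists_in_subgroup hBA hBpro ha
  refine reduce ((sup_le_sup inf_le_left (cj_mono inf_le_left)) hb) ?_
  have hbA : b ∈ A := (sup_le hBA ((cj_mono hBA).trans (cj_normal a A).le)) hb
  obtain ⟨a, ha, rfl⟩ : ∃ a', a' ∈ A ∧ b * a' = a :=
    ⟨b⁻¹ * a, A.mul_mem (A.inv_mem hbA) ha, by group⟩
  rw [inv_mul_cancel_left]
  have eB : cj a B = B := by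
    have := congrArg (cj b⁻¹) eb
    rwa [← cj_mul, ← cj_mul, inv_mul_cancel_left, inv_mul_cancel, cj_one] at this
  obtain ⟨c, hc, ec⟩ := hT.exists_conj (hT.conj a) hBA hTB (eB ▸ cj_mono hTB)
  refine reduce (mem_sup_left hc.1) ?_
  have eT : cj (c⁻¹ * a) T = T := by rw [cj_mul, ec, ← cj_mul, inv_mul_cancel, cj_one]
  have eB2 : cj (c⁻¹ * a) B = B := by rw [cj_mul, eB, cj_self (B.inv_mem hc)]
  generalize c⁻¹ * a = d at eT eB2 ⊢
  set N := normalizer (T : Set G) with hNdef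
  set KN := K ⊓ N with hKNdef
  have hQN : (Q : Subgroup G) ≤ N := sylow_le_normalizer hT hTQ
  have hKNp : Cfsg.IsPronormal (KN.subgroupOf N) := by
    refine isPronormal_of_map (QuotientGroup.mk' (T.subgroupOf N)) _ ?_ (hN _ ?_)
    · rw [QuotientGroup.ker_mk']
      exact Subgroup.comap_mono (le_inf (hTQ.trans hQK) le_normalizer)
    · exact ⟨(Q.subtype hQN).mapSurjective (QuotientGroup.mk'_surjective _),
        Subgroup.map_mono (Subgroup.comap_mono (le_inf hQK hQN))⟩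
  obtain ⟨y, hy, ey⟩ := exists_in_subgroup inf_le_right hKNp (cj_eq_iff.1 eT)
  have hKNB : KN ≤ normalizer (B : Set G) := fun k hk => by
    rw [← cj_eq_iff, hB, cj_inf, cj_self hk.1, cj_normal]
  have hyB : y ∈ normalizer (B : Set G) :=
    (sup_le hKNB (cj_le_of_mem (cj_eq_iff.1 eB2) hKNB)) hy
  have hK : B ⊔ KN = K := by
    refine le_antisymm (sup_le inf_le_left inf_le_left) fun k hk => ?_
    obtain ⟨c, hc, ec⟩ := hT.exists_conj (hT.conj k) hBA hTB
      ((cj_mono hTB).trans (by rw [hB, cj_inf, cj_self hk, cj_normal]))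
    have : c⁻¹ * k ∈ N := cj_eq_iff.1 (by rw [cj_mul, ec, ← cj_mul, inv_mul_cancel, cj_one])
    rw [← mul_inv_cancel_left c k]
    exact mul_mem (mem_sup_left hc) (mem_sup_right ⟨K.mul_mem (K.inv_mem hc.1) hk, this⟩)
  refine ⟨y, (sup_le_sup inf_le_left (cj_mono inf_le_left)) hy, ?_⟩
  rw [← hK, cj_sup, cj_sup, ey, eB2, cj_eq_iff.2 hyB]

/-- The criterion, necessity. -/
theorem of_isPronormal (A : Subgroup G) [A.Normal] (T : Subgroup G) (hT : MaxP p A T)
    [(T.subgroupOf (normalizer (T : Set G))).Normal]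
    (h : ∀ K : Subgroup G, (∃ P : Sylow p G, (P : Subgroup G) ≤ K) → Cfsg.IsPronormal K) :
    (∀ K : Subgroup (↥(normalizer (T : Set G)) ⧸ T.subgroupOf (normalizer (T : Set G))),
      (∃ P : Sylow p (↥(normalizer (T : Set G)) ⧸ T.subgroupOf (normalizer (T : Set G))),
        (P : Subgroup _) ≤ K) → Cfsg.IsPronormal K) ∧
    ∀ K : Subgroup G, (∃ P : Sylow p G, (P : Subgroup G) ≤ K) →
      (normalizer (K : Set G)).map (QuotientGroup.mk' A) =
        normalizer ((K.map (QuotientGroup.mk' A) : Subgroup (G ⧸ A)) : Set (G ⧸ A)) := by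
  constructor
  · rintro K ⟨P', hP'⟩
    set N := normalizer (T : Set G)
    set f := QuotientGroup.mk' (T.subgroupOf N)
    have hf : Function.Surjective f := QuotientGroup.mk'_surjective _
    obtain ⟨P1, rfl⟩ := Sylow.mapSurjective_surjective hf p P'
    obtain ⟨Q, hQ⟩ := hT.2.1.exists_le_sylow
    obtain ⟨R, hR⟩ := (P1.isPGroup'.map N.subtype).exists_le_sylow
    have hcard : Nat.card ↥((P1 : Subgroup ↥N).map N.subtype) = Nat.card ↥(R : Subgroup G) := by
      rw [card_map_of_injective N.subtype_injective,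
        Sylow.card_eq_multiplicity R, ← Sylow.card_eq_multiplicity Q,
        Sylow.card_eq_multiplicity P1,
        ← Sylow.card_eq_multiplicity (Q.subtype (sylow_le_normalizer hT hQ)), Sylow.coe_subtype]
      exact Nat.card_congr (subgroupOfEquivOfLe (sylow_le_normalizer hT hQ)).toEquiv
    have hRN : (R : Subgroup G) = (P1 : Subgroup ↥N).map N.subtype :=
      (eq_of_le_of_card_ge hR hcard.ge).symm
    rw [← map_comap_eq_self_of_surjective hf K]
    exact isPronormal_map f hf _ (isPronormal_of_map_subtype _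
      (h _ ⟨R, hRN.le.trans (map_mono (map_le_iff_le_comap.1 hP'))⟩))
  · intro K hK
    set π := QuotientGroup.mk' A
    ext z
    obtain ⟨g, rfl⟩ := QuotientGroup.mk'_surjective A z
    constructor
    · rintro ⟨n, hn, e⟩
      rw [← e, ← cj_eq_iff, ← map_cj, cj_eq_iff.2 hn]
    · intro hg
      obtain ⟨x, hx, ex⟩ := h K hK g
      change x ∈ K ⊔ cj g K at hx
      have hxK : π x ∈ K.map π := by
        have h1 := mem_map_of_mem π hx
        rw [Subgroup.map_sup, map_cj, cj_eq_iff.2 hg, sup_idem] at h1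
        exact h1
      obtain ⟨k, hk, ek⟩ := hxK
      have hn : x⁻¹ * g ∈ normalizer (K : Set G) := cj_eq_iff.1 (by
        rw [cj_mul, show cj g K = cj x K from ex, ← cj_mul, inv_mul_cancel, cj_one])
      refine ⟨k * (x⁻¹ * g), Subgroup.mul_mem _ (le_normalizer hk) hn, ?_⟩
      rw [map_mul, map_mul, map_inv, ek, mul_inv_cancel_left]

omit [Finite G] in
/-- With self-normalising Sylow subgroups, overgroups of Sylow subgroups are self-normalising. -/
theorem normalizer_eq_self [Finite G]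
    (hQ : ∀ P : Sylow p G, normalizer ((P : Subgroup G) : Set G) = P) {K : Subgroup G}
    {P : Sylow p G} (hPK : (P : Subgroup G) ≤ K) {g : G} {J : Subgroup G} (hKJ : K ≤ J)
    (hg : cj g K ≤ J) : g ∈ J := by
  have hle : ((g • P : Sylow p G) : Subgroup G) ≤ J := (cj_mono hPK).trans hg
  obtain ⟨x, hx⟩ := MulAction.exists_smul_eq ↥J (P.subtype (hPK.trans hKJ))
    ((g • P).subtype hle)
  rw [Sylow.smul_subtype] at hx
  have := Sylow.subtype_injective hx
  have h2 : ((x : G)⁻¹ * g) • P = P := by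
    rw [mul_smul]
    rw [← this]
    exact inv_smul_smul (x : G) P
  have h3 : (x : G)⁻¹ * g ∈ normalizer ((P : Subgroup G) : Set G) :=
    Sylow.smul_eq_iff_mem_normalizer.1 h2
  rw [hQ] at h3
  rw [← mul_inv_cancel_left (x : G) g]
  exact J.mul_mem x.2 (hKJ (hPK h3))

end Cfsg.Agent.FGS80.Pronormal
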