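import Mathlib

/-!
# No group has 35 Sylow 17-subgroups

Minimal counterexample: no nontrivial proper normal subgroup, Sylow subgroups of order 17
(double counting of intersections), self-centralising; then the Sylow 2-subgroup fixes a point
and is cyclic, against Burnside's transfer.
-/

set_option autoImplicit false
set_option linter.style.haveILetI false

namespace Cfsg.Agent.FGS80.Sylow35

open Subgroup
open scoped Pointwise

universe u

theorem fact17 : Fact (Nat.Prime 17) := ⟨by norm_num⟩

variable {G : Type u} [Group G] [Finite G] [Fact (Nat.Prime 17)]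

theorem burnside {p : ℕ} [Fact p.Prime] [IsSimpleGroup G] (P : Sylow p G)
    (h1 : (P : Subgroup G) ≠ ⊥) (h2 : (P : Subgroup G) ≠ ⊤) :
    ¬ normalizer (P : Set G) ≤ centralizer (P : Set G) := fun h => by
  have hc := MonoidHom.ker_transferSylow_isComplement' P h
  rcases (MonoidHom.transferSylow P h).normal_ker.eq_bot_or_eq_top with h' | h' <;> rw [h'] at hc
  · exact h2 (Subgroup.isComplement'_bot_left.1 hc)
  · exact h1 (Subgroup.isComplement'_top_left.1 hc)

theorem index_norm (hn : Nat.card (Sylow 17 G) = 35) (P : Sylow 17 G) :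
    (normalizer ((P : Subgroup G) : Set G)).index = 35 := by
  rw [← hn, P.card_eq_index_normalizer]; rfl

theorem mem17 (P : Sylow 17 G) {R : Subgroup G} (hR : IsPGroup 17 R)
    (hle : R ≤ normalizer ((P : Subgroup G) : Set G)) : R ≤ P :=
  inf_eq_left.1 ((hR.inf_normalizer_sylow P).symm.trans (inf_eq_left.2 hle))

theorem relIndex_pair (hn : Nat.card (Sylow 17 G) = 35) {P Q : Sylow 17 G} (h : Q ≠ P) :
    ((normalizer ((Q : Subgroup G) : Set G)).subgroupOf (P : Subgroup G)).index = 17 := by
  obtain ⟨i, hi⟩ := P.isPGroup'.index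
    ((normalizer ((Q : Subgroup G) : Set G)).subgroupOf (P : Subgroup G))
  have hle : ((normalizer ((Q : Subgroup G) : Set G)).subgroupOf (P : Subgroup G)).index ≤ 35 := by
    rw [← index_norm hn Q, ← relIndex_top_right (normalizer ((Q : Subgroup G) : Set G))]
    exact relIndex_le_of_le_right le_top (by rw [relIndex_top_right]; exact index_ne_zero_of_finite)
  rcases i with _ | _ | i
  · exfalso
    rw [pow_zero] at hi
    have hPN : (P : Subgroup G) ≤ normalizer ((Q : Subgroup G) : Set G) :=
      subgroupOf_eq_top.1 (index_eq_one.1 hi)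
    exact h (Sylow.ext (P.is_maximal' Q.isPGroup' (mem17 Q P.isPGroup' hPN)))
  · exact hi
  · exfalso
    rw [hi, pow_succ, pow_succ] at hle
    have := Nat.one_le_pow i 17 (by norm_num)
    omega

theorem subgroupOf_inf (P Q : Sylow 17 G) :
    (normalizer ((Q : Subgroup G) : Set G)).subgroupOf (P : Subgroup G) =
      ((P : Subgroup G) ⊓ Q).subgroupOf (P : Subgroup G) := by
  rw [← P.isPGroup'.inf_normalizer_sylow Q, inf_subgroupOf_left]; rfl

theorem orbit_card (hn : Nat.card (Sylow 17 G) = 35) {P Q : Sylow 17 G} (h : Q ≠ P) :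
    (MulAction.orbit (↥(P : Subgroup G)) Q).ncard = 17 := by
  rw [← MulAction.index_stabilizer]
  refine Eq.trans ?_ (relIndex_pair hn h)
  congr 1
  ext x
  rw [MulAction.mem_stabilizer_iff, mem_subgroupOf]
  exact Sylow.smul_eq_iff_mem_normalizer

theorem orbit_ne {P Q S : Sylow 17 G} (h : Q ≠ P)
    (hS : S ∈ MulAction.orbit (↥(P : Subgroup G)) Q) : S ≠ P := by
  obtain ⟨x, rfl⟩ := hS
  intro he
  refine h ?_
  have hx : x • P = P := Sylow.smul_eq_iff_mem_normalizer.2 (le_normalizer x.2)
  exact (MulAction.injective x) (he.trans hx.symm)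

/-- Off `P` there are exactly two orbits of `P`. -/
theorem two_orbits (hn : Nat.card (Sylow 17 G) = 35) {P Q R : Sylow 17 G} (hQ : Q ≠ P) (hR : R ≠ P)
    (hRQ : R ∉ MulAction.orbit (↥(P : Subgroup G)) Q) {S : Sylow 17 G} (hS : S ≠ P) :
    S ∈ MulAction.orbit (↥(P : Subgroup G)) Q ∨ S ∈ MulAction.orbit (↥(P : Subgroup G)) R := by
  set A := MulAction.orbit (↥(P : Subgroup G)) Q with hA
  set B := MulAction.orbit (↥(P : Subgroup G)) R with hB
  have hdis : Disjoint A B := by
    refine Set.disjoint_left.2 fun x hx hx' => hRQ ?_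
    rw [hA, ← MulAction.orbit_eq_iff] at hx ⊢
    rw [hB, ← MulAction.orbit_eq_iff] at hx'
    rw [← hx', hx]
  by_contra hh
  push Not at hh
  have hc : ({P, S} ∪ (A ∪ B) : Set (Sylow 17 G)).ncard = 36 := by
    rw [Set.ncard_union_eq ?_ (Set.toFinite _) (Set.toFinite _),
      Set.ncard_union_eq hdis (Set.toFinite _) (Set.toFinite _), Set.ncard_pair hS.symm,
      hA, hB, orbit_card hn hQ, orbit_card hn hR]
    refine Set.disjoint_left.2 fun x hx hx' => ?_
    rcases hx with rfl | rfl
    · rcases hx' with hx' | hx'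
      exacts [orbit_ne hQ hx' rfl, orbit_ne hR hx' rfl]
    · rcases hx' with hx' | hx'
      exacts [hh.1 hx', hh.2 hx']
  have := Set.ncard_le_ncard (Set.subset_univ ({P, S} ∪ (A ∪ B))) (Set.toFinite _)
  rw [hc, Set.ncard_univ, hn] at this
  omega

theorem exists_ne_sylow (hn : Nat.card (Sylow 17 G) = 35) (P : Sylow 17 G) : ∃ Q, Q ≠ P := by
  haveI : Nontrivial (Sylow 17 G) := Finite.one_lt_card_iff_nontrivial.1 (by omega)
  exact exists_ne P

/-- Without a normal `17`-subgroup the Sylow subgroups have order `17`. -/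
theorem card_eq_prime (hn : Nat.card (Sylow 17 G) = 35)
    (hD : ∀ D : Subgroup G, D.Normal → IsPGroup 17 D → D = ⊥) (P : Sylow 17 G) :
    Nat.card (P : Subgroup G) = 17 := by
  classical
  haveI := Fintype.ofFinite (Sylow 17 G)
  have hcard : ∀ P Q : Sylow 17 G, Q ≠ P →
      Nat.card ↥((P : Subgroup G) ⊓ Q) * 17 = Nat.card (P : Subgroup G) := by
    intro P Q h
    have := (((P : Subgroup G) ⊓ Q).subgroupOf (P : Subgroup G)).card_mul_index
    rwa [← subgroupOf_inf P Q, relIndex_pair hn h, subgroupOf_inf P Q,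
      Nat.card_congr (subgroupOfEquivOfLe inf_le_left).toEquiv] at this
  obtain ⟨Q₀, hQ₀⟩ := exists_ne_sylow hn P
  by_contra hne
  set d := Nat.card ↥((P : Subgroup G) ⊓ Q₀) with hd
  have hd1 : d ≠ 1 := fun h => hne (by rw [← hcard P Q₀ hQ₀, ← hd, h])
  have hall : ∀ R : Sylow 17 G, Nat.card (R : Subgroup G) = d * 17 := fun R => by
    rw [hd, hcard P Q₀ hQ₀]; exact Nat.card_congr (R.equiv P).toEquiv
  have eqD : ∀ R S S' : Sylow 17 G, S ≠ R → S' ≠ R →
      (R : Subgroup G) ⊓ S ≤ S' → (R : Subgroup G) ⊓ S' = (R : Subgroup G) ⊓ S := by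
    intro R S S' h h' hle
    refine (eq_of_le_of_card_ge (le_inf inf_le_left hle) ?_).symm
    have h1 := hcard R S h
    have h2 := hcard R S' h'
    omega
  -- intersections are constant on orbits
  have horb : ∀ R S S' : Sylow 17 G, S ≠ R → S' ∈ MulAction.orbit (↥(R : Subgroup G)) S →
      (R : Subgroup G) ⊓ S' = (R : Subgroup G) ⊓ S := by
    intro R S S' h hS'
    refine eqD R S S' h (orbit_ne h hS') ?_
    haveI hnorm : (((R : Subgroup G) ⊓ S).subgroupOf (R : Subgroup G)).Normal := by
      refine normal_of_index_eq_minFac_card ?_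
      rw [← subgroupOf_inf R S, relIndex_pair hn h]
      obtain ⟨k, hk⟩ := IsPGroup.iff_card.1 R.isPGroup'
      rw [hk, Nat.pow_minFac, Nat.Prime.minFac_eq (by norm_num)]
      rintro rfl
      have := hall R
      rw [hk, pow_zero] at this
      omega
    obtain ⟨x, rfl⟩ := hS'
    intro y hy
    have h1 := hnorm.conj_mem ⟨y, hy.1⟩ (mem_subgroupOf.2 hy) x⁻¹
    rw [mem_subgroupOf] at h1
    rw [show ((x • S : Sylow 17 G) : Subgroup G) = MulAut.conj (x : G) • (S : Subgroup G) from rfl]
    refine ⟨_, (mem_inf.1 h1).2, ?_⟩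
    simp [mul_assoc]
  -- each point has exactly two intersections
  have htwo : ∀ R : Sylow 17 G, ∃ D E : Subgroup G, D ≠ E ∧
      (Finset.univ.filter fun S : Sylow 17 G => S ≠ R ∧ (R : Subgroup G) ⊓ S = D).card = 17 ∧
      (Finset.univ.filter fun S : Sylow 17 G => S ≠ R ∧ (R : Subgroup G) ⊓ S = E).card = 17 ∧
      (∀ S, S ≠ R → (R : Subgroup G) ⊓ S = D ∨ (R : Subgroup G) ⊓ S = E) ∧
      (∃ S, S ≠ R ∧ (R : Subgroup G) ⊓ S = D) ∧ ∃ S, S ≠ R ∧ (R : Subgroup G) ⊓ S = E := by
    intro R
    obtain ⟨S, hS⟩ := exists_ne_sylow hn R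
    obtain ⟨T, hT, hTne⟩ : ∃ T, T ≠ R ∧ (R : Subgroup G) ⊓ T ≠ (R : Subgroup G) ⊓ S := by
      by_contra hall'
      push Not at hall'
      have hle : (R : Subgroup G) ⊓ S ≤ (R : Subgroup G).normalCore := by
        intro y hy g
        have hm : y ∈ ((g⁻¹ • R : Sylow 17 G) : Subgroup G) := by
          by_cases he : g⁻¹ • R = R
          · rw [he]; exact hy.1
          · exact (mem_inf.1 (show y ∈ (R : Subgroup G) ⊓ (g⁻¹ • R : Sylow 17 G) by
              rw [hall' _ he]; exact hy)).2
        obtain ⟨z, hz, hz'⟩ := hm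
        rw [← hz']
        show g * (g⁻¹ * z * (g⁻¹)⁻¹) * g⁻¹ ∈ (R : Subgroup G)
        rw [show g * (g⁻¹ * z * (g⁻¹)⁻¹) * g⁻¹ = z by group]
        exact hz
      have hcore := hD _ (normalCore_normal _) (R.isPGroup'.to_le (normalCore_le _))
      rw [hcore, le_bot_iff] at hle
      have := hcard R S hS
      rw [hle, card_bot, hall R] at this
      omega
    have hnotin : T ∉ MulAction.orbit (↥(R : Subgroup G)) S := fun h => hTne (horb R S T hS h)
    have hall2 : ∀ U, U ≠ R → (R : Subgroup G) ⊓ U = (R : Subgroup G) ⊓ S ∨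
        (R : Subgroup G) ⊓ U = (R : Subgroup G) ⊓ T := fun U hU =>
      (two_orbits hn hS hT hnotin hU).imp (horb R S U hS) (horb R T U hT)
    have hfil : ∀ A B : Sylow 17 G, A ≠ R → B ≠ R → (R : Subgroup G) ⊓ B ≠ (R : Subgroup G) ⊓ A →
        (Finset.univ.filter fun U : Sylow 17 G =>
          U ≠ R ∧ (R : Subgroup G) ⊓ U = (R : Subgroup G) ⊓ A).card = 17 := by
      intro A B hA hB hAB
      refine Eq.trans ?_ (orbit_card hn hA)
      rw [Set.ncard_eq_toFinset_card']
      congr 1
      ext U
      simp only [Finset.mem_filter, Finset.mem_univ, true_and, Set.mem_toFinset]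
      refine ⟨fun hU => ?_, fun hU => ⟨orbit_ne hA hU, horb R A U hA hU⟩⟩
      rcases two_orbits hn hA hB (fun h => hAB (horb R A B hA h)) hU.1 with h | h
      · exact h
      · exact absurd ((horb R B U hB h).symm.trans hU.2) hAB
    exact ⟨_, _, hTne.symm, hfil S T hS hT hTne, hfil T S hT hS hTne.symm, hall2, ⟨S, hS, rfl⟩,
      T, hT, rfl⟩
  -- double counting
  let I : Finset (Subgroup G) :=
    ((Finset.univ : Finset (Sylow 17 G)).offDiag).image fun x => (x.1 : Subgroup G) ⊓ x.2
  have hI : ∀ D, D ∈ I ↔ ∃ R S : Sylow 17 G, S ≠ R ∧ (R : Subgroup G) ⊓ S = D := fun D => by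
    simp only [I, Finset.mem_image, Finset.mem_offDiag, Finset.mem_univ, true_and, Prod.exists]
    exact exists_congr fun R => exists_congr fun S => and_congr_left' ne_comm
  have habove : ∀ R : Sylow 17 G, (I.filter fun D : Subgroup G => D ≤ R).card = 2 := by
    intro R
    obtain ⟨D, E, hDE, -, -, hall2, ⟨S, hS, hSD⟩, T, hT, hTE⟩ := htwo R
    rw [show (I.filter fun D : Subgroup G => D ≤ R) = {D, E} from ?_, Finset.card_pair hDE]
    ext X
    simp only [Finset.mem_filter, Finset.mem_insert, Finset.mem_singleton, hI]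
    constructor
    · rintro ⟨⟨A, B, hAB, rfl⟩, hle⟩
      by_cases hAR : A = R
      · subst hAR; exact hall2 B hAB
      · have e := eqD A B R hAB (Ne.symm hAR) hle
        rw [← e, inf_comm]
        exact hall2 A hAR
    · rintro (rfl | rfl)
      exacts [⟨⟨R, S, hS, hSD⟩, hSD ▸ inf_le_left⟩, ⟨⟨R, T, hT, hTE⟩, hTE ▸ inf_le_left⟩]
  have hbelow : ∀ D ∈ I,
      (Finset.univ.filter fun R : Sylow 17 G => D ≤ R).card = 18 := by
    intro D hDI
    obtain ⟨A, B, hAB, rfl⟩ := (hI D).1 hDI
    obtain ⟨D', E', -, hc1, hc2, hall2, -, -⟩ := htwo A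
    have hc : (Finset.univ.filter fun S : Sylow 17 G =>
        S ≠ A ∧ (A : Subgroup G) ⊓ S = (A : Subgroup G) ⊓ B).card = 17 := by
      rcases hall2 B hAB with h | h <;> rw [h]
      exacts [hc1, hc2]
    rw [show (Finset.univ.filter fun R : Sylow 17 G => (A : Subgroup G) ⊓ B ≤ R) =
      insert A (Finset.univ.filter fun S : Sylow 17 G =>
        S ≠ A ∧ (A : Subgroup G) ⊓ S = (A : Subgroup G) ⊓ B) from ?_,
      Finset.card_insert_of_notMem (by simp), hc]
    ext R
    simp only [Finset.mem_filter, Finset.mem_univ, true_and, Finset.mem_insert]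
    constructor
    · intro hle
      by_cases hRA : R = A
      · exact Or.inl hRA
      · exact Or.inr ⟨hRA, eqD A B R hAB hRA hle⟩
    · rintro (rfl | ⟨-, he⟩)
      exacts [inf_le_left, he ▸ inf_le_right]
  have hdc := Finset.sum_card_bipartiteAbove_eq_sum_card_bipartiteBelow
    (fun (R : Sylow 17 G) (D : Subgroup G) => D ≤ R) (s := Finset.univ) (t := I)
  simp only [Finset.bipartiteAbove, Finset.bipartiteBelow] at hdc
  rw [Finset.sum_congr rfl fun R _ => habove R, Finset.sum_congr rfl hbelow, Finset.sum_const,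
    Finset.sum_const, Finset.card_univ, ← Nat.card_eq_fintype_card, hn, smul_eq_mul,
    smul_eq_mul] at hdc
  omega

/-- The simple case. -/
theorem simple_case [IsSimpleGroup G] (hn : Nat.card (Sylow 17 G) = 35) : False := by
  classical
  haveI := Fintype.ofFinite (Sylow 17 G)
  have hntop : ∀ P : Sylow 17 G, normalizer ((P : Subgroup G) : Set G) ≠ ⊤ := fun P h => by
    have := index_norm hn P
    rw [h, index_top] at this
    omega
  have h17 : ∀ P : Sylow 17 G, Nat.card (P : Subgroup G) = 17 := by
    refine card_eq_prime hn fun D hDn hDp => ?_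
    rcases hDn.eq_bot_or_eq_top with h | h
    · exact h
    · exfalso
      obtain ⟨P⟩ : Nonempty (Sylow 17 G) := inferInstance
      have hPtop : (P : Subgroup G) = ⊤ :=
        top_le_iff.1 (h ▸ hDp.le_sylow_of_normal P)
      exact hntop P (top_le_iff.1 (hPtop ▸ le_normalizer))
  have hG17 : 17 ∣ Nat.card G := by
    obtain ⟨P⟩ : Nonempty (Sylow 17 G) := inferInstance
    rw [← h17 P]; exact card_subgroup_dvd_card _
  have hG35 : 35 ∣ Nat.card G := by
    obtain ⟨P⟩ : Nonempty (Sylow 17 G) := inferInstance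
    rw [← index_norm hn P]; exact index_dvd_card _
  -- faithful
  have hfaith : ∀ g : G, (∀ S : Sylow 17 G, g • S = S) → g = 1 := by
    intro g hg
    have hk : (MulAction.toPermHom G (Sylow 17 G)).ker = ⊥ := by
      rcases (MonoidHom.normal_ker (MulAction.toPermHom G (Sylow 17 G))).eq_bot_or_eq_top with h | h
      · exact h
      · exfalso
        obtain ⟨P⟩ : Nonempty (Sylow 17 G) := inferInstance
        refine hntop P (eq_top_iff.2 fun x _ => Sylow.smul_eq_iff_mem_normalizer.1 ?_)
        have hx : x ∈ (MulAction.toPermHom G (Sylow 17 G)).ker := h ▸ mem_top x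
        exact congrArg (fun σ => σ P) (MonoidHom.mem_ker.1 hx)
    have : g ∈ (MulAction.toPermHom G (Sylow 17 G)).ker :=
      MonoidHom.mem_ker.2 (Equiv.ext hg)
    rwa [hk, mem_bot] at this
  -- centralisers
  have hcent : ∀ P : Sylow 17 G, centralizer ((P : Subgroup G) : Set G) ≤ P := by
    intro P
    set C := centralizer ((P : Subgroup G) : Set G)
    have hcomm : ∀ c ∈ C, ∀ x : ↥(P : Subgroup G), ∀ S : Sylow 17 G, c • x • S = x • c • S := by
      intro c hc x S
      rw [Subgroup.smul_def, Subgroup.smul_def, smul_smul, smul_smul, ← hc x x.2]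
    have hcP : ∀ c ∈ C, c • P = P := fun c hc =>
      Sylow.smul_eq_iff_mem_normalizer.2 (centralizer_le_normalizer _ hc)
    have hfree : ∀ S : Sylow 17 G, S ≠ P → ∀ x : ↥(P : Subgroup G), x • S = S → x = 1 := by
      intro S hS x hx
      have hidx := relIndex_pair hn hS
      have hcm := ((normalizer ((S : Subgroup G) : Set G)).subgroupOf (P : Subgroup G)).card_mul_index
      rw [hidx, h17 P] at hcm
      have : (normalizer ((S : Subgroup G) : Set G)).subgroupOf (P : Subgroup G) = ⊥ :=
        eq_bot_of_card_eq _ (by omega)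
      rw [← mem_bot, ← this, mem_subgroupOf]
      exact Sylow.smul_eq_iff_mem_normalizer.1 hx
    have hx17 : ∀ x : ↥(P : Subgroup G), x ^ 17 = 1 := fun x => by
      exact (congrArg (x ^ ·) (h17 P).symm).trans pow_card_eq_one'
    -- `c ^ 2` preserves each orbit
    have hsq : ∀ c ∈ C, ∀ S : Sylow 17 G, S ≠ P →
        ∃ x : ↥(P : Subgroup G), (c * c) • S = x • S := by
      intro c hc S hS
      by_cases h : c • S ∈ MulAction.orbit (↥(P : Subgroup G)) S
      · obtain ⟨x, hx⟩ := h
        refine ⟨x * x, ?_⟩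
        simp only at hx
        rw [mul_smul, ← hx, hcomm c hc, ← hx, mul_smul]
      · have hcS : c • S ≠ P := fun he =>
          hS (MulAction.injective c (he.trans (hcP c hc).symm))
        have hccS : c • c • S ≠ P := fun he =>
          hcS (MulAction.injective c (he.trans (hcP c hc).symm))
        rcases two_orbits hn hS hcS h hccS with ⟨x, hx⟩ | ⟨x, hx⟩
        · exact ⟨x, by rw [mul_smul]; exact hx.symm⟩
        · exfalso
          simp only at hx
          rw [← hcomm c hc] at hx
          exact h ⟨x, MulAction.injective c hx⟩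
    have hinv : ∀ c ∈ C, c * c = 1 → c = 1 := by
      intro c hc hcc
      by_contra hc1
      have hnofix : ∀ S : Sylow 17 G, c • S = S → S = P := by
        intro S hfix
        by_contra hS
        refine hc1 (hfaith c fun U => ?_)
        by_cases hU : U = P
        · rw [hU]; exact hcP c hc
        by_cases hUS : U ∈ MulAction.orbit (↥(P : Subgroup G)) S
        · obtain ⟨x, rfl⟩ := hUS
          rw [hcomm c hc, hfix]
        have hcU : c • U ≠ P := fun he => hU (MulAction.injective c (he.trans (hcP c hc).symm))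
        rcases two_orbits hn hS hU hUS hcU with ⟨x, hx⟩ | ⟨x, hx⟩
        · exfalso
          refine hUS ⟨x, MulAction.injective c ?_⟩
          simp only at hx ⊢
          rw [hcomm c hc, hfix, hx]
        · simp only at hx
          have h2 : (x * x) • U = U := by
            rw [mul_smul, hx, ← hcomm c hc, hx, smul_smul, hcc, one_smul]
          have hx2 := hfree U hU _ h2
          have : x = 1 := by
            have h3 : x ^ (2 * 8 + 1) = 1 := hx17 x
            rw [pow_succ, pow_mul, pow_two, hx2, one_pow,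
              one_mul] at h3
            exact h3
          rw [← hx, this, one_smul]
      -- `c` is an odd permutation
      let σ := MulAction.toPermHom G (Sylow 17 G) c
      have hσ2 : σ ^ 2 = 1 := by rw [← map_pow, pow_two, hcc, map_one]
      have hσ1 : σ ≠ 1 := fun h => hc1 (hfaith c fun S => congrArg (fun τ => τ S) h)
      have hord : orderOf σ = 2 := orderOf_eq_prime hσ2 hσ1
      obtain ⟨k, hk⟩ := Equiv.Perm.cycleType_prime_order (σ := σ) (hord ▸ Nat.prime_two)
      have hsupp : σ.support = Finset.univ.erase P := by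
        ext S
        simp only [Equiv.Perm.mem_support, Finset.mem_erase, Finset.mem_univ, and_true]
        exact ⟨fun h he => h (he ▸ hcP c hc), fun h he => h (hnofix S he)⟩
      have hsum := σ.sum_cycleType
      rw [hsupp, Finset.card_erase_of_mem (Finset.mem_univ _), Finset.card_univ,
        ← Nat.card_eq_fintype_card, hn, hk, Multiset.sum_replicate, hord, smul_eq_mul] at hsum
      have hsign : Equiv.Perm.sign σ = -1 := by
        rw [Equiv.Perm.sign_of_cycleType, hk, Multiset.sum_replicate, Multiset.card_replicate,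
          hord, smul_eq_mul, show k + 1 = 17 by omega]
        decide
      let f := Equiv.Perm.sign.comp (MulAction.toPermHom G (Sylow 17 G))
      rcases f.normal_ker.eq_bot_or_eq_top with h | h
      · have h2 := Nat.card_le_card_of_injective f ((MonoidHom.ker_eq_bot_iff _).1 h)
        rw [Nat.card_eq_fintype_card (α := ℤˣ), Fintype.card_units_int] at h2
        have := Nat.le_of_dvd Nat.card_pos hG17
        omega
      · have h2 : c ∈ f.ker := h ▸ mem_top c
        rw [MonoidHom.mem_ker] at h2
        exact absurd (hsign.symm.trans h2) (by decide)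
    intro c hc
    have h34 : (c * c) ^ 17 = 1 := by
      refine hfaith _ fun S => ?_
      by_cases hS : S = P
      · rw [hS]; exact hcP _ (pow_mem (mul_mem hc hc) 17)
      obtain ⟨x, hx⟩ := hsq c hc S hS
      have : ∀ i : ℕ, (c * c) ^ i • S = x ^ i • S := by
        intro i
        induction i with
        | zero => rw [pow_zero, pow_zero, one_smul, one_smul]
        | succ i ih =>
          rw [pow_succ', mul_smul, ih, hcomm _ (mul_mem hc hc), hx, smul_smul, ← pow_succ]
      rw [this, hx17, one_smul]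
    have hc17 : c ^ 17 = 1 := hinv _ (pow_mem hc 17) (by
      rw [← pow_add, ← h34, ← pow_two, ← pow_mul])
    refine mem17 P (R := zpowers c) ?_ (zpowers_le.2 (centralizer_le_normalizer _ hc)) (mem_zpowers c)
    have hd : orderOf c ∣ 17 := orderOf_dvd_of_pow_eq_one hc17
    rcases (by norm_num : Nat.Prime 17).eq_one_or_self_of_dvd _ hd with h | h
    · exact IsPGroup.of_card (n := 0) (by rw [Nat.card_zpowers, h, pow_zero])
    · exact IsPGroup.of_card (n := 1) (by rw [Nat.card_zpowers, h, pow_one])
  -- Sylow 2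
  haveI : Fact (Nat.Prime 2) := ⟨Nat.prime_two⟩
  obtain ⟨T⟩ : Nonempty (Sylow 2 G) := inferInstance
  obtain ⟨P, hP⟩ := T.isPGroup'.nonempty_fixed_point_of_prime_not_dvd_card (Sylow 17 G)
    (by rw [hn]; norm_num)
  set N := normalizer ((P : Subgroup G) : Set G)
  have hTN : (T : Subgroup G) ≤ N := fun t ht => Sylow.smul_eq_iff_mem_normalizer.1 (hP ⟨t, ht⟩)
  let φ : ↥N →* MulAut ↥(P : Subgroup G) := (P : Subgroup G).normalizerMonoidHom
  have hker : φ.ker = (centralizer ((P : Subgroup G) : Set G)).subgroupOf N :=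
    normalizerMonoidHom_ker _
  haveI : IsCyclic ↥(P : Subgroup G) := isCyclic_of_prime_card (h17 P)
  haveI : IsCyclic (MulAut ↥(P : Subgroup G)) := by
    have e := IsCyclic.mulAutMulEquiv ↥(P : Subgroup G)
    rw [h17 P] at e
    exact isCyclic_of_injective e.toMonoidHom e.injective
  by_cases hT : (T : Subgroup G) = ⊥
  · -- odd order
    refine burnside P (fun h => ?_) (fun h => ?_) fun n hn' => ?_
    · have := h17 P; rw [h, card_bot] at this; omega
    · exact hntop P (top_le_iff.1 (h ▸ le_normalizer))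
    have h1 : φ ⟨n, hn'⟩ = 1 := by
      rw [← orderOf_eq_one_iff]
      have ha : orderOf (φ ⟨n, hn'⟩) ∣ 16 := by
        have h := _root_.orderOf_dvd_natCard (φ ⟨n, hn'⟩)
        rwa [IsCyclic.card_mulAut, h17 P, Nat.totient_prime (by norm_num)] at h
      have hb : orderOf (φ ⟨n, hn'⟩) ∣ Nat.card G :=
        (orderOf_map_dvd φ _).trans ((_root_.orderOf_dvd_natCard _).trans (card_subgroup_dvd_card N))
      have hodd : ¬ 2 ∣ Nat.card G := by
        have := T.not_dvd_index
        rwa [hT, index_bot] at this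
      by_contra hne
      have key : ∀ d ∈ Nat.divisors 16, d ≠ 1 → 2 ∣ d := by decide
      exact hodd ((key _ (Nat.mem_divisors.2 ⟨ha, by norm_num⟩) hne).trans hb)
    have h2 : (⟨n, hn'⟩ : ↥N) ∈ φ.ker := h1
    rw [hker, mem_subgroupOf] at h2
    exact h2
  · have hinj : Function.Injective (φ.comp (inclusion hTN)) := by
      rw [← MonoidHom.ker_eq_bot_iff, eq_bot_iff]
      rintro ⟨t, ht⟩ htk
      have h2 : inclusion hTN ⟨t, ht⟩ ∈ φ.ker := htk
      rw [hker, mem_subgroupOf] at h2
      have hdis := (IsPGroup.disjoint_of_ne 2 17 (by norm_num) _ _ T.isPGroup' P.isPGroup')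
      exact mem_bot.2 (Subtype.ext (hdis.le_bot ⟨ht, hcent P h2⟩ : t = 1))
    haveI : IsCyclic ↥(T : Subgroup G) := isCyclic_of_injective _ hinj
    have h2d : 2 ∣ Nat.card G := by
      by_contra h
      refine hT (eq_bot_of_card_eq _ ?_)
      rw [T.card_eq_multiplicity, Nat.factorization_eq_zero_of_not_dvd h, pow_zero]
    refine burnside T hT (fun h => ?_) ?_
    · obtain ⟨k, hk⟩ := IsPGroup.iff_card.1 T.isPGroup'
      rw [h, card_top] at hk
      rw [hk] at hG17
      have := (Nat.prime_dvd_prime_iff_eq (by norm_num) Nat.prime_two).1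
        ((by norm_num : Nat.Prime 17).dvd_of_dvd_pow hG17)
      omega
    · refine IsCyclic.normalizer_le_centralizer ?_ inferInstance
      exact (Nat.minFac_eq_two_iff _).2 h2d

/-- Nontrivial normal subgroups supplement every Sylow subgroup in a minimal example. -/
theorem sup_eq_top (hn : Nat.card (Sylow 17 G) = 35)
    (ih : ∀ (H : Type u) [Group H] [Finite H], Nat.card H < Nat.card G → Nat.card (Sylow 17 H) ≠ 35)
    {M : Subgroup G} [M.Normal] (hM : M ≠ ⊥) (P : Sylow 17 G) : (P : Subgroup G) ⊔ M = ⊤ := by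
  have hlt : Nat.card (G ⧸ M) < Nat.card G := by
    rw [card_eq_card_quotient_mul_card_subgroup M]
    exact lt_mul_of_one_lt_right Nat.card_pos ((one_lt_card_iff_ne_bot M).2 hM)
  set f := QuotientGroup.mk' M
  have hf : Function.Surjective f := QuotientGroup.mk'_surjective M
  set Pb := P.mapSurjective hf with hPb
  have hk : Nat.card (Sylow 17 (G ⧸ M)) ∣ 35 := by
    rw [Pb.card_eq_index_normalizer, ← index_norm hn P]
    refine (index_dvd_of_le ?_).trans (index_map_dvd _ hf)
    exact le_normalizer_map f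
  have hmod := card_sylow_modEq_one 17 (G ⧸ M)
  have key : ∀ d ∈ Nat.divisors 35, d % 17 = 1 → d = 1 ∨ d = 35 := by decide
  have h1 := (key _ (Nat.mem_divisors.2 ⟨hk, by norm_num⟩) hmod).resolve_right (ih _ hlt)
  have hPbn : (Pb : Subgroup (G ⧸ M)).Normal := by
    rw [← normalizer_eq_top_iff, ← index_eq_one]
    exact Pb.card_eq_index_normalizer.symm.trans h1
  have hL : ((P : Subgroup G) ⊔ M).Normal := by
    have h := hPbn.comap f
    rwa [hPb, Sylow.coe_mapSurjective, comap_map_eq, QuotientGroup.ker_mk'] at h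
  by_contra hLt
  refine ih ↥((P : Subgroup G) ⊔ M) ?_ ?_
  · exact lt_of_le_of_ne (card_le_card_group _) fun h => hLt (eq_top_of_card_eq _ h)
  have hall : ∀ Q : Sylow 17 G, (Q : Subgroup G) ≤ (P : Subgroup G) ⊔ M := by
    intro Q
    obtain ⟨g, rfl⟩ := MulAction.exists_smul_eq G P Q
    rintro - ⟨y, hy, rfl⟩
    exact hL.conj_mem y (mem_sup_left hy) g
  rw [← hn]
  refine (Nat.card_congr (Equiv.ofBijective (fun Q : Sylow 17 G => Q.subtype (hall Q)) ⟨?_, ?_⟩)).symm
  · intro Q Q' h; exact Sylow.subtype_injective h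
  · intro S
    obtain ⟨Q, hQ⟩ := (S.isPGroup'.map ((P : Subgroup G) ⊔ M).subtype).exists_le_sylow
    refine ⟨Q, Sylow.ext (S.is_maximal' (Q.subtype (hall Q)).isPGroup' fun s hs => ?_)⟩
    exact hQ ⟨s, hs, rfl⟩

theorem not_35 : ∀ (n : ℕ) (G : Type u) [Group G] [Finite G],
    Nat.card G = n → Nat.card (Sylow 17 G) ≠ 35 := by
  intro n
  induction n using Nat.strong_induction_on with
  | _ n ih =>
  intro G _ _ hc hn
  have ih' : ∀ (H : Type u) [Group H] [Finite H],
      Nat.card H < Nat.card G → Nat.card (Sylow 17 H) ≠ 35 :=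
    fun H _ _ h => ih _ (hc ▸ h) H rfl
  have hntop : ∀ P : Sylow 17 G, (P : Subgroup G) ≠ ⊤ := fun P h => by
    have := index_norm hn P
    rw [top_le_iff.1 (le_normalizer.trans' h.ge : (⊤ : Subgroup G) ≤ normalizer ((P : Subgroup G) : Set G)), index_top] at this
    omega
  have h17 : ∀ P : Sylow 17 G, Nat.card (P : Subgroup G) = 17 := by
    refine card_eq_prime hn fun D hDn hDp => ?_
    by_contra hD
    obtain ⟨P⟩ : Nonempty (Sylow 17 G) := inferInstance
    haveI := hDn
    exact hntop P ((sup_eq_left.2 (hDp.le_sylow_of_normal P)).symm.trans (sup_eq_top hn ih' hD P))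
  haveI : Nontrivial G := by
    by_contra h
    rw [not_nontrivial_iff_subsingleton] at h
    obtain ⟨P⟩ : Nonempty (Sylow 17 G) := inferInstance
    exact hntop P (Subsingleton.elim _ _)
  haveI : IsSimpleGroup G := by
    refine { exists_pair_ne := exists_pair_ne G, eq_bot_or_eq_top_of_normal := fun M hMn => ?_ }
    haveI := hMn
    by_contra hM
    push Not at hM
    obtain ⟨hM1, hM2⟩ := hM
    obtain ⟨P₀⟩ : Nonempty (Sylow 17 G) := inferInstance
    have hinf : ∀ P : Sylow 17 G, (P : Subgroup G) ⊓ M = ⊥ := by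
      intro P
      by_contra hb
      have heq : (P : Subgroup G) ⊓ M = P := by
        refine eq_of_le_of_card_ge inf_le_left ?_
        have hd : Nat.card ↥((P : Subgroup G) ⊓ M) ∣ 17 :=
          (card_dvd_of_le inf_le_left).trans (h17 P).dvd
        rcases (by norm_num : Nat.Prime 17).eq_one_or_self_of_dvd _ hd with h | h
        · exact absurd (eq_bot_of_card_eq _ h) hb
        · rw [h, h17 P]
      exact hM2 (by rw [← sup_eq_top hn ih' hM1 P, sup_eq_right.2 (inf_eq_left.1 heq)])
    have hMi : M.index = 17 := by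
      have h := index_eq_card (H := M)
      rw [← relIndex_top_right M, ← sup_eq_top hn ih' hM1 P₀, relIndex_sup_right,
        ← inf_relIndex_right, inf_comm, hinf P₀, relIndex_bot_left, h17 P₀]
    haveI : Fact (Nat.Prime 5) := ⟨by norm_num⟩
    obtain ⟨R⟩ : Nonempty (Sylow 5 ↥M) := inferInstance
    set R' := (R : Subgroup ↥M).map M.subtype with hR'
    have hR'card : Nat.card R' = 5 ^ (Nat.card G).factorization 5 := by
      rw [hR', card_map_of_injective M.subtype_injective, R.card_eq_multiplicity,
        ← M.card_mul_index, hMi, Nat.factorization_mul Nat.card_pos.ne' (by norm_num)]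
      simp [Nat.factorization_eq_zero_of_not_dvd (show ¬ 5 ∣ 17 by norm_num)]
    have hfr : normalizer (R' : Set G) ⊔ M = ⊤ := R.normalizer_sup_eq_top
    have h17N : 17 ∣ Nat.card (normalizer (R' : Set G)) := by
      rw [← hMi, ← relIndex_top_right M, ← hfr, relIndex_sup_right]
      exact relIndex_dvd_card M _
    obtain ⟨⟨x, hxN⟩, hx⟩ := exists_prime_orderOf_dvd_card' (G := ↥(normalizer (R' : Set G))) 17 h17N
    rw [Subgroup.orderOf_mk] at hx
    obtain ⟨P, hP⟩ := (IsPGroup.of_card (n := 1) (by rw [Nat.card_zpowers, hx, pow_one]) :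
      IsPGroup 17 (zpowers x)).exists_le_sylow
    have hPx : zpowers x = P := eq_of_le_of_card_ge hP (by rw [Nat.card_zpowers, hx, h17 P])
    set H := R' ⊔ (P : Subgroup G) with hH
    have hPN : (P : Subgroup G) ≤ normalizer (R' : Set G) := by rw [← hPx]; exact zpowers_le.2 hxN
    haveI : (R'.subgroupOf H).Normal := by
      rw [hH, sup_comm]
      exact normal_subgroupOf_sup_of_le_normalizer hPN
    have hRP : (R' : Subgroup G) ⊓ P = ⊥ :=
      (IsPGroup.disjoint_of_ne 5 17 (by norm_num) _ _ (R.isPGroup'.map M.subtype) P.isPGroup').eq_bot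
    have hcardH : Nat.card H = Nat.card R' * 17 := by
      have h := (R'.subgroupOf H).card_mul_index
      rw [Nat.card_congr (subgroupOfEquivOfLe (hH ▸ le_sup_left : R' ≤ H)).toEquiv] at h
      rw [← h]; congr 1
      have e : (R'.subgroupOf H) ⊔ ((P : Subgroup G).subgroupOf H) = ⊤ := by
        rw [← subgroupOf_sup (hH ▸ le_sup_left) (hH ▸ le_sup_right), ← hH, subgroupOf_self]
      rw [← relIndex_top_right (R'.subgroupOf H), ← e, sup_comm, relIndex_sup_right,
        relIndex_subgroupOf (hH ▸ le_sup_right), ← inf_relIndex_right, hRP, relIndex_bot_left, h17 P]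
    set S := P.subtype (hH ▸ le_sup_right : (P : Subgroup G) ≤ H) with hS
    have hns : (normalizer ((S : Subgroup ↥H) : Set ↥H)).index = 1 := by
      set k := (normalizer ((S : Subgroup ↥H) : Set ↥H)).index
      have hk : Nat.card (Sylow 17 ↥H) = k := S.card_eq_index_normalizer
      have hle : k ≤ 35 := by
        rw [show k = ((normalizer ((P : Subgroup G) : Set G)).subgroupOf H).index from ?_,
          ← index_norm hn P, ← relIndex_top_right (normalizer ((P : Subgroup G) : Set G))]
        · exact relIndex_le_of_le_right le_top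
            (by rw [relIndex_top_right]; exact index_ne_zero_of_finite)
        · show (normalizer ((S : Subgroup ↥H) : Set ↥H)).index = _
          congr 1
          rw [hS, Sylow.coe_subtype]
          exact (subgroupOf_normalizer_eq (hH ▸ le_sup_right)).symm
      have hdvd : k ∣ Nat.card R' := by
        have h1 : k ∣ (S : Subgroup ↥H).index := index_dvd_of_le le_normalizer
        have h2 := (S : Subgroup ↥H).card_mul_index
        rw [hS, Sylow.coe_subtype, Nat.card_congr (subgroupOfEquivOfLe (hH ▸ le_sup_right : (P : Subgroup G) ≤ H)).toEquiv, h17 P, hcardH,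
          mul_comm (Nat.card R')] at h2
        rw [← Nat.eq_of_mul_eq_mul_left (by norm_num) h2]
        rwa [hS, Sylow.coe_subtype] at h1
      rw [hR'card] at hdvd
      obtain ⟨i, -, hi⟩ := (Nat.dvd_prime_pow (by norm_num)).1 hdvd
      have hmod := card_sylow_modEq_one 17 ↥H
      rw [hk, hi] at hmod
      rw [hi] at hle ⊢
      have hi2 : i ≤ 2 := by
        by_contra h
        have := Nat.pow_le_pow_right (show 1 ≤ 5 by norm_num) (show 3 ≤ i by omega)
        omega
      interval_cases i
      · rfl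
      all_goals (exact absurd hmod (by decide))
    have hRle : R' ≤ normalizer ((P : Subgroup G) : Set G) := by
      intro r hr
      have h1 := index_eq_one.1 hns
      have h2 : (⟨r, hH ▸ mem_sup_left hr⟩ : ↥H) ∈ normalizer ((S : Subgroup ↥H) : Set ↥H) :=
        h1 ▸ mem_top _
      rw [hS, Sylow.coe_subtype, ← subgroupOf_normalizer_eq (hH ▸ le_sup_right), mem_subgroupOf] at h2
      exact h2
    have h5 : 5 ^ ((Nat.card G).factorization 5) * 5 ∣ Nat.card G := by
      rw [← hR'card]
      conv_rhs => rw [← (normalizer ((P : Subgroup G) : Set G)).card_mul_index, index_norm hn P]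
      exact mul_dvd_mul (card_dvd_of_le hRle) (by norm_num)
    rw [← pow_succ] at h5
    have := ((by norm_num : Nat.Prime 5).pow_dvd_iff_le_factorization Nat.card_pos.ne').1 h5
    omega
  exact simple_case hn

end Cfsg.Agent.FGS80.Sylow35
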